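import Mathlib.GroupTheory.Sylow
import Mathlib.GroupTheory.QuotientGroup.Basic
import Mathlib.GroupTheory.SpecificGroups.Cyclic
import Mathlib.Tactic

/-!
# Centralizers modulo their element

The centralizer of an element of prime order modulo the subgroup it generates, lifts of involutions,
and a criterion for a small Sylow subgroup.
-/

set_option autoImplicit false
set_option linter.style.haveILetI false

namespace Cfsg.Lib.Extra.SuzLocal

open Subgroup

variable {G : Type*} [Group G]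

/-- The subgroup generated by `d` in its centralizer. -/
def selfGrp (d : G) : Subgroup ↥(centralizer ({d} : Set G)) :=
  zpowers ⟨d, mem_centralizer_singleton_iff.2 rfl⟩

instance selfGrp_normal (d : G) : (selfGrp d).Normal := ⟨fun a ha c => by
  obtain ⟨i, rfl⟩ := mem_zpowers_iff.1 ha
  refine mem_zpowers_iff.2 ⟨i, Subtype.ext ?_⟩
  have hc : Commute (c : G) d := mem_centralizer_singleton_iff.1 c.2
  show d ^ i = (c : G) * d ^ i * (c : G)⁻¹
  rw [(hc.zpow_right i).eq, mul_inv_cancel_right]⟩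

/-- The centralizer of `d` modulo `d`. -/
abbrev CQ (d : G) := ↥(centralizer ({d} : Set G)) ⧸ selfGrp d

/-- The projection on the quotient. -/
def cmk {d g : G} (hg : Commute g d) : CQ d :=
  QuotientGroup.mk' (selfGrp d) ⟨g, mem_centralizer_singleton_iff.2 hg.eq⟩

theorem cmk_surj {d : G} (y : CQ d) : ∃ (g : G) (hg : Commute g d), cmk hg = y := by
  obtain ⟨⟨g, hg⟩, rfl⟩ := QuotientGroup.mk'_surjective (selfGrp d) y
  exact ⟨g, mem_centralizer_singleton_iff.1 hg, rfl⟩

theorem cmk_mul {d g g' : G} (hg : Commute g d) (hg' : Commute g' d) :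
    cmk hg * cmk hg' = cmk (hg.mul_left hg') := rfl

theorem cmk_inv {d g : G} (hg : Commute g d) : (cmk hg)⁻¹ = cmk hg.inv_left := rfl

theorem cmk_one {d g : G} (hg : Commute g d) : cmk hg = 1 ↔ ∃ i : ℤ, g = d ^ i := by
  refine (QuotientGroup.eq_one_iff _).trans ⟨fun h => ?_, fun ⟨i, hi⟩ => ?_⟩
  · obtain ⟨i, hi⟩ := mem_zpowers_iff.1 h
    exact ⟨i, (congrArg Subtype.val hi).symm⟩
  · exact mem_zpowers_iff.2 ⟨i, Subtype.ext hi.symm⟩

theorem cmk_eq {d g g' : G} (hg : Commute g d) (hg' : Commute g' d) :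
    cmk hg = cmk hg' ↔ ∃ i : ℤ, g' = g * d ^ i := by
  rw [← inv_mul_eq_one, cmk_inv, cmk_mul, cmk_one]
  exact exists_congr fun i => inv_mul_eq_iff_eq_mul

theorem cmk_pow {d g : G} (hg : Commute g d) (n : ℕ) : cmk hg ^ n = cmk (hg.pow_left n) := by
  rw [cmk, cmk, ← map_pow]; rfl

variable {p : ℕ} {d : G}

theorem eq_one_of_sq (hd : orderOf d = p) (hp : Odd p) {i : ℤ} (h : d ^ i * d ^ i = 1) :
    d ^ i = 1 := by
  refine orderOf_eq_one_iff.1 (Nat.eq_one_of_dvd_coprimes (Nat.coprime_two_right.2 hp)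
    (orderOf_dvd_of_pow_eq_one ?_) (orderOf_dvd_of_pow_eq_one (by rw [pow_two]; exact h)))
  rw [← zpow_natCast, ← zpow_mul, mul_comm, zpow_mul, zpow_natCast, ← hd, pow_orderOf_eq_one,
    one_zpow]

/-- Equal involutions modulo `d` are equal. -/
theorem cmk_inj_sq (hd : orderOf d = p) (hp : Odd p) {a b : G} (ha : Commute a d) (hb : Commute b d)
    (ha2 : a * a = 1) (hb2 : b * b = 1) (e : cmk ha = cmk hb) : a = b := by
  obtain ⟨i, rfl⟩ := (cmk_eq ha hb).1 e
  have hc : Commute a (d ^ i) := ha.zpow_right i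
  rw [hc.symm.mul_mul_mul_comm, ha2, one_mul] at hb2
  rw [eq_one_of_sq hd hp hb2, mul_one]

/-- Commuting with an involution modulo `d` is commuting. -/
theorem cmk_commute (hd : orderOf d = p) (hp : Odd p) {g a : G} (hg : Commute g d) (ha : Commute a d)
    (ha2 : a * a = 1) (h : Commute (cmk hg) (cmk ha)) : Commute g a := by
  have hga : Commute (g * a * g⁻¹) d := (hg.mul_left ha).mul_left hg.inv_left
  refine mul_inv_eq_iff_eq_mul.1 (cmk_inj_sq hd hp hga ha ?_ ha2 ?_)
  · rw [show g * a * g⁻¹ * (g * a * g⁻¹) = g * (a * a) * g⁻¹ by group, ha2]; group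
  · rw [show cmk hga = cmk hg * cmk ha * (cmk hg)⁻¹ from rfl, h.eq, mul_inv_cancel_right]

theorem cmk_order_two (hd : orderOf d = p) (hp : Odd p) {a : G} (ha : Commute a d) (ha2 : a * a = 1)
    (h1 : a ≠ 1) : orderOf (cmk ha) = 2 := by
  haveI : Fact (Nat.Prime 2) := ⟨Nat.prime_two⟩
  refine orderOf_eq_prime ?_ fun e => h1 ?_
  · rw [pow_two, cmk_mul]
    exact (cmk_one _).2 ⟨0, by rw [ha2, zpow_zero]⟩
  · obtain ⟨i, rfl⟩ := (cmk_one ha).1 e
    exact eq_one_of_sq hd hp ha2

/-- An element of the quotient of order prime to `p` has a lift of the same exponent. -/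
theorem exists_lift (hd : orderOf d = p) {n : ℕ} (hn : n.Coprime p) {y : CQ d} (hy : y ^ n = 1) :
    ∃ (g : G) (hg : Commute g d), cmk hg = y ∧ g ^ n = 1 := by
  obtain ⟨j, hj⟩ := exists_pow_eq_self_of_coprime (x := y) (n := p)
    (Nat.Coprime.coprime_dvd_right (orderOf_dvd_of_pow_eq_one hy) hn.symm)
  obtain ⟨g, hg, rfl⟩ := cmk_surj y
  refine ⟨(g ^ p) ^ j, (hg.pow_left p).pow_left j, ?_, ?_⟩
  · rw [← cmk_pow (hg.pow_left p), ← cmk_pow hg, hj]
  · rw [cmk_pow, cmk_one] at hy
    obtain ⟨i, hi⟩ := hy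
    rw [← pow_mul, ← pow_mul, show p * (j * n) = n * (p * j) by ring, pow_mul, hi, pow_mul,
      ← zpow_natCast (d ^ i), ← zpow_mul, mul_comm i, zpow_mul, zpow_natCast, ← hd, pow_orderOf_eq_one,
      one_zpow, one_pow]

theorem card_centralizer (hd : orderOf d = p) :
    Nat.card ↥(centralizer ({d} : Set G)) = p * Nat.card (CQ d) := by
  rw [card_eq_card_quotient_mul_card_subgroup (selfGrp d), selfGrp, Nat.card_zpowers,
    ← Subgroup.orderOf_coe, mul_comm]
  exact congrArg (· * _) hd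

variable [Finite G]

/-- A centralizer with a small Sylow subgroup makes all of them small. -/
theorem not_sq_dvd [hp : Fact p.Prime] (hd : orderOf d = p)
    (h : ¬ p ^ 2 ∣ Nat.card ↥(centralizer ({d} : Set G))) : ¬ p ^ 2 ∣ Nat.card G := by
  intro hG
  obtain ⟨P, hP⟩ := (IsPGroup.of_card (n := 1) (by rw [Nat.card_zpowers, hd, pow_one]) :
    IsPGroup p (zpowers d)).exists_le_sylow
  have hdP : d ∈ (P : Subgroup G) := hP (mem_zpowers d)
  haveI : Nontrivial (P : Subgroup G) := ⟨⟨d, hdP⟩, 1, fun e => by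
    have e' : d = 1 := congrArg Subtype.val e
    rw [e', orderOf_one] at hd
    exact hp.out.one_lt.ne hd⟩
  haveI := P.2.center_nontrivial
  obtain ⟨k, hk⟩ := IsPGroup.iff_card.1 (P.2.to_subgroup (center (P : Subgroup G)))
  have hk0 : k ≠ 0 := fun e => by
    have := Finite.one_lt_card (α := center (P : Subgroup G))
    rw [hk, e, pow_zero] at this
    exact lt_irrefl _ this
  obtain ⟨⟨⟨e, heP⟩, hec⟩, he⟩ := exists_prime_orderOf_dvd_card' (G := center (P : Subgroup G)) p
    (hk ▸ dvd_pow_self p hk0)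
  rw [Subgroup.orderOf_mk, Subgroup.orderOf_mk] at he
  have hcomm : ∀ a ∈ (P : Subgroup G), Commute a e := fun a ha =>
    congrArg Subtype.val (mem_center_iff.1 hec ⟨a, ha⟩)
  have hed : Commute e d := (hcomm d hdP).symm
  by_cases hm : e ∈ zpowers d
  · refine h (((pow_dvd_pow p ((hp.out.pow_dvd_iff_le_factorization Nat.card_pos.ne').1 hG)).trans
      (dvd_of_eq P.card_eq_multiplicity.symm)).trans (card_dvd_of_le fun a ha => ?_))
    have hmd : d ∈ zpowers e := by
      rw [eq_of_le_of_card_ge (zpowers_le.2 hm) (by rw [Nat.card_zpowers, Nat.card_zpowers, hd, he])]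
      exact mem_zpowers d
    obtain ⟨i, hi⟩ := mem_zpowers_iff.1 hmd
    rw [mem_centralizer_singleton_iff, ← hi]
    exact ((hcomm a ha).zpow_right i).eq
  · refine h ?_
    rw [card_centralizer hd, pow_two]
    refine mul_dvd_mul_left p ?_
    have ho : orderOf (cmk hed) = p := orderOf_eq_prime (by
      rw [cmk_pow]; exact (cmk_one _).2 ⟨0, by rw [← he, pow_orderOf_eq_one, zpow_zero]⟩)
      fun h1 => hm (by obtain ⟨i, rfl⟩ := (cmk_one hed).1 h1; exact zpow_mem (mem_zpowers d) i)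
    exact ho ▸ orderOf_dvd_natCard _

end Cfsg.Lib.Extra.SuzLocal
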