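import Cfsg.Agent.Lib.Extra.SuzLocal.Six
import Cfsg.Agent.Lib.Extra.SuzLocal.CQuot
import Cfsg.Agent.Lib.Extra.Wide.FivePoint
import Cfsg.Agent.Lib.Small.CentralizerD8
import Cfsg.Agent.S0206
import Cfsg.Agent.S0848

/-!
# Elements of order five centralizing a conjugate of `z`

Such an element fixes a hyperbolic plane of `Q/⟨z⟩`; the involution centralizers of its centralizer
modulo itself are dihedral of order eight and fused, so that quotient has order 168 or 360.
-/

set_option autoImplicit false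
set_option linter.style.haveILetI false
set_option linter.unusedSectionVars false

namespace Cfsg.Lib.Extra.SuzLocal

open Cfsg Module Cfsg.Lib.Linear.Orth Cfsg.Lib.Extra.Wide
open scoped Matrix

universe u

variable {G : Type u} [Group G] {ι : Type} [Fintype ι] [DecidableEq ι] {D : Data G ι}

theorem dihedral_four_central : ∀ {a b : DihedralGroup 4}, (∀ g, Commute a g) → (∀ g, Commute b g) →
    a ≠ 1 → b ≠ 1 → a = b := by
  have key : ∀ a : DihedralGroup 4, a * .r 1 = .r 1 * a → a * .sr 0 = .sr 0 * a → a ≠ 1 →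
      a = .r 2 := by decide
  exact fun {a b} ha hb ha1 hb1 =>
    (key a (ha _).eq (ha _).eq ha1).trans (key b (hb _).eq (hb _).eq hb1).symm

/-- The numbers of the six-dimensional minus form. -/
structure Model (D : Data G ι) : Prop where
  six : IsSix D
  omega : Nat.card ↥(Cfsg.Geo.omegaGL D.qf) = 25920
  sing : Nat.card {w : ι → ZMod 2 // D.qf w = 0} = 28

theorem Model.conj (M : Model D) (k : G) : Model (D.conj k) := ⟨M.six.conj k, M.omega, M.sing⟩

theorem pick_z_mem (D : Data G ι) (i : ZMod 2) : pick D.z i ∈ D.Q ∧ D.cls (pick D.z i) = 0 := by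
  rcases bit i with rfl | rfl <;> simp [one_mem, D.ctx.mem, D.cls_one, D.cls_z]

variable [Finite G]

theorem card_Q (M : Model D) : Nat.card ↥D.Q = 128 := by
  choose sec hsec hcls using D.cls_surj
  let f : ZMod 2 × (ι → ZMod 2) → ↥D.Q := fun e =>
    ⟨pick D.z e.1 * sec e.2, mul_mem (pick_z_mem D e.1).1 (hsec _)⟩
  have hf : Function.Bijective f := by
    refine ⟨?_, ?_⟩
    · rintro ⟨i, w⟩ ⟨j, w'⟩ e
      have e' : pick D.z i * sec w = pick D.z j * sec w' := congrArg Subtype.val e
      have hw := congrArg D.cls e'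
      rw [D.cls_mul _ (pick_z_mem D i).1 _ (hsec _), D.cls_mul _ (pick_z_mem D j).1 _ (hsec _),
        (pick_z_mem D i).2, (pick_z_mem D j).2, hcls, hcls, zero_add, zero_add] at hw
      subst hw
      have hp := mul_right_cancel e'
      rcases bit i with rfl | rfl <;> rcases bit j with rfl | rfl <;>
        simp only [pick_zero, pick_one] at hp
      · rfl
      · exact absurd hp.symm D.ctx.ne_one
      · exact absurd hp D.ctx.ne_one
      · rfl
    · rintro ⟨a, ha⟩
      rcases D.cls_eq (hsec (D.cls a)) ha (by rw [hcls]) with e | e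
      · exact ⟨(0, D.cls a), Subtype.ext ((congrArg (· * _) (pick_zero D.z)).trans ((one_mul _).trans e.symm))⟩
      · exact ⟨(1, D.cls a), Subtype.ext ((congrArg (· * _) (pick_one D.z)).trans e.symm)⟩
  rw [← Nat.card_eq_of_bijective f hf, Nat.card_prod, Nat.card_zmod, Nat.card_fun,
    Nat.card_zmod, Nat.card_eq_fintype_card (α := ι), M.six.card]
  norm_num

theorem card_cz (M : Model D) : Nat.card ↥(Subgroup.centralizer ({D.z} : Set G)) = 3317760 := by
  let f : ↥(Subgroup.centralizer ({D.z} : Set G)) →* ↥(Cfsg.Geo.omegaGL D.qf) :=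
    MonoidHom.mk' (fun c => ⟨D.act c, D.act_mem _ (Subgroup.mem_centralizer_singleton_iff.1 c.2)⟩)
      fun a b => Subtype.ext (D.act_mul _ _ (Subgroup.mem_centralizer_singleton_iff.1 a.2)
        (Subgroup.mem_centralizer_singleton_iff.1 b.2))
  have hQ : D.Q ≤ Subgroup.centralizer ({D.z} : Set G) := fun a ha =>
    Subgroup.mem_centralizer_singleton_iff.2 (D.ctx.central a ha).symm.eq
  have hk : f.ker = D.Q.subgroupOf (Subgroup.centralizer ({D.z} : Set G)) := by
    ext c
    exact Subtype.ext_iff.trans (D.act_ker _ (Subgroup.mem_centralizer_singleton_iff.1 c.2))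
  have hsur : Function.Surjective f := fun g => by
    obtain ⟨c, hc, e⟩ := D.act_surj g.1 g.2
    exact ⟨⟨c, Subgroup.mem_centralizer_singleton_iff.2 hc.eq⟩, Subtype.ext e⟩
  rw [Subgroup.card_eq_card_quotient_mul_card_subgroup f.ker,
    Nat.card_congr (QuotientGroup.quotientKerEquivOfSurjective f hsur).toEquiv, M.omega, hk,
    Nat.card_congr (Subgroup.subgroupOfEquivOfLe hQ).toEquiv, card_Q M]

/-- An element of order five centralizing `z`. -/
structure BFive (D : Data G ι) (b : G) : Prop where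
  model : Model D
  order : orderOf b = 5
  comm : Commute b D.z

namespace BFive

variable {b : G} (H : BFive D b)
include H

theorem pow5 : b ^ 5 = 1 := H.order ▸ pow_orderOf_eq_one b

theorem act5 : D.act b ^ 5 = 1 := D.act_five H.pow5 H.comm

theorem iso : D.act b ∈ isometryGroup (ZMod 2) D.qf := D.act_iso H.comm

theorem act_ne : D.act b ≠ 1 := fun e => by
  have h1 : b ^ 4 = 1 := by
    rw [show b ^ 4 = b * b * (b * b) by simp [pow_succ, mul_assoc]]
    rcases D.ctx.sq b ((D.act_ker b H.comm).1 e) with e' | e' <;> simp [e', D.ctx.sq_z]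
  have h2 := orderOf_dvd_of_pow_eq_one h1
  rw [H.order] at h2
  norm_num at h2

/-- The fixed plane. -/
theorem exists_plane : ∃ w w' : ι → ZMod 2, (D.act b).val *ᵥ w = w ∧ (D.act b).val *ᵥ w' = w' ∧
    D.qf w = 0 ∧ D.qf w' = 0 ∧ D.B w w' = 1 ∧
    finrank (ZMod 2) (LinearMap.range (nMap (D.act b))) = 4 ∧
    fixSpace (D.act b) = Submodule.span (ZMod 2) {w} ⊔ Submodule.span (ZMod 2) {w'} := by
  classical
  haveI : Fact (Nat.Prime 5) := ⟨by norm_num⟩
  set g := D.act b with hg
  let P := Subgroup.zpowers g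
  have hiso : ∀ k : P, (k : GL ι (ZMod 2)) ∈ isometryGroup (ZMod 2) D.qf := fun k => by
    obtain ⟨i, hi⟩ := Subgroup.mem_zpowers_iff.1 k.2
    rw [← hi]; exact zpow_mem H.iso i
  letI : MulAction P {w : ι → ZMod 2 // D.qf w = 0} :=
    { smul := fun k w => ⟨(k : GL ι (ZMod 2)).val *ᵥ w.1, by rw [mem_iso.1 (hiso k), w.2]⟩
      one_smul := fun w => Subtype.ext (show (1 : GL ι (ZMod 2)).val *ᵥ w.1 = w.1 by
        rw [Units.val_one, Matrix.one_mulVec])
      mul_smul := fun a c w => Subtype.ext (mul_act (a : GL ι (ZMod 2)) (c : GL ι (ZMod 2)) w.1) }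
  have hP : IsPGroup 5 P := IsPGroup.of_card (n := 1) (by
    rw [Nat.card_zpowers, pow_one]; exact orderOf_eq_prime H.act5 H.act_ne)
  have hmod := hP.card_modEq_card_fixedPoints {w : ι → ZMod 2 // D.qf w = 0}
  rw [H.model.sing] at hmod
  obtain ⟨⟨⟨w, hw0⟩, hwf⟩, hwne⟩ : ∃ w : MulAction.fixedPoints P {w : ι → ZMod 2 // D.qf w = 0},
      w.1.1 ≠ 0 := by
    by_contra hc
    push Not at hc
    have hle : Nat.card (MulAction.fixedPoints P {w : ι → ZMod 2 // D.qf w = 0}) ≤ 1 := by
      haveI : Subsingleton (MulAction.fixedPoints P {w : ι → ZMod 2 // D.qf w = 0}) :=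
        ⟨fun a c => Subtype.ext (Subtype.ext ((hc a).trans (hc c).symm))⟩
      exact Finite.card_le_one_iff_subsingleton.2 this
    unfold Nat.ModEq at hmod
    omega
  have hwfix : g.val *ᵥ w = w :=
    congrArg Subtype.val (hwf ⟨g, Subgroup.mem_zpowers g⟩)
  obtain ⟨w1, hw1, hww1⟩ : ∃ w1, g.val *ᵥ w1 = w1 ∧ D.B w w1 = 1 := by
    by_contra hc
    push Not at hc
    exact hwne (five_nondeg_fix D.space H.iso H.act5 hwfix fun c hcf =>
      (bit _).resolve_right (hc c hcf))
  set w' := w1 + D.qf w1 • w with hw'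
  have hw'f : g.val *ᵥ w' = w' := by rw [hw', Matrix.mulVec_add, Matrix.mulVec_smul, hw1, hwfix]
  have hB : D.B w w' = 1 := by simp [hw', hww1, B_self D.space]
  have hQ : D.qf w' = 0 := by
    rw [hw', D.space.add, D.space.smul, hw0, map_smul, smul_eq_mul, D.space.symm, hww1]
    simp [bit_self]
  have hw'n : w' ∉ Submodule.span (ZMod 2) {w} := fun hm => by
    obtain ⟨c, hc⟩ := Submodule.mem_span_singleton.1 hm
    rw [← hc] at hB
    simp [B_self D.space] at hB
  have h2 := finrank_sup_one hw'n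
  rw [finrank_span_singleton hwne] at h2
  have hle : Submodule.span (ZMod 2) {w} ⊔ Submodule.span (ZMod 2) {w'} ≤ fixSpace g :=
    sup_le ((Submodule.span_singleton_le_iff_mem _ _).2 (mem_fix.2 hwfix))
      ((Submodule.span_singleton_le_iff_mem _ _).2 (mem_fix.2 hw'f))
  have h3 := Submodule.finrank_mono hle
  have h4 := five_range_ge H.act5 H.act_ne
  have h5 := finrank_range_nMap g
  rw [H.model.six.card] at h5
  rw [← hg] at h4
  refine ⟨w, w', hwfix, hw'f, hw0, hQ, hB, by omega,
    (Submodule.eq_of_le_of_finrank_le hle (by omega)).symm⟩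

/-- Two non-commuting involutions of `Q` centralized by `b`, and the centralizer in `C(z)`. -/
theorem structure_z : ∃ q q' : G, q ∈ D.Q ∧ q' ∈ D.Q ∧ q * q = 1 ∧ q' * q' = 1 ∧
    Commute b q ∧ Commute b q' ∧ q * q' * q⁻¹ = D.z * q' ∧ ¬ Commute q q' ∧
    ∀ c, Commute c D.z → Commute c b →
      ∃ (n : ℕ) (i j k : ZMod 2), c = pick D.z i * (pick q j * pick q' k) * b ^ n := by
  obtain ⟨w, w', hw, hw', hQw, hQw', hB, hU, hfix⟩ := H.exists_plane
  obtain ⟨q, hq, hqw⟩ := D.cls_surj w
  obtain ⟨q', hq', hqw'⟩ := D.cls_surj w'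
  have hbq : Commute b q := D.commute_of_fix H.pow5 H.comm hq (by rw [hqw]; exact hw)
  have hbq' : Commute b q' := D.commute_of_fix H.pow5 H.comm hq' (by rw [hqw']; exact hw')
  have hmove : q * q' * q⁻¹ = D.z * q' := D.q_move hq hq' (by rw [hqw, hqw']; exact hB)
  refine ⟨q, q', hq, hq', (D.cls_sq q hq).2 (by rw [hqw]; exact hQw),
    (D.cls_sq q' hq').2 (by rw [hqw']; exact hQw'), hbq, hbq', hmove, fun e => ?_, ?_⟩
  · rw [e.eq, mul_inv_cancel_right] at hmove
    exact D.ctx.ne_one (right_eq_mul.1 hmove)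
  intro c hcz hcb
  have hgc : Commute (D.act b) (D.act c) := by
    show D.act b * D.act c = D.act c * D.act b
    rw [← D.act_mul _ _ H.comm hcz, ← D.act_mul _ _ hcz H.comm, hcb.eq]
  obtain ⟨m, hm⟩ := five_centralizer_range D.space H.iso H.act5 hU (D.act_iso hcz) hgc
  set c0 := c * (b ^ m)⁻¹ with hc0
  have hc0z : Commute c0 D.z := hcz.mul_left (H.comm.pow_left m).inv_left
  have hc0b : Commute c0 b := hcb.mul_left ((Commute.refl b).pow_left m).inv_left
  set k := D.act c0 with hk
  have hk0 : k = D.act c * (D.act b ^ m)⁻¹ := by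
    rw [hk, hc0, D.act_mul _ _ hcz (H.comm.pow_left m).inv_left, D.act_inv (H.comm.pow_left m),
      D.act_pow H.comm]
  have hkiso := D.act_iso hc0z
  have hku : ∀ u ∈ LinearMap.range (nMap (D.act b)), k.val *ᵥ u = u := fun u hu => by
    rw [hk0, mul_act, hm _ (range_inv (((Commute.refl (D.act b)).pow_right m).inv_right) hu), act_inv]
  have hgk : Commute (D.act b) k := by
    rw [hk0]; exact hgc.mul_right ((Commute.refl (D.act b)).pow_right m).inv_right
  have hspan : ∀ {x}, (D.act b).val *ᵥ x = x → ∃ α β : ZMod 2, x = α • w + β • w' := fun {x} hx => by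
    have h1 : x ∈ fixSpace (D.act b) := mem_fix.2 hx
    rw [hfix] at h1
    obtain ⟨_, ha, _, hb', rfl⟩ := Submodule.mem_sup.1 h1
    obtain ⟨α, rfl⟩ := Submodule.mem_span_singleton.1 ha
    obtain ⟨β, rfl⟩ := Submodule.mem_span_singleton.1 hb'
    exact ⟨α, β, rfl⟩
  have hwne : w ≠ 0 ∧ w' ≠ 0 := by
    constructor <;> rintro rfl <;> simp at hB
  have himg : ∀ {x}, (D.act b).val *ᵥ x = x → x ≠ 0 → D.qf x = 0 → k.val *ᵥ x = w ∨ k.val *ᵥ x = w' := by
    intro x hx hx0 hQx
    obtain ⟨α, β, he⟩ := hspan (fix_inv hgk hx)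
    have hQ : D.qf (α • w + β • w') = 0 := by rw [← he, mem_iso.1 hkiso, hQx]
    rw [D.space.add, D.space.smul, D.space.smul, hQw, hQw', map_smul, map_smul,
      LinearMap.smul_apply, hB] at hQ
    simp at hQ
    rcases bit α with rfl | rfl <;> rcases bit β with rfl | rfl
    · exact absurd (by simpa using he) (act_ne_zero hx0)
    · exact Or.inr (by simpa using he)
    · exact Or.inl (by simpa using he)
    · simp at hQ
  have hk1 : k = 1 := by
    have hext : ∀ {k' : GL ι (ZMod 2)}, (∀ u ∈ LinearMap.range (nMap (D.act b)), k'.val *ᵥ u = u) →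
        k.val *ᵥ w = k'.val *ᵥ w → k.val *ᵥ w' = k'.val *ᵥ w' → k = k' := by
      intro k' hu e1 e2
      refine gl_ext fun x => ?_
      obtain ⟨f, u, hf, hu', rfl⟩ := five_decomp H.act5 x
      obtain ⟨α, β, rfl⟩ := hspan hf
      simp only [Matrix.mulVec_add, Matrix.mulVec_smul, e1, e2, hku u hu', hu u hu']
    have e1 := himg hw hwne.1 hQw
    have e2 := himg hw' hwne.2 hQw'
    have hne : k.val *ᵥ w ≠ k.val *ᵥ w' := fun e => by
      have h := D.space.B_act hkiso w w'
      rw [e, B_self D.space, hB] at h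
      exact zero_ne_one h
    rcases e1 with e1 | e1 <;> rcases e2 with e2 | e2
    · exact absurd (e1.trans e2.symm) hne
    · exact hext (fun u _ => by rw [Units.val_one, Matrix.one_mulVec])
        (by rw [Units.val_one, Matrix.one_mulVec, e1]) (by rw [Units.val_one, Matrix.one_mulVec, e2])
    · exfalso
      have hQa : D.qf (w + w') = 1 := by rw [D.space.add, hQw, hQw', hB, zero_add, zero_add]
      have hperp : ∀ u ∈ LinearMap.range (nMap (D.act b)), D.B (w + w') u = 0 := fun u hu => by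
        rw [map_add, LinearMap.add_apply, five_orth D.space H.iso hw hu,
          five_orth D.space H.iso hw' hu, add_zero]
      have hr : k = rGL D.qf (w + w') := hext (fun u hu => by
          rw [rGL_apply D.space hQa, hperp u hu, zero_smul, add_zero])
        (by rw [e1, rGL_apply D.space hQa, map_add, LinearMap.add_apply, B_self D.space, D.space.symm w',
          hB, zero_add, one_smul, ← add_assoc, vadd_self, zero_add])
        (by rw [e2, rGL_apply D.space hQa, map_add, LinearMap.add_apply, B_self D.space, hB,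
          add_zero, one_smul, add_comm w w', ← add_assoc, vadd_self, zero_add])
      have h5 : 5 ≤ Fintype.card ι := by rw [H.model.six.card]; norm_num
      obtain ⟨a, ha⟩ := (mem_omega_iff D.space h5 D.ev (rGL_mem' D.space hQa)).1
        (hr ▸ D.act_mem c0 hc0z)
      obtain ⟨a', ha'⟩ := D.ev
      have := fix_rGL_card D.space hQa
      omega
    · exact absurd (e1.trans e2.symm) hne
  have hc0Q : c0 ∈ D.Q := (D.act_ker c0 hc0z).1 hk1
  obtain ⟨j, l, hjl⟩ := hspan (D.fix_of_commute H.comm hc0Q hc0b.symm)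
  have hmem : ∀ {a : G} (s : ZMod 2), a ∈ D.Q → pick a s ∈ D.Q ∧ D.cls (pick a s) = s • D.cls a :=
    fun {a} s ha => by rcases bit s with rfl | rfl <;> simp [ha, one_mem, D.cls_one]
  have hqq : pick q j * pick q' l ∈ D.Q := mul_mem (hmem j hq).1 (hmem l hq').1
  have hcl : D.cls (pick q j * pick q' l) = D.cls c0 := by
    rw [D.cls_mul _ (hmem j hq).1 _ (hmem l hq').1, (hmem j hq).2, (hmem l hq').2, hqw, hqw', hjl]
  have hce : c = c0 * b ^ m := by rw [hc0]; group
  rcases D.cls_eq hqq hc0Q hcl with e | e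
  · exact ⟨m, 0, j, l, by rw [hce, e]; simp⟩
  · exact ⟨m, 1, j, l, by rw [hce, e]; simp⟩

/-- The centralizer of `z` in the quotient is dihedral of order eight. -/
theorem dihedral : Nonempty (↥(Subgroup.centralizer ({cmk (d := b) H.comm.symm} : Set (CQ b))) ≃*
    DihedralGroup 4) := by
  haveI : Fact (Nat.Prime 2) := ⟨Nat.prime_two⟩
  obtain ⟨q, q', hq, hq', hqq, hq'q', hbq, hbq', hmove, hne, hall⟩ := H.structure_z
  have hq1 : q ≠ 1 := fun e => hne (e ▸ Commute.one_left _)
  have hq'1 : q' ≠ 1 := fun e => hne (e ▸ Commute.one_right _)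
  have h5 : Odd 5 := ⟨2, rfl⟩
  set qb := cmk (d := b) hbq.symm
  set q'b := cmk (d := b) hbq'.symm
  set zb := cmk (d := b) H.comm.symm
  have hz : qb * q'b * (qb * q'b) = zb := by
    have e : q * q' * (q * q') = D.z := by
      calc q * q' * (q * q') = q * q' * q⁻¹ * q' := by
            rw [inv_eq_of_mul_eq_one_right hqq]; group
        _ = D.z := by rw [hmove, mul_assoc, hq'q', mul_one]
    rw [cmk_mul, cmk_mul]
    exact congrArg (QuotientGroup.mk' _) (Subtype.ext e)
  have hz1 : orderOf zb = 2 := cmk_order_two H.order h5 _ D.ctx.sq_z D.ctx.ne_one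
  have ho : orderOf (qb * q'b) = 4 := by
    rw [show (4 : ℕ) = 2 ^ (1 + 1) from rfl]
    refine orderOf_eq_prime_pow (fun e => ?_) ?_
    · rw [pow_one, pow_two, hz] at e
      rw [e, orderOf_one] at hz1
      norm_num at hz1
    · rw [show 2 ^ (1 + 1) = 2 * 2 from rfl, pow_mul, pow_two (qb * q'b), hz, ← hz1, pow_orderOf_eq_one]
  obtain ⟨e⟩ := Cfsg.Agent.S0206.result qb q'b (cmk_order_two H.order h5 _ hqq hq1)
    (cmk_order_two H.order h5 _ hq'q' hq'1)
    fun e => hne (by rw [cmk_inj_sq H.order h5 _ _ hqq hq'q' e])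
  rw [ho] at e
  have hcl : Subgroup.closure ({qb, q'b} : Set (CQ b)) = Subgroup.centralizer ({zb} : Set (CQ b)) := by
    refine le_antisymm ((Subgroup.closure_le _).2 ?_) fun y hy => ?_
    · rintro y (rfl | rfl) <;> refine Subgroup.mem_centralizer_singleton_iff.2 ?_
      · rw [cmk_mul, cmk_mul]
        exact congrArg (QuotientGroup.mk' _) (Subtype.ext (D.ctx.central q hq).symm.eq)
      · rw [cmk_mul, cmk_mul]
        exact congrArg (QuotientGroup.mk' _) (Subtype.ext (D.ctx.central q' hq').symm.eq)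
    · obtain ⟨c, hcb, rfl⟩ := cmk_surj y
      have hcz := cmk_commute H.order h5 hcb H.comm.symm D.ctx.sq_z
        (Subgroup.mem_centralizer_singleton_iff.1 hy)
      obtain ⟨n, i, j, k, hc⟩ := hall c hcz hcb
      have hmem : ∀ {a : G} (ha : Commute a b) (s : ZMod 2),
          cmk ha ∈ Subgroup.closure ({qb, q'b} : Set (CQ b)) →
          cmk (pick_comm ha s) ∈ Subgroup.closure ({qb, q'b} : Set (CQ b)) := fun {a} ha s hm => by
        rcases bit s with rfl | rfl
        · rw [show cmk (pick_comm ha 0) = 1 from (cmk_one _).2 ⟨0, by simp⟩]; exact one_mem _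
        · rwa [show cmk (pick_comm ha 1) = cmk ha from congrArg (QuotientGroup.mk' _)
            (Subtype.ext (pick_one a))]
      have hq0 : qb ∈ Subgroup.closure ({qb, q'b} : Set (CQ b)) := Subgroup.subset_closure (Or.inl rfl)
      have hq'0 : q'b ∈ Subgroup.closure ({qb, q'b} : Set (CQ b)) := Subgroup.subset_closure (Or.inr rfl)
      have hz0 : zb ∈ Subgroup.closure ({qb, q'b} : Set (CQ b)) :=
        hz ▸ mul_mem (mul_mem hq0 hq'0) (mul_mem hq0 hq'0)
      have hmain := mul_mem (hmem H.comm.symm i hz0)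
        (mul_mem (hmem hbq.symm j hq0) (hmem hbq'.symm k hq'0))
      rw [cmk_mul, cmk_mul] at hmain
      convert hmain using 1
      refine (cmk_eq _ _).2 ⟨-(n : ℤ), ?_⟩
      rw [hc, zpow_neg, zpow_natCast, mul_inv_cancel_right]
  exact ⟨(MulEquiv.subgroupCongr hcl).symm.trans e⟩

end BFive

/-- The centralizer of an element of order five centralizing a conjugate of `z`. -/
theorem card_CQ_b (M : Model D) {a b : G} (hb : orderOf b = 5) (ha : D.Cl a) (hab : Commute b a) :
    Nat.card (CQ b) = 168 ∨ Nat.card (CQ b) = 360 := by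
  haveI : Fact (Nat.Prime 2) := ⟨Nat.prime_two⟩
  -- any conjugate of `z` centralized by `b`
  have key : ∀ {a : G}, D.Cl a → ∀ hab : Commute b a,
      Nonempty (↥(Subgroup.centralizer ({cmk (d := b) hab.symm} : Set (CQ b))) ≃* DihedralGroup 4) := by
    rintro a ⟨k, rfl⟩ hab
    exact (show BFive (D.conj k) b from ⟨M.conj k, hb, hab⟩).dihedral
  obtain ⟨k, rfl⟩ := ha
  set D' := D.conj k
  have H : BFive D' b := ⟨M.conj k, hb, hab⟩
  obtain ⟨q, q', hq, hq', hqq, hq'q', hbq, hbq', hmove, hne, hall⟩ := H.structure_z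
  have h5 : Odd 5 := ⟨2, rfl⟩
  set zb := cmk (d := b) H.comm.symm with hzb
  have hz2 : orderOf zb = 2 := cmk_order_two hb h5 _ D'.ctx.sq_z D'.ctx.ne_one
  obtain ⟨e⟩ := H.dihedral
  obtain ⟨S, hS⟩ := Lib.Small.CentralizerD8.exists_sylow_eq e hz2
  -- conjugates of `z` become conjugate modulo `b`
  have hfuse : ∀ {c : G}, D'.Cl c → ∀ hbc : Commute b c, ∃ g, g * cmk (d := b) hbc.symm * g⁻¹ = zb := by
    intro c hc hbc
    set cb := cmk (d := b) hbc.symm
    have hc2 : orderOf cb = 2 := cmk_order_two hb h5 _ (hc.sq D') (hc.ne_one D')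
    obtain ⟨e'⟩ := key (show D.Cl c from cl_of_conj hc) hbc
    obtain ⟨S', hS'⟩ := Lib.Small.CentralizerD8.exists_sylow_eq e' hc2
    obtain ⟨g, hg⟩ := MulAction.exists_smul_eq (CQ b) S' S
    refine ⟨g, ?_⟩
    have hmem : ∀ {y}, Commute y cb → g * y * g⁻¹ ∈ (S : Subgroup (CQ b)) := fun {y} hy => by
      rw [← hg]
      exact ⟨y, hS' ▸ Subgroup.mem_centralizer_singleton_iff.2 hy.eq, rfl⟩
    have hgc : g * cb * g⁻¹ ∈ Subgroup.centralizer ({zb} : Set (CQ b)) := hS ▸ hmem (Commute.refl cb)
    have hzc : zb ∈ Subgroup.centralizer ({zb} : Set (CQ b)) :=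
      Subgroup.mem_centralizer_singleton_iff.2 rfl
    have hcent : ∀ y : ↥(Subgroup.centralizer ({zb} : Set (CQ b))),
        Commute (⟨g * cb * g⁻¹, hgc⟩ : ↥(Subgroup.centralizer ({zb} : Set (CQ b)))) y := fun y => by
      refine Subtype.ext (show Commute (g * cb * g⁻¹) (y : CQ b) from ?_).eq
      have hy : (y : CQ b) ∈ (S : Subgroup (CQ b)) := by rw [hS]; exact y.2
      rw [← hg] at hy
      obtain ⟨y0, hy0, hy0e⟩ := hy
      rw [← hy0e]
      exact (Commute.conj_iff g).2
        (show Commute y0 cb from Subgroup.mem_centralizer_singleton_iff.1 (hS' ▸ hy0)).symm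
    have hzcent : ∀ y : ↥(Subgroup.centralizer ({zb} : Set (CQ b))),
        Commute (⟨zb, hzc⟩ : ↥(Subgroup.centralizer ({zb} : Set (CQ b)))) y := fun y =>
      Subtype.ext (show Commute zb (y : CQ b) from
        (Subgroup.mem_centralizer_singleton_iff.1 y.2).symm).eq
    have := dihedral_four_central (a := e ⟨g * cb * g⁻¹, hgc⟩) (b := e ⟨zb, hzc⟩)
      (fun y => by obtain ⟨y, rfl⟩ := e.surjective y; exact (hcent y).map e.toMonoidHom)
      (fun y => by obtain ⟨y, rfl⟩ := e.surjective y; exact (hzcent y).map e.toMonoidHom)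
      (fun h => by
        rw [e.map_eq_one_iff] at h
        have h' : g * cb * g⁻¹ = 1 := congrArg Subtype.val h
        rw [conj_eq_one_iff] at h'
        rw [h', orderOf_one] at hc2
        norm_num at hc2)
      (fun h => by
        rw [e.map_eq_one_iff] at h
        have h' : zb = 1 := congrArg Subtype.val h
        rw [h', orderOf_one] at hz2
        norm_num at hz2)
    exact congrArg Subtype.val (e.injective this)
  -- perfection
  set R := commutator (CQ b)
  have hcomm : ∀ g y : CQ b, g * y * g⁻¹ * y⁻¹ ∈ R := fun g y => by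
    rw [← commutatorElement_def]
    exact Subgroup.commutator_mem_commutator (Subgroup.mem_top g) (Subgroup.mem_top y)
  have hgen : ∀ {c}, c ∈ D'.Q → c * c = 1 → c ≠ 1 → c ≠ D'.z → ∀ hbc : Commute b c,
      cmk (d := b) hbc.symm ∈ R := by
    intro c hc hc2 hc1 hcz hbc
    have hzc : D'.z * c * (D'.z * c) = 1 := by
      rw [(D'.ctx.central c hc).symm.mul_mul_mul_comm, D'.ctx.sq_z, hc2, one_mul]
    obtain ⟨g, hg⟩ := hfuse (D'.cl_of_mem (mul_mem D'.ctx.mem hc) hzc fun e => hcz (by
      rw [eq_inv_of_mul_eq_one_right e, D'.ctx.inv_z])) (H.comm.mul_right hbc)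
    have h1 := hcomm g (cmk (d := b) (H.comm.mul_right hbc).symm)
    rw [hg] at h1
    have : zb * (cmk (d := b) (H.comm.mul_right hbc).symm)⁻¹ = cmk (d := b) hbc.symm := by
      rw [hzb, cmk_inv, cmk_mul]
      refine congrArg (QuotientGroup.mk' _) (Subtype.ext ?_)
      show D'.z * (D'.z * c)⁻¹ = c
      rw [inv_eq_of_mul_eq_one_right hzc, ← mul_assoc, D'.ctx.sq_z, one_mul]
    rwa [this] at h1
  have hq1 : q ≠ 1 := fun e => hne (e ▸ Commute.one_left _)
  have hq'1 : q' ≠ 1 := fun e => hne (e ▸ Commute.one_right _)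
  have hqz : q ≠ D'.z := fun e => hne (e ▸ D'.ctx.central q' hq')
  have hq'z : q' ≠ D'.z := fun e => hne (e ▸ (D'.ctx.central q hq).symm)
  have hCR : Subgroup.centralizer ({zb} : Set (CQ b)) ≤ R := by
    intro y hy
    obtain ⟨c, hcb, rfl⟩ := cmk_surj y
    obtain ⟨n, i, j, l, hcn⟩ := hall c
      (cmk_commute hb h5 hcb H.comm.symm D'.ctx.sq_z (Subgroup.mem_centralizer_singleton_iff.1 hy)) hcb
    have hmem : ∀ {a : G} (ha : Commute a b) (s : ZMod 2), cmk ha ∈ R → cmk (pick_comm ha s) ∈ R :=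
      fun {a} ha s hm => by
        rcases bit s with rfl | rfl
        · rw [show cmk (pick_comm ha 0) = 1 from (cmk_one _).2 ⟨0, by simp⟩]; exact one_mem _
        · rwa [show cmk (pick_comm ha 1) = cmk ha from congrArg (QuotientGroup.mk' _)
            (Subtype.ext (pick_one a))]
    have hz0 : zb ∈ R := by
      have hA := hgen hq hqq hq1 hqz hbq
      have hB := hgen hq' hq'q' hq'1 hq'z hbq'
      have := mul_mem (mul_mem hA hB) (mul_mem hA hB)
      rw [cmk_mul, cmk_mul] at this
      convert this using 1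
      refine congrArg (QuotientGroup.mk' _) (Subtype.ext ?_)
      show D'.z = q * q' * (q * q')
      calc D'.z = q * q' * q⁻¹ * q' := by rw [hmove, mul_assoc, hq'q', mul_one]
        _ = _ := by rw [inv_eq_of_mul_eq_one_right hqq]; group
    have hmain := mul_mem (hmem H.comm.symm i hz0)
      (mul_mem (hmem hbq.symm j (hgen hq hqq hq1 hqz hbq))
        (hmem hbq'.symm l (hgen hq' hq'q' hq'1 hq'z hbq')))
    rw [cmk_mul, cmk_mul] at hmain
    convert hmain using 1
    refine (cmk_eq _ _).2 ⟨-(n : ℤ), ?_⟩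
    rw [hcn, zpow_neg, zpow_natCast, mul_inv_cancel_right]
  have hperf : R = ⊤ := by
    have hSR : (S : Subgroup (CQ b)) ≤ R := hS ▸ hCR
    have hF := Sylow.normalizer_sup_eq_top (S.subtype hSR)
    rw [Sylow.coe_subtype, Subgroup.subgroupOf_map_subtype, inf_eq_left.2 hSR] at hF
    refine top_le_iff.1 (hF ▸ sup_le (fun g hg => hCR ?_) le_rfl)
    -- the normalizer fixes the centre
    have hS' : ∀ {y}, y ∈ (S : Subgroup (CQ b)) ↔ Commute y zb := fun {y} => by
      rw [hS, Subgroup.mem_centralizer_singleton_iff]; rfl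
    have hzS : zb ∈ (S : Subgroup (CQ b)) := hS'.2 (Commute.refl zb)
    have hm := (Subgroup.mem_normalizer_iff.1 hg zb).1 hzS
    have hzc : zb ∈ Subgroup.centralizer ({zb} : Set (CQ b)) :=
      Subgroup.mem_centralizer_singleton_iff.2 rfl
    have hmc : g * zb * g⁻¹ ∈ Subgroup.centralizer ({zb} : Set (CQ b)) := hS ▸ hm
    have hall' : ∀ y : ↥(Subgroup.centralizer ({zb} : Set (CQ b))), Commute
        (⟨_, hmc⟩ : ↥(Subgroup.centralizer ({zb} : Set (CQ b)))) y := fun y => by
      refine Subtype.ext (show Commute (g * zb * g⁻¹) (y : CQ b) from ?_).eq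
      have hy : g⁻¹ * (y : CQ b) * g ∈ (S : Subgroup (CQ b)) :=
        (Subgroup.mem_normalizer_iff''.1 hg _).1 (by rw [hS]; exact y.2)
      have h1 := (Commute.conj_iff g).2 (hS'.1 hy).symm
      rwa [show g * (g⁻¹ * (y : CQ b) * g) * g⁻¹ = y by group] at h1
    have hzc' : ∀ y : ↥(Subgroup.centralizer ({zb} : Set (CQ b))),
        Commute (⟨zb, hzc⟩ : ↥(Subgroup.centralizer ({zb} : Set (CQ b)))) y := fun y =>
      Subtype.ext (show Commute zb (y : CQ b) from
        (Subgroup.mem_centralizer_singleton_iff.1 y.2).symm).eq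
    have := dihedral_four_central (a := e ⟨_, hmc⟩) (b := e ⟨zb, hzc⟩)
      (fun y => by obtain ⟨y, rfl⟩ := e.surjective y; exact (hall' y).map e.toMonoidHom)
      (fun y => by obtain ⟨y, rfl⟩ := e.surjective y; exact (hzc' y).map e.toMonoidHom)
      (fun h => by
        rw [e.map_eq_one_iff] at h
        have h' : g * zb * g⁻¹ = 1 := congrArg Subtype.val h
        rw [conj_eq_one_iff] at h'
        rw [h', orderOf_one] at hz2
        norm_num at hz2)
      (fun h => by
        rw [e.map_eq_one_iff] at h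
        have h' : zb = 1 := congrArg Subtype.val h
        rw [h', orderOf_one] at hz2
        norm_num at hz2)
    exact Subgroup.mem_centralizer_singleton_iff.2
      (mul_inv_eq_iff_eq_mul.1 (congrArg Subtype.val (e.injective this)))
  exact Cfsg.Agent.S0848.result hperf zb hz2 e

end Cfsg.Lib.Extra.SuzLocal
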