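import Cfsg.Agent.Lib.Extra.SuzLocal.BType
import Cfsg.Agent.Lib.Extra.Wide.Numbers

/-!
# The local configuration from the hypotheses on the centralizer of an involution
-/

set_option autoImplicit false
set_option linter.style.haveILetI false

namespace Cfsg.Lib.Extra.SuzLocal

open Cfsg Module Cfsg.Lib.Linear.Orth Cfsg.Lib.Extra.Wide
open scoped Matrix

theorem exists_model {G : Type*} [Group G] [Finite G] (z : G) (hz : orderOf z = 2)
    (Q : Subgroup (Subgroup.centralizer ({z} : Set G))) [Q.Normal]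
    (hF : Cfsg.generalizedFittingSubgroup (Subgroup.centralizer ({z} : Set G)) = Q)
    (hQ : Cfsg.IsExtraspecial 2 Q) (hcard : Nat.card Q = 2 ^ 7)
    (e : (Subgroup.centralizer ({z} : Set G)) ⧸ Q ≃*
      Cfsg.Omega (ZMod 2) (Cfsg.quadFormMinus 2 (ZMod 2) 1 1))
    (hnwc : ∃ g : G, (∃ hq : g * z * g⁻¹ ∈ Subgroup.centralizer ({z} : Set G),
      (⟨g * z * g⁻¹, hq⟩ : Subgroup.centralizer ({z} : Set G)) ∈ Q) ∧ g * z * g⁻¹ ≠ z) :
    ∃ D : Data G ((Fin 2 ⊕ Fin 2) ⊕ Fin 2), Model D := by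
  classical
  haveI : Fact (Nat.Prime 2) := ⟨Nat.prime_two⟩
  obtain ⟨Bm, Sm⟩ := exists_space_minus (F := ZMod 2) 2 1 1 aniso_two
  obtain ⟨Bp, Sp⟩ := exists_space_plus (F := ZMod 2) 3
  have hΩ := two_mul_card_omega Sm (by simp)
  rw [card_minus_six] at hΩ
  rcases model_cases hQ 2 (by rw [hcard]) with ⟨⟨f⟩⟩ | ⟨⟨f⟩⟩
  · exfalso
    have h := (exists_data z hz Q hF hQ (pairForm_nondeg _)
      (plusCoords 3) (plus_form 3) Sp (by simp) (by simp; decide) f e hnwc).1
    rw [card_plus_six] at h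
    rw [show Nat.card ↥(Cfsg.Omega (ZMod 2) (Cfsg.quadFormMinus 2 (ZMod 2) 1 1)) = 25920 by omega] at h
    norm_num at h
  · obtain ⟨D, hD⟩ := (exists_data z hz Q hF hQ (pairForm_nondeg _)
      (minusCoords 2) (minus_form 2) Sm (by simp) (by simp; decide) f e hnwc).2 rfl
    refine ⟨D, ⟨by simp, by rw [hD]; exact no_half_minus_six⟩, ?_, ?_⟩
    · rw [hD, Cfsg.Geo.omegaGL, Subgroup.card_map_of_injective (Subgroup.subtype_injective _)]
      omega
    · rw [hD]
      have h := (counts_minus (F := ZMod 2) (a := 1) (b := 1) 2 aniso_two).1 (by norm_num)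
      rw [Nat.card_zmod] at h
      norm_num at h ⊢
      exact_mod_cast h

end Cfsg.Lib.Extra.SuzLocal
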