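import Cfsg.Agent.Lib.Extra.SuzLocal.Local

/-!
# The centre of the centralizer of a commuting pair and the four-group inside it

For a conjugate `w` of `z` centralizing `x` the elements centralizing `w`, `x` and `Qof w ∩ C(x)`
form a group of order sixteen; the four-group is cut out of it by the conjugates of `z` nearby.
-/

set_option autoImplicit false
set_option linter.style.haveILetI false
set_option linter.unusedSectionVars false

namespace Cfsg.Lib.Extra.SuzLocal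

open Cfsg Module Cfsg.Lib.Linear.Orth Cfsg.Lib.Extra.Wide
open scoped Matrix

variable {G : Type*} [Group G] {ι : Type} [Fintype ι] [DecidableEq ι] {D : Data G ι} [Finite G]

/-- The elements centralizing `w`, `x` and the part of `Qof w` centralizing `x`. -/
def ZC (D : Data G ι) (x w y : G) : Prop :=
  Commute y x ∧ Commute y w ∧ ∀ g ∈ D.Qof w, Commute g x → Commute y g

theorem zc_mul {x w a b : G} (ha : ZC D x w a) (hb : ZC D x w b) : ZC D x w (a * b) :=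
  ⟨ha.1.mul_left hb.1, ha.2.1.mul_left hb.2.1, fun g h1 h2 => (ha.2.2 g h1 h2).mul_left (hb.2.2 g h1 h2)⟩

theorem zc_inv {x w a : G} (ha : ZC D x w a) : ZC D x w a⁻¹ :=
  ⟨ha.1.inv_left, ha.2.1.inv_left, fun g h1 h2 => (ha.2.2 g h1 h2).inv_left⟩

theorem zc_conj {x w y g : G} (hg : Commute g x) (hw : D.Cl w) (hy : ZC D x w y) :
    ZC D x (g * w * g⁻¹) (g * y * g⁻¹) := by
  refine ⟨(hg.mul_left hy.1).mul_left hg.inv_left, (Commute.conj_iff g).2 hy.2.1, fun b hb hbx => ?_⟩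
  refine commute_conj g ?_ |>.symm
  refine (hy.2.2 _ ?_ ((hg.inv_left.mul_left hbx).mul_left hg)).symm
  have := D.Qof_conj (hw.conj D g) g⁻¹ hb
  simpa [mul_assoc] using this

/-- Elements of the subgroup at the point centralizing the frame centralize `z`. -/
theorem qof_comm {x t g : G} {v u : ι → ZMod 2} (F : D.Frame x t v u) (hg : g ∈ D.Qof t)
    (hgx : Commute g x) : Commute g D.z := by
  obtain ⟨k, hk⟩ := F.pt.cl
  obtain ⟨v', u', F'⟩ := frame_conj F hk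
  obtain ⟨-, hQ, -, hp⟩ := conj_point F.pt hk
  have hgQ : g ∈ (D.conj k).Q := hQ.symm ▸ hg
  have hfix : ((D.conj k).act x).val *ᵥ (D.conj k).cls g = (D.conj k).cls g := by
    rw [← (D.conj k).act_cls x F'.comm_z g hgQ, ← hgx.eq, mul_inv_cancel_right]
  exact ((hp.inCQ_iff hgQ).2 (fix_cls F' hfix).1).2

/-- A second pair at a conjugate of `z` centralizing the four-group. -/
def HasPair (D : Data G ι) (x x' c : G) : Prop :=
  ∃ m s, m ∈ D.Qof c ∧ s ∈ D.Qof c ∧ m * m = 1 ∧ s * s = 1 ∧ ¬ Commute m s ∧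
    Commute m x ∧ Commute m x' ∧ Commute s x ∧ Commute s x'

theorem pair_of_tri {x x' h t q q' : G} (T : Tri D x x' h t q q') : HasPair D x x' q := by
  obtain ⟨s, hs, hs2, hsz, hsx, hsx'⟩ := T.exists_mover_fixed
  exact ⟨D.z, s, T.point.mem_snd, hs, D.ctx.sq_z, hs2, fun e => hsz e.symm, T.x_z.symm,
    T.x'_facts.1.symm, hsx, hsx'⟩

theorem pair_of_tri_conj {x x' h t q q' k : G} (hq : D.Cl q)
    (T : Tri (D.conj k) x x' h t q q') : HasPair D x x' q := by
  obtain ⟨m, s, h1, h2, rest⟩ := pair_of_tri T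
  rw [D.conj_Qof k hq] at h1 h2
  exact ⟨m, s, h1, h2, rest⟩

theorem q_inv_cases {a b : ZMod 2} (h : a * b = 0) : (a = 0 ∧ b = 0) ∨ (a = 1 ∧ b = 0) ∨
    (a = 0 ∧ b = 1) := q_cases a b h

namespace Cfg

variable {x x' h t q1 q2 y1 y2 : G} {v u r1 r2 : ι → ZMod 2}
  (K : Cfg D x x' h t q1 q2 y1 y2 v u r1 r2)
include K

/-- The centre: the four-group of the point times the four-group of the second class. -/
def InZ (_K : Cfg D x x' h t q1 q2 y1 y2 v u r1 r2) (y : G) : Prop :=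
  ∃ a i j, D.InA t a ∧ y = a * (pick x i * pick x' j)

theorem A_Z {a : G} (ha : D.InA t a) : K.InZ a := ⟨a, 0, 0, ha, by simp⟩

theorem V_Z {a : G} (ha : K.InV a) : K.InZ a := by
  rcases ha with e | e | e | e <;> rw [e]
  exacts [⟨1, 0, 0, Or.inl rfl, by simp⟩, ⟨1, 1, 0, Or.inl rfl, by simp⟩,
    ⟨1, 0, 1, Or.inl rfl, by simp⟩, ⟨1, 1, 1, Or.inl rfl, by simp⟩]

theorem Z_M {y : G} (hy : K.InZ y) : K.InM y := by
  obtain ⟨a, i, j, ha, rfl⟩ := hy
  exact K.M_mul (K.A_M ha) (K.V_M (K.vp_mem i j))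

theorem A_comm {a c : G} (ha : D.InA t a) (hz : Commute c D.z) (ht : Commute c t) : Commute a c := by
  rcases ha with e | e | e | e <;> rw [e]
  exacts [Commute.one_left _, hz.symm, ht.symm, hz.symm.mul_left ht.symm]

theorem V_comm {a b : G} (ha : K.InV a) (hb : Commute b x) (hb' : Commute b x') : Commute a b := by
  rcases ha with e | e | e | e <;> rw [e]
  exacts [Commute.one_left _, hb.symm, hb'.symm, hb.symm.mul_left hb'.symm]

theorem M_x' {c : G} (hc : K.InM c) : Commute c x' := by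
  obtain ⟨a, i', j', i, j, k, l, ha, rfl⟩ := K.M_decomp hc
  refine ((K.A_comm ha K.x'z K.x't).mul_left ?_).mul_left (K.el_comm i j k l).2
  exact (pick_comm K.xx' i').mul_left (pick_comm (Commute.refl x') j')

theorem Z_comm {y c : G} (hy : K.InZ y) (hc : K.InM c) : Commute y c := by
  obtain ⟨a, i, j, ha, rfl⟩ := hy
  exact (K.A_comm ha hc.1 hc.2.1).mul_left (K.V_comm (K.vp_mem i j) hc.2.2 (K.M_x' hc))

theorem el_commute_of {y g a : G} {i' j' i j k l : ZMod 2} (ha : D.InA t a)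
    (hy : y = a * (pick x i' * pick x' j') * elm q1 q2 y1 y2 i j k l) (hg : K.InM g)
    (hc : Commute y g) : Commute (elm q1 q2 y1 y2 i j k l) g := by
  have h1 : Commute (a * (pick x i' * pick x' j')) g :=
    K.Z_comm ⟨a, i', j', ha, rfl⟩ hg
  have := h1.inv_left.mul_left hc
  rwa [hy, ← mul_assoc, inv_mul_cancel, one_mul] at this

theorem el_comm_q (i j k l : ZMod 2) :
    (Commute (elm q1 q2 y1 y2 i j k l) q1 → j = 0 ∧ l = 0) ∧
      (Commute (elm q1 q2 y1 y2 i j k l) q2 → i = 0 ∧ k = 0) := by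
  obtain ⟨hq, hqc⟩ := K.qi_facts i j
  obtain ⟨hy, hya, hyp⟩ := K.yi_facts k l
  have key : ∀ {q r}, D.InCQ t q → D.cls q = r → Commute (elm q1 q2 y1 y2 i j k l) q →
      D.B r (i • r1 + j • r2) = 0 ∧ D.B r (k • r1 + l • r2) = 0 := by
    intro q r hq' hr hc
    have e := K.pt.swap_mul hq' K.pt.pq_one hq hy (v := 0) (map_zero _) hyp
      (by rw [D.act_one, ← siegel_zero D.space K.pt.cls_sing 0, zero_smul]) hya
    rw [hqc, hr, mul_one] at e
    rw [show q * (pick q1 i * pick q2 j * (pick y1 k * pick y2 l)) =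
      pick q1 i * pick q2 j * (pick y1 k * pick y2 l) * q from hc.symm.eq] at e
    obtain ⟨e1, e2⟩ := K.pt.zt_eq_one (mul_eq_right.1 e.symm)
    simp only [map_zero, LinearMap.zero_apply, zero_add] at e1 e2
    rw [e2, add_zero] at e1
    exact ⟨e1, e2⟩
  refine ⟨fun hc => ?_, fun hc => ?_⟩
  · obtain ⟨e1, e2⟩ := key K.cq1 K.cls1 hc
    simp [B_self D.space, K.coord.rr] at e1 e2
    exact ⟨e1, e2⟩
  · obtain ⟨e1, e2⟩ := key K.cq2 K.cls2 hc
    simp [B_self D.space, D.space.symm r2 r1, K.coord.rr] at e1 e2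
    exact ⟨e1, e2⟩

theorem el_comm_y (i j k l : ZMod 2) :
    (Commute (elm q1 q2 y1 y2 i j k l) y1 → j = 0 ∧ l = 0) ∧
      (Commute (elm q1 q2 y1 y2 i j k l) y2 → i = 0 ∧ k = 0) ∧
      (Commute (elm q1 q2 y1 y2 i j k l) (q1 * y1) → j = 0 ∧ l = 0) ∧
      (Commute (elm q1 q2 y1 y2 i j k l) (q2 * y2) → i = 0 ∧ k = 0) := by
  obtain ⟨hq, hqc⟩ := K.qi_facts i j
  obtain ⟨hy, hya, hyp⟩ := K.yi_facts k l
  have key : ∀ {q y r}, D.InCQ t q → D.InPQ t y → D.B (D.cls t) r = 0 →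
      D.act y = sGL D.qf D.B (D.cls t) r → Commute (elm q1 q2 y1 y2 i j k l) (q * y) →
      D.B (D.cls q) (i • r1 + j • r2) +
          (D.B (i • r1 + j • r2) r + D.B (D.cls q) (k • r1 + l • r2)) = 0 ∧
        D.B r (k • r1 + l • r2) +
          (D.B (i • r1 + j • r2) r + D.B (D.cls q) (k • r1 + l • r2)) = 0 := by
    intro q y r hq' hy' hr ha hc
    have e := K.pt.swap_mul hq' hy' hq hy hr hyp ha hya
    rw [hqc, show q * y * (pick q1 i * pick q2 j * (pick y1 k * pick y2 l)) =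
      pick q1 i * pick q2 j * (pick y1 k * pick y2 l) * (q * y) from hc.symm.eq] at e
    exact K.pt.zt_eq_one (mul_eq_right.1 e.symm)
  have hrr' : D.B r2 r1 = 1 := (D.space.symm _ _).trans K.coord.rr
  refine ⟨fun hc => ?_, fun hc => ?_, fun hc => ?_, fun hc => ?_⟩
  · obtain ⟨e1, e2⟩ := key (K.pt.cq_A (Or.inl rfl)) K.pq1 K.coord.pr K.act1 (by rwa [one_mul])
    simp [D.cls_one, B_self D.space, K.coord.rr, hrr'] at e1 e2
    exact ⟨e1, by linear_combination e2 - e1⟩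
  · obtain ⟨e1, e2⟩ := key (K.pt.cq_A (Or.inl rfl)) K.pq2 K.coord.pr' K.act2 (by rwa [one_mul])
    simp [D.cls_one, B_self D.space, K.coord.rr, hrr'] at e1 e2
    exact ⟨e1, by linear_combination e2 - e1⟩
  · obtain ⟨e1, e2⟩ := key K.cq1 K.pq1 K.coord.pr K.act1 hc
    simp [K.cls1, B_self D.space, K.coord.rr, hrr'] at e1 e2
    exact ⟨by linear_combination e2 - bit_self l, by linear_combination e1 - bit_self j⟩
  · obtain ⟨e1, e2⟩ := key K.cq2 K.pq2 K.coord.pr' K.act2 hc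
    simp [K.cls2, B_self D.space, K.coord.rr, hrr'] at e1 e2
    exact ⟨by linear_combination e2 - bit_self k, by linear_combination e1 - bit_self i⟩

theorem q_M : K.InM q1 ∧ K.InM q2 ∧ K.InM y1 ∧ K.InM y2 :=
  ⟨⟨(D.ctx.central _ K.cq1.1).symm, K.cq1.2, K.q1x⟩, ⟨(D.ctx.central _ K.cq2.1).symm, K.cq2.2, K.q2x⟩,
    ⟨K.pq1.2, K.pt.pq_commute_t K.pq1, K.y1x⟩, ⟨K.pq2.2, K.pt.pq_commute_t K.pq2, K.y2x⟩⟩

theorem Z_of_el {y a : G} {i' j' i j k l : ZMod 2} (ha : D.InA t a)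
    (hy : y = a * (pick x i' * pick x' j') * elm q1 q2 y1 y2 i j k l)
    (h1 : j = 0 ∧ l = 0) (h2 : i = 0 ∧ k = 0) : K.InZ y := by
  obtain ⟨rfl, rfl⟩ := h1
  obtain ⟨rfl, rfl⟩ := h2
  exact ⟨a, i', j', ha, by rw [hy]; simp [elm]⟩

theorem zc_A {a y : G} (ha : a = D.z ∨ a = t ∨ a = D.z * t) : ZC D x a y ↔ K.InZ y := by
  have hA : D.InA t a := Or.inr ha
  constructor
  · rintro ⟨hyx, hya, hall⟩
    obtain ⟨m1, m2, m3, m4⟩ := K.q_M
    rcases ha with rfl | rfl | rfl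
    · have hQ : ∀ {g}, g ∈ D.Q → Commute g x → Commute y g := fun hg hgx =>
        hall _ (by rw [D.Qof_self]; exact hg) hgx
      have hM : K.InM y := ⟨hya, hQ K.pt.mem K.xt.symm, hyx⟩
      obtain ⟨b, i', j', i, j, k, l, hb, hy⟩ := K.M_decomp hM
      exact K.Z_of_el hb hy
        ((K.el_comm_q i j k l).1 (K.el_commute_of hb hy m1 (hQ K.cq1.1 K.q1x)))
        ((K.el_comm_q i j k l).2 (K.el_commute_of hb hy m2 (hQ K.cq2.1 K.q2x)))
    · have hM : K.InM y := ⟨hall _ K.pt.mem_snd K.xz.symm, hya, hyx⟩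
      obtain ⟨b, i', j', i, j, k, l, hb, hy⟩ := K.M_decomp hM
      exact K.Z_of_el hb hy
        ((K.el_comm_y i j k l).1 (K.el_commute_of hb hy m3 (hall _ K.pq1.1 K.y1x)))
        ((K.el_comm_y i j k l).2.1 (K.el_commute_of hb hy m4 (hall _ K.pq2.1 K.y2x)))
    · have hyz : Commute y D.z := hall _ K.pt.z_mul.mem_snd K.xz.symm
      have hyt : Commute y t := by
        have h1 := hyz.mul_right hya
        rwa [← mul_assoc, D.ctx.sq_z, one_mul] at h1
      obtain ⟨b, i', j', i, j, k, l, hb, hy⟩ := K.M_decomp ⟨hyz, hyt, hyx⟩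
      exact K.Z_of_el hb hy
        ((K.el_comm_y i j k l).2.2.1 (K.el_commute_of hb hy (K.M_mul m1 m3)
          (hall _ (qy_Qof K.pt K.coord.pr K.cq1 K.cls1 K.pq1 K.act1) (K.q1x.mul_left K.y1x))))
        ((K.el_comm_y i j k l).2.2.2 (K.el_commute_of hb hy (K.M_mul m2 m4)
          (hall _ (qy_Qof K.pt K.coord.pr' K.cq2 K.cls2 K.pq2 K.act2) (K.q2x.mul_left K.y2x))))
  · intro hy
    have hM := K.Z_M hy
    refine ⟨hM.2.2, (K.A_comm hA hM.1 hM.2.1).symm, fun g hg hgx => ?_⟩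
    rcases ha with rfl | rfl | rfl
    · rw [D.Qof_self] at hg
      have hfix : (D.act x).val *ᵥ D.cls g = D.cls g := by
        rw [← D.act_cls x K.xz g hg, ← hgx.eq, mul_inv_cancel_right]
      exact K.Z_comm hy ⟨(D.ctx.central g hg).symm,
        ((K.pt.inCQ_iff hg).2 (fix_cls K.fr hfix).1).2, hgx⟩
    · exact K.Z_comm hy ⟨qof_comm K.fr hg hgx, ((D.ctx_Qof K.pt.cl).central g hg).symm, hgx⟩
    · obtain ⟨u', F'⟩ := frame_zt K.fr
      have h1 := qof_comm F' hg hgx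
      have h2 := h1.mul_right (((D.ctx_Qof K.pt.z_mul.cl).central g hg).symm)
      rw [← mul_assoc, D.ctx.sq_z, one_mul] at h2
      exact K.Z_comm hy ⟨h1, h2, hgx⟩

theorem cl_Z {y : G} (hy : K.InZ y) (hcl : D.Cl y) : y = D.z ∨ y = t ∨ y = D.z * t := by
  obtain ⟨a, i, j, ha, rfl⟩ := hy
  obtain ⟨h1, h2, h3⟩ := K.ax_not_cl ha
  rcases bit i with rfl | rfl <;> rcases bit j with rfl | rfl <;>
    simp only [pick_zero, pick_one, one_mul, mul_one] at hcl ⊢
  · exact ha.resolve_left (hcl.ne_one D)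
  · exact absurd hcl h2
  · exact absurd hcl h1
  · exact absurd hcl h3

theorem A_cl {a : G} (ha : a = D.z ∨ a = t ∨ a = D.z * t) : D.Cl a := by
  rcases ha with rfl | rfl | rfl
  exacts [D.cl_z, K.pt.cl, K.pt.z_mul.cl]

/-- An element of `C(x)` carrying one point to another preserves the configuration. -/
theorem move {g a : G} (hg : Commute g x) (ha : a = D.z ∨ a = t ∨ a = D.z * t)
    (hga : g * a * g⁻¹ = D.z ∨ g * a * g⁻¹ = t ∨ g * a * g⁻¹ = D.z * t) :
    (∀ y, K.InZ y → K.InZ (g * y * g⁻¹)) ∧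
    (∀ b, (b = D.z ∨ b = t ∨ b = D.z * t) →
      (g * b * g⁻¹ = D.z ∨ g * b * g⁻¹ = t ∨ g * b * g⁻¹ = D.z * t)) ∧
    ∀ c, K.InM c → K.InM (g * c * g⁻¹) := by
  have key : ∀ {g a : G}, Commute g x → (a = D.z ∨ a = t ∨ a = D.z * t) →
      (g * a * g⁻¹ = D.z ∨ g * a * g⁻¹ = t ∨ g * a * g⁻¹ = D.z * t) →
      (∀ y, K.InZ y → K.InZ (g * y * g⁻¹)) ∧
      (∀ b, (b = D.z ∨ b = t ∨ b = D.z * t) →
        (g * b * g⁻¹ = D.z ∨ g * b * g⁻¹ = t ∨ g * b * g⁻¹ = D.z * t)) := by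
    intro g a hg ha hga
    have h1 : ∀ y, K.InZ y → K.InZ (g * y * g⁻¹) := fun y hy =>
      (K.zc_A hga).1 (zc_conj hg (K.A_cl ha) ((K.zc_A ha).2 hy))
    exact ⟨h1, fun b hb => K.cl_Z (h1 b (K.A_Z (Or.inr hb))) ((K.A_cl hb).conj D g)⟩
  obtain ⟨hZ, hA⟩ := key hg ha hga
  refine ⟨hZ, hA, fun c hc => ?_⟩
  obtain ⟨-, hA'⟩ := key (g := g⁻¹) (a := g * a * g⁻¹) hg.inv_left hga (by
    rw [show g⁻¹ * (g * a * g⁻¹) * g⁻¹⁻¹ = a by group]; exact ha)
  have hcomm : ∀ b, (b = D.z ∨ b = t ∨ b = D.z * t) → Commute (g * c * g⁻¹) b := fun b hb => by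
    have h' : Commute (g⁻¹ * b * g⁻¹⁻¹) c := K.A_comm (Or.inr (hA' b hb)) hc.1 hc.2.1
    rw [inv_inv] at h'
    exact (commute_conj g h').symm
  exact ⟨hcomm _ (Or.inl rfl), hcomm _ (Or.inr (Or.inl rfl)),
    (hg.mul_left hc.2.2).mul_left hg.inv_left⟩

theorem Q_decomp {c : G} (hc : c ∈ D.Q) (hcx : Commute c x) :
    ∃ a i j, D.InA t a ∧ c = a * (pick q1 i * pick q2 j) := by
  have hfix : (D.act x).val *ᵥ D.cls c = D.cls c := by
    rw [← D.act_cls x K.xz c hc, ← hcx.eq, mul_inv_cancel_right]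
  have hcq := (K.pt.inCQ_iff hc).2 (fix_cls K.fr hfix).1
  obtain ⟨hu, hv⟩ := (cq_rel K.fr hcq).1 hcx
  obtain ⟨α, hα⟩ := K.coord.decomp ((K.pt.inCQ_iff hc).1 hcq)
  rw [hu, hv, zero_smul, zero_smul, add_zero, add_zero] at hα
  obtain ⟨hqi, hqic⟩ := K.qi_facts (D.B r2 (D.cls c)) (D.B r1 (D.cls c))
  refine ⟨c * (pick q1 (D.B r2 (D.cls c)) * pick q2 (D.B r1 (D.cls c)))⁻¹, D.B r2 (D.cls c),
    D.B r1 (D.cls c), K.pt.inA_of_cls (mul_mem hc (inv_mem hqi.1)) (α := α) ?_, by group⟩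
  rw [D.cls_mul _ hc _ (inv_mem hqi.1), D.cls_inv hqi.1, hqic]
  conv_lhs => arg 1; rw [hα]
  rw [add_assoc (α • D.cls t), add_assoc, vadd_self, add_zero]

theorem Q_invol {c : G} (hc : c ∈ D.Q) (hcx : Commute c x) (h2 : c * c = 1) (hA : ¬ D.InA t c) :
    ∃ a, D.InA t a ∧ (c = a * q1 ∨ c = a * q2) := by
  obtain ⟨a, i, j, ha, rfl⟩ := K.Q_decomp hc hcx
  obtain ⟨α, hα⟩ := K.pt.cls_inA ha
  have hQ := (D.cls_sq _ hc).1 h2
  rw [D.cls_mul _ (K.pt.inA_mem ha).1 _ (K.qi_facts i j).1.1, (K.qi_facts i j).2, hα] at hQ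
  have hij : i * j = 0 := by
    simpa [D.space.add, D.space.smul, K.pt.cls_sing, K.qr1, K.qr2, K.coord.rr,
      show D.B (D.cls t) r1 = 0 from K.coord.pr, show D.B (D.cls t) r2 = 0 from K.coord.pr',
      mul_comm] using hQ
  refine ⟨a, ha, ?_⟩
  rcases q_cases i j hij with ⟨rfl, rfl⟩ | ⟨rfl, rfl⟩ | ⟨rfl, rfl⟩
  · exact absurd (by simpa using ha) hA
  · exact Or.inl (by simp)
  · exact Or.inr (by simp)

/-- An element interchanging `t` and `zt` does not act as a Siegel element. -/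
theorem no_siegel {n : G} (hnz : Commute n D.z) (hnx : Commute n x)
    (hnt : n * t * n⁻¹ = D.z * t) {b : ι → ZMod 2} (hb : D.B (D.cls t) b = 0)
    (hnb : D.act n = sGL D.qf D.B (D.cls t) b) : False := by
  obtain ⟨y, hy, hyb⟩ := K.pt.exists_label hb
  set q' := n * y⁻¹ with hq'
  have hq'Q : q' ∈ D.Q := (D.act_ker _ (hnz.mul_left hy.2.inv_left)).1 (by
    rw [D.act_mul _ _ hnz hy.2.inv_left, D.act_inv hy.2, hnb, hyb, mul_inv_cancel])
  have hpq : D.B (D.cls t) (D.cls q') = 1 := by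
    refine (bit _).resolve_left fun e => ?_
    have h1 : Commute (q' * y) t := ((K.pt.inCQ_iff hq'Q).2 e).2.mul_left (K.pt.pq_commute_t hy)
    rw [hq', inv_mul_cancel_right] at h1
    rw [h1.eq, mul_inv_cancel_right] at hnt
    exact D.ctx.ne_one (mul_eq_right.1 hnt.symm)
  obtain ⟨q0, y0, hx, hq0, -, hy0, hy0v⟩ := K.fr.dec
  have hyx := K.pt.swap_mul (K.pt.cq_A (Or.inl rfl)) hy hq0 hy0 hb K.fr.vperp hyb hy0v
  rw [one_mul, ← hx] at hyx
  obtain ⟨e, he, hye⟩ : ∃ e, D.InA t e ∧ y * x = e * (x * y) := ⟨_, K.pt.zt_A _ _, hyx⟩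
  have hrel : x * q' * x⁻¹ * q'⁻¹ = q' * e * q'⁻¹ := by
    have h1 : q' * y * x = x * (q' * y) := by rw [hq', inv_mul_cancel_right]; exact hnx.eq
    calc x * q' * x⁻¹ * q'⁻¹ = x * (q' * y) * (y⁻¹ * x⁻¹) * q'⁻¹ := by group
      _ = q' * (y * x) * (y⁻¹ * x⁻¹) * q'⁻¹ := by rw [← h1]; group
      _ = q' * e * q'⁻¹ := by rw [hye]; group
  have hxq : x * q' * x⁻¹ ∈ D.Q := (Subgroup.mem_normalizer_iff.1 (D.ctx.norm x K.xz) q').1 hq'Q
  have heQ := (K.pt.inA_mem he).1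
  have ec := congrArg D.cls hrel
  rw [D.cls_mul _ hxq _ (inv_mem hq'Q), D.cls_inv hq'Q, D.act_cls x K.xz q' hq'Q, ← nMap_apply,
    K.fr.nMap_act, D.cls_mul _ (mul_mem hq'Q heQ) _ (inv_mem hq'Q), D.cls_mul _ hq'Q _ heQ,
    D.cls_inv hq'Q, hpq, one_smul, add_comm (D.cls q'), add_assoc, vadd_self, add_zero] at ec
  obtain ⟨α, hα⟩ := K.pt.cls_inA he
  refine K.fr.vind (Submodule.mem_span_singleton.2
    ⟨α + (D.B v (D.cls q') + D.qf v * 1), ?_⟩)
  rw [add_smul, ← hα, ← ec, add_assoc, vadd_self, add_zero]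

/-- The action of an element interchanging `t` and `zt`. -/
theorem swap_facts {n : G} (hnz : Commute n D.z) (hnx : Commute n x) (hnt : n * t * n⁻¹ = D.z * t) :
    (∃ a, D.InA t a ∧ n * x' * n⁻¹ = a * (x * x')) ∧
      ∃ α β : ZMod 2, (D.act n).val *ᵥ r1 = r2 + α • D.cls t ∧
        (D.act n).val *ᵥ r2 = r1 + β • D.cls t := by
  obtain ⟨hZ, hA, -⟩ := K.move (g := n) (a := D.z) hnx (Or.inl rfl)
    (Or.inl (by rw [hnz.eq, mul_inv_cancel_right]))
  set p := D.cls t with hpdef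
  have hiso := D.act_iso hnz
  have hkp : (D.act n).val *ᵥ p = p := by
    rw [hpdef, ← D.act_cls n hnz t K.pt.mem, hnt, K.pt.cls_zt]
  have hkv' : D.B p ((D.act n).val *ᵥ v) = 0 := by
    nth_rewrite 1 [← hkp]
    rw [D.space.B_act hiso]; exact K.fr.vperp
  obtain ⟨αv, hαv⟩ := siegel_eq D.space K.pt.cls_sing K.pt.cls_ne K.fr.vperp hkv' (by
    have hact : D.act (n * x * n⁻¹) = D.act x := by rw [hnx.eq, mul_inv_cancel_right]
    rw [D.act_mul _ _ (hnz.mul_left K.xz) hnz.inv_left, D.act_mul _ _ hnz K.xz, D.act_inv hnz,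
      K.fr.act_eq, sGL_conj D.space K.pt.cls_sing K.fr.vperp hiso, hkp] at hact
    exact hact.symm)
  -- the third element
  obtain ⟨a, i, j, ha, hx'⟩ := hZ x' (K.V_Z (Or.inr (Or.inr (Or.inl rfl))))
  obtain ⟨w, hw, hvw, hr1w, hr2w, -, hwact, hvp⟩ := K.vp_act
  have hkw' : D.B p ((D.act n).val *ᵥ w) = 0 := by
    nth_rewrite 1 [← hkp]
    rw [D.space.B_act hiso]; exact hw
  obtain ⟨αw, hαw⟩ := siegel_eq D.space K.pt.cls_sing K.pt.cls_ne (hvp i j).2 hkw' (by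
    have hact := congrArg D.act hx'
    rw [D.act_mul _ _ (hnz.mul_left K.x'z) hnz.inv_left, D.act_mul _ _ hnz K.x'z, D.act_inv hnz,
      hwact, sGL_conj D.space K.pt.cls_sing hw hiso, hkp,
      D.act_mul _ _ (K.A_M ha).1 (K.V_M (K.vp_mem i j)).1, D.act_q (K.pt.inA_mem ha).1, one_mul,
      (hvp i j).1] at hact
    exact hact.symm)
  obtain rfl : j = 1 := by
    have e := D.space.B_act hiso v w
    rw [hαv, hαw, hvw] at e
    simpa [B_self D.space, hvw, hpdef, show D.B (D.cls t) v = 0 from K.fr.vperp,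
      show D.B (D.cls t) w = 0 from hw, D.space.symm v (D.cls t)] using e
  -- the pair
  have himg : ∀ {q r}, D.InCQ t q → D.cls q = r → Commute q x → q * q = 1 → ¬ D.InA t q →
      ∃ α : ZMod 2, (D.act n).val *ᵥ r = r1 + α • p ∨ (D.act n).val *ᵥ r = r2 + α • p := by
    intro q r hq hr hqx hq2 hqA
    have hm := (Subgroup.mem_normalizer_iff.1 (D.ctx.norm n hnz) q).1 hq.1
    obtain ⟨b, hb, hc⟩ := K.Q_invol hm ((hnx.mul_left hqx).mul_left hnx.inv_left)
      (by rw [show n * q * n⁻¹ * (n * q * n⁻¹) = n * (q * q) * n⁻¹ by group, hq2]; simp)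
      (fun h => hqA (by
        obtain ⟨-, hA', -⟩ := K.move (g := n⁻¹) (a := D.z) hnx.inv_left (Or.inl rfl)
          (Or.inl (by rw [hnz.inv_left.eq, mul_inv_cancel_right]))
        rcases h with h | h
        · exact Or.inl (conj_eq_one_iff.1 h)
        · have := hA' _ h
          rw [show n⁻¹ * (n * q * n⁻¹) * n⁻¹⁻¹ = q by group] at this
          exact Or.inr this))
    obtain ⟨α, hα⟩ := K.pt.cls_inA hb
    refine ⟨α, ?_⟩
    rw [← hr, ← D.act_cls n hnz q hq.1]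
    rcases hc with e | e
    · exact Or.inl (by rw [e, D.cls_mul _ (K.pt.inA_mem hb).1 _ K.cq1.1, K.cls1, hα, add_comm])
    · exact Or.inr (by rw [e, D.cls_mul _ (K.pt.inA_mem hb).1 _ K.cq2.1, K.cls2, hα, add_comm])
  have hnA : ∀ {q r r'}, D.cls q = r → D.B r r' = 1 → D.B p r' = 0 → ¬ D.InA t q :=
    fun {q r r'} hr h1 h2 hA' => by
      obtain ⟨β, hβ⟩ := K.pt.cls_inA hA'
      rw [← hr, hβ, map_smul, LinearMap.smul_apply, h2, smul_zero] at h1
      exact zero_ne_one h1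
  have hpr1 : D.B p r1 = 0 := K.coord.pr
  have hpr2 : D.B p r2 = 0 := K.coord.pr'
  have hrr' : D.B r2 r1 = 1 := (D.space.symm _ _).trans K.coord.rr
  obtain ⟨α1, h1⟩ := himg K.cq1 K.cls1 K.q1x
    ((D.cls_sq q1 K.cq1.1).2 (by rw [K.cls1]; exact K.qr1)) (hnA K.cls1 K.coord.rr hpr2)
  obtain ⟨α2, h2⟩ := himg K.cq2 K.cls2 K.q2x
    ((D.cls_sq q2 K.cq2.1).2 (by rw [K.cls2]; exact K.qr2)) (hnA K.cls2 hrr' hpr1)
  -- the other vector of the first plane
  obtain ⟨αu, hu⟩ : ∃ αu : ZMod 2, (D.act n).val *ᵥ u = u + i • v + αu • p := by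
    obtain ⟨α, hα⟩ := K.coord.decomp hw
    rw [hvw, hr1w, hr2w, one_smul, zero_smul, add_zero, zero_smul, add_zero] at hα
    obtain ⟨ε, hε⟩ : ∃ ε, ε = D.B u w := ⟨_, rfl⟩
    rw [← hε] at hα
    have he : u = w + α • D.cls t + ε • v := by
      rw [hα, show α • D.cls t + u + ε • v + α • D.cls t + ε • v =
        (α • D.cls t + α • D.cls t) + u + (ε • v + ε • v) by abel, vadd_self, vadd_self,
        zero_add, add_zero]
    refine ⟨αw + ε * αv, ?_⟩
    nth_rewrite 1 [he]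
    nth_rewrite 1 [he]
    rw [Matrix.mulVec_add, Matrix.mulVec_add, Matrix.mulVec_smul, Matrix.mulVec_smul, ← hpdef, hkp,
      hαv, hαw, one_smul, smul_add, smul_smul, add_smul]
    abel
  have hsiegel : (∀ w ∈ [u, v, r1, r2], ∃ α : ZMod 2, (D.act n).val *ᵥ w = w + α • p) → False := by
    intro hl
    obtain ⟨a1, e1⟩ := hl u (by simp)
    obtain ⟨a2, e2⟩ := hl v (by simp)
    obtain ⟨a3, e3⟩ := hl r1 (by simp)
    obtain ⟨a4, e4⟩ := hl r2 (by simp)
    obtain ⟨b, hb, hnb⟩ := exists_siegel D.space hiso K.pt.cls_sing K.pt.cls_ne hkp fun w hw => by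
      obtain ⟨α, hα⟩ := K.coord.decomp hw
      refine ⟨D.B v w * a1 + D.B u w * a2 + D.B r2 w * a3 + D.B r1 w * a4, ?_⟩
      conv_lhs => rw [hα]
      conv_rhs => arg 1; rw [hα]
      simp only [← hpdef, Matrix.mulVec_add, Matrix.mulVec_smul, hkp, e1, e2, e3, e4, smul_add,
        add_smul, mul_smul]
      abel
    exact K.no_siegel hnz hnx hnt hb hnb
  have hne12 : ¬ (∃ α β : ZMod 2, ((D.act n).val *ᵥ r1 = r1 + α • p ∧ (D.act n).val *ᵥ r2 = r1 + β • p) ∨
      ((D.act n).val *ᵥ r1 = r2 + α • p ∧ (D.act n).val *ᵥ r2 = r2 + β • p)) := by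
    rintro ⟨α, β, ⟨e1, e2⟩ | ⟨e1, e2⟩⟩ <;>
    · have e := D.space.B_act hiso r1 r2
      rw [e1, e2, K.coord.rr] at e
      simp [B_self D.space, hpr1, hpr2, D.space.symm r1 p, D.space.symm r2 p] at e
  rcases h1 with h1 | h1 <;> rcases h2 with h2 | h2
  · exact absurd ⟨α1, α2, Or.inl ⟨h1, h2⟩⟩ hne12
  · exfalso
    rcases bit i with rfl | rfl
    · refine hsiegel fun w hw => ?_
      simp only [List.mem_cons, List.mem_nil_iff, or_false] at hw
      rcases hw with rfl | rfl | rfl | rfl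
      · exact ⟨αu, by rw [hu, zero_smul, add_zero]⟩
      exacts [⟨αv, hαv⟩, ⟨α1, h1⟩, ⟨α2, h2⟩]
    · have hQv := frame_qv K.coord.six K.fr
      refine K.coord.no_refl (D.act_mem n hnz) hkp hQv K.fr.vperp fun w hw => ?_
      have hvp' : ∀ α : ZMod 2, D.B v (α • p) = 0 := fun α => by
        rw [map_smul, D.space.symm, show D.B p v = 0 from K.fr.vperp, smul_zero]
      simp only [List.mem_cons, List.mem_nil_iff, or_false] at hw
      rw [mul_act]
      rcases hw with rfl | rfl | rfl | rfl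
      · refine ⟨αu, ?_⟩
        rw [hu, one_smul, rGL_apply D.space hQv, map_add, map_add, hvp', B_self D.space, D.space.symm,
          K.coord.uv, add_zero, add_zero, one_smul]
        show w + v + αu • p + v = w + αu • p
        rw [show w + v + αu • p + v = w + αu • p + (v + v) by abel, vadd_self, add_zero]
      · exact ⟨αv, by rw [hαv, rGL_apply D.space hQv, map_add, hvp', B_self D.space, add_zero,
          zero_smul, add_zero]⟩
      · exact ⟨α1, by rw [h1, rGL_apply D.space hQv, map_add, hvp', K.coord.vr, add_zero, zero_smul,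
          add_zero]⟩
      · exact ⟨α2, by rw [h2, rGL_apply D.space hQv, map_add, hvp', K.coord.vr', add_zero, zero_smul,
          add_zero]⟩
  · rcases bit i with rfl | rfl
    · exfalso
      have hQ : D.qf (r1 + r2) = 1 := by
        rw [D.space.add, K.qr1, K.qr2, K.coord.rr, zero_add, zero_add]
      have hps : D.B p (r1 + r2) = 0 := by rw [map_add, hpr1, hpr2, add_zero]
      refine K.coord.no_refl (D.act_mem n hnz) hkp hQ hps fun w hw => ?_
      have hrp : ∀ α : ZMod 2, D.B (r1 + r2) (α • p) = 0 := fun α => by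
        rw [map_smul, D.space.symm, hps, smul_zero]
      simp only [List.mem_cons, List.mem_nil_iff, or_false] at hw
      rw [mul_act]
      rcases hw with rfl | rfl | rfl | rfl
      · refine ⟨αu, ?_⟩
        rw [hu, zero_smul, add_zero, rGL_apply D.space hQ, map_add (D.B (r1 + r2)), hrp, add_zero,
          map_add, LinearMap.add_apply, D.space.symm r1, D.space.symm r2, K.coord.ur, K.coord.ur',
          add_zero, zero_smul, add_zero]
      · refine ⟨αv, ?_⟩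
        rw [hαv, rGL_apply D.space hQ, map_add (D.B (r1 + r2)), hrp, add_zero,
          map_add, LinearMap.add_apply, D.space.symm r1, D.space.symm r2, K.coord.vr, K.coord.vr',
          add_zero, zero_smul, add_zero]
      · refine ⟨α1, ?_⟩
        rw [h1, rGL_apply D.space hQ, map_add (D.B (w + r2)) r2, hrp, add_zero, map_add,
          LinearMap.add_apply, B_self D.space, add_zero, K.coord.rr, one_smul,
          show r2 + α1 • p + (w + r2) = w + α1 • p + (r2 + r2) by abel, vadd_self, add_zero]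
      · refine ⟨α2, ?_⟩
        rw [h2, rGL_apply D.space hQ, map_add (D.B (r1 + w)) r1, hrp, add_zero, map_add,
          LinearMap.add_apply, B_self D.space, zero_add, D.space.symm, K.coord.rr, one_smul,
          show r1 + α2 • p + (r1 + w) = w + α2 • p + (r1 + r1) by abel, vadd_self, add_zero]
    · exact ⟨⟨a, ha, by rw [hx']; simp⟩, α1, α2, h1, h2⟩
  · exact absurd ⟨α1, α2, Or.inr ⟨h1, h2⟩⟩ hne12

theorem t_cases {y : G} (hyz : Commute y D.z) (hyx : Commute y x) :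
    Commute y t ∨ y * t * y⁻¹ = D.z * t := by
  obtain ⟨-, hA, -⟩ := K.move (g := y) (a := D.z) hyx (Or.inl rfl)
    (Or.inl (by rw [hyz.eq, mul_inv_cancel_right]))
  rcases hA t (Or.inr (Or.inl rfl)) with e | e | e
  · exfalso
    have : y * t * y⁻¹ = y * D.z * y⁻¹ := by rw [e, hyz.eq, mul_inv_cancel_right]
    exact K.pt.ne_z (mul_left_cancel (mul_right_cancel this))
  · exact Or.inl (mul_inv_eq_iff_eq_mul.1 e)
  · exact Or.inr e

theorem zc_of_two {y q q' : G} (hyx : Commute y x) (hyz : Commute y D.z) (hq : q ∈ D.Q)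
    (hq' : q' ∈ D.Q) (h2 : q * q = 1) (h2' : q' * q' = 1) (hqx : Commute q x) (hq'x : Commute q' x)
    (hne : ¬ Commute q q') (hyq : Commute y q) (hyq' : Commute y q') : ZC D x D.z y := by
  refine (K.zc_A (Or.inl rfl)).2 ?_
  obtain ⟨m1, m2, -, -⟩ := K.q_M
  have hcomm : ∀ {q q'}, q ∈ D.Q → q' ∈ D.Q → Commute q x → Commute q' x → D.InA t q →
      Commute q q' := fun {q q'} _ hq' _ hq'x hA => by
    have hfix : (D.act x).val *ᵥ D.cls q' = D.cls q' := by
      rw [← D.act_cls x K.xz q' hq', ← hq'x.eq, mul_inv_cancel_right]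
    exact K.A_comm hA (D.ctx.central q' hq').symm
      ((K.pt.inCQ_iff hq').2 (fix_cls K.fr hfix).1).2
  obtain ⟨a, ha, e⟩ := K.Q_invol hq hqx h2 fun h => hne (hcomm hq hq' hqx hq'x h)
  obtain ⟨b, hb, e'⟩ := K.Q_invol hq' hq'x h2' fun h => hne (hcomm hq' hq hq'x hqx h).symm
  have hab : ∀ {c}, K.InM c → Commute c c → Commute (a * c) (b * c) := fun {c} hc hcc =>
    ((K.A_comm ha (K.A_M hb).1 (K.A_M hb).2.1).mul_right (K.A_comm ha hc.1 hc.2.1)).mul_left
      ((K.A_comm hb hc.1 hc.2.1).symm.mul_right hcc)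
  have hpair : ∃ a b, D.InA t a ∧ D.InA t b ∧ Commute y (a * q1) ∧ Commute y (b * q2) := by
    rcases e with e | e <;> rcases e' with e' | e' <;> rw [e, e'] at hne <;> rw [e] at hyq <;>
      rw [e'] at hyq'
    · exact absurd (hab m1 (Commute.refl q1)) hne
    · exact ⟨a, b, ha, hb, hyq, hyq'⟩
    · exact ⟨b, a, hb, ha, hyq', hyq⟩
    · exact absurd (hab m2 (Commute.refl q2)) hne
  obtain ⟨a', b', ha', hb', hy1, hy2⟩ := hpair
  rcases K.t_cases hyz hyx with hyt | hyt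
  · have hyA : ∀ {c}, D.InA t c → Commute y c := fun hc => (K.A_comm hc hyz hyt).symm
    have h1 : Commute y q1 := by
      have := (hyA ha').inv_right.mul_right hy1
      rwa [← mul_assoc, inv_mul_cancel, one_mul] at this
    have h2 : Commute y q2 := by
      have := (hyA hb').inv_right.mul_right hy2
      rwa [← mul_assoc, inv_mul_cancel, one_mul] at this
    obtain ⟨c, i', j', i, j, k, l, hc, hy⟩ := K.M_decomp ⟨hyz, hyt, hyx⟩
    exact K.Z_of_el hc hy ((K.el_comm_q i j k l).1 (K.el_commute_of hc hy m1 h1))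
      ((K.el_comm_q i j k l).2 (K.el_commute_of hc hy m2 h2))
  · exfalso
    obtain ⟨-, α, -, hk, -⟩ := K.swap_facts hyz hyx hyt
    have hp : (D.act y).val *ᵥ D.cls t = D.cls t := by
      rw [← D.act_cls y hyz t K.pt.mem, hyt, K.pt.cls_zt]
    have hmem : a' * q1 ∈ D.Q := mul_mem (K.pt.inA_mem ha').1 K.cq1.1
    have e := D.act_cls y hyz _ hmem
    rw [hy1.eq, mul_inv_cancel_right, D.cls_mul _ (K.pt.inA_mem ha').1 _ K.cq1.1, K.cls1] at e
    obtain ⟨γ, hγ⟩ := K.pt.cls_inA ha'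
    rw [hγ, Matrix.mulVec_add, Matrix.mulVec_smul, hp, hk] at e
    have := congrArg (D.B r1) e
    simp [B_self D.space, K.coord.rr, D.space.symm r1 (D.cls t), K.coord.pr] at this

/-- The same at any conjugate of `z` centralizing `x`. -/
theorem zc_of_pair {w y q q' : G} (hw : D.Cl w) (hwx : Commute w x) (hyx : Commute y x)
    (hyw : Commute y w) (hq : q ∈ D.Qof w) (hq' : q' ∈ D.Qof w) (h2 : q * q = 1)
    (h2' : q' * q' = 1) (hqx : Commute q x) (hq'x : Commute q' x) (hne : ¬ Commute q q')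
    (hyq : Commute y q) (hyq' : Commute y q') : ZC D x w y := by
  obtain ⟨g, hgw, hgx⟩ := to_pair K.coord.six K.fr hw K.x_sq K.fr.ne_one K.x_not_cl hwx
  have hg : Commute g x := mul_inv_eq_iff_eq_mul.1 hgx
  have hc : ∀ {s}, Commute s x → Commute (g * s * g⁻¹) x := fun hs =>
    (hg.mul_left hs).mul_left hg.inv_left
  have hQ : ∀ {s}, s ∈ D.Qof w → g * s * g⁻¹ ∈ D.Q := fun hs => by
    have := D.Qof_conj hw g hs
    rwa [hgw, D.Qof_self] at this
  have hsq : ∀ {s : G}, s * s = 1 → g * s * g⁻¹ * (g * s * g⁻¹) = 1 := fun {s} hs => by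
    rw [show g * s * g⁻¹ * (g * s * g⁻¹) = g * (s * s) * g⁻¹ by group, hs]; simp
  have key := K.zc_of_two (y := g * y * g⁻¹) (q := g * q * g⁻¹) (q' := g * q' * g⁻¹) (hc hyx)
    (by rw [← hgw]; exact (Commute.conj_iff g).2 hyw) (hQ hq) (hQ hq') (hsq h2) (hsq h2') (hc hqx)
    (hc hq'x) (fun e => hne ((Commute.conj_iff g).1 e)) ((Commute.conj_iff g).2 hyq)
    ((Commute.conj_iff g).2 hyq')
  have := zc_conj (g := g⁻¹) hg.inv_left D.cl_z key
  rwa [show g⁻¹ * D.z * g⁻¹⁻¹ = w by rw [← hgw]; group,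
    show g⁻¹ * (g * y * g⁻¹) * g⁻¹⁻¹ = y by group] at this

theorem cl_M {c : G} (hc : K.InM c) (hcl : D.Cl c) :
    ∃ a i j k l, D.InA t a ∧ c = a * elm q1 q2 y1 y2 i j k l ∧
      elm q1 q2 y1 y2 i j k l * elm q1 q2 y1 y2 i j k l = 1 := by
  obtain ⟨a, i', j', i, j, k, l, ha, rfl⟩ := K.M_decomp hc
  set e := elm q1 q2 y1 y2 i j k l with he
  have hV := K.vp_mem i' j'
  have hcomm : Commute (a * (pick x i' * pick x' j')) e :=
    K.Z_comm ⟨a, i', j', ha, rfl⟩ (K.el_M i j k l)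
  have hAV : Commute a (pick x i' * pick x' j') :=
    K.A_comm ha (K.V_M hV).1 (K.V_M hV).2.1
  have ha2 : a * a = 1 := by
    obtain ⟨i0, j0, rfl⟩ := K.pt.inA_zt ha
    rw [K.pt.zt_add, bit_self, bit_self]; simp [Data.zt]
  have he2 : e * e = 1 := by
    have h2 := hcl.sq D
    rwa [hcomm.symm.mul_mul_mul_comm, hAV.symm.mul_mul_mul_comm, ha2, K.V_sq hV, one_mul,
      one_mul] at h2
  refine ⟨a, i, j, k, l, ha, ?_, he2⟩
  by_contra hne
  have hij : ¬ (i' = 0 ∧ j' = 0) := fun ⟨e1, e2⟩ => hne (by simp [e1, e2, he])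
  obtain ⟨w, hw, hvw, hr1w, hr2w, hQw, -, hvp⟩ := K.vp_act
  have hcM := hc
  have hact : D.act (a * (pick x i' * pick x' j') * e) =
      sGL D.qf D.B (D.cls t) (i' • v + j' • w + (k • r1 + l • r2)) := by
    have h1 := (K.A_M ha).1
    have h2 := (K.V_M hV).1
    rw [D.act_mul _ _ (h1.mul_left h2) (K.el_M i j k l).1, D.act_mul _ _ h1 h2,
      D.act_q (K.pt.inA_mem ha).1, one_mul, (hvp i' j').1, show D.act e = _ from K.el_act i j k l,
      sGL_mul D.space K.pt.cls_sing (hvp i' j').2 (K.yi_facts k l).2.2]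
  have hkl : k * l = 0 := by
    obtain ⟨e1, e2⟩ := (K.el_sq i j k l).1 he2
    rcases el_cases i j k l e1 e2 with ⟨rfl, rfl⟩ | ⟨rfl, rfl⟩ | ⟨-, -, rfl, rfl⟩ | ⟨-, -, rfl, rfl⟩
    · simp
    · simpa using e2
    · simp
    · simp
  have hb : D.B (D.cls t) (i' • v + j' • w + (k • r1 + l • r2)) = 0 := by
    rw [map_add, (hvp i' j').2, (K.yi_facts k l).2.2, add_zero]
  have hQ : D.qf (i' • v + j' • w + (k • r1 + l • r2)) = 1 := by
    rcases bit i' with rfl | rfl <;> rcases bit j' with rfl | rfl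
    · exact absurd ⟨rfl, rfl⟩ hij
    all_goals
      rcases q_cases k l hkl with ⟨rfl, rfl⟩ | ⟨rfl, rfl⟩ | ⟨rfl, rfl⟩ <;>
      simp [D.space.add, D.space.smul, K.qr1, K.qr2, frame_qv K.coord.six K.fr, hQw, hvw,
        K.coord.vr, K.coord.vr', D.space.symm w r1, D.space.symm w r2, hr1w, hr2w, bit_self]
  rcases K.pt.classify hcM.1 hcM.2.1 (hcl.sq D) hb (fun hm => by
      obtain ⟨α, hα⟩ := Submodule.mem_span_singleton.1 hm
      rw [← hα, D.space.smul, K.pt.cls_sing, mul_zero] at hQ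
      exact zero_ne_one hQ) hact with h | ⟨u', F⟩
  · rw [hQ] at h; exact one_ne_zero h.1
  · exact F.not_cl hcl

theorem has_pair {a : G} (ha : D.InA t a) :
    HasPair D x x' (a * q1) ∧ HasPair D x x' (a * q2) ∧ HasPair D x x' (a * y1) ∧
      HasPair D x x' (a * y2) ∧ HasPair D x x' (a * (q1 * y1)) ∧ HasPair D x x' (a * (q2 * y2)) := by
  obtain ⟨m1, m2, m3, m4⟩ := K.q_M
  have hha : Commute h a := (K.A_comm ha K.hz K.ht).symm
  have hax : Commute a x := K.A_comm ha K.xz K.xt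
  have ha2 : a * a = 1 := by
    obtain ⟨i0, j0, rfl⟩ := K.pt.inA_zt ha
    rw [K.pt.zt_add, bit_self, bit_self]; simp [Data.zt]
  have sqm : ∀ {c}, K.InM c → c * c = 1 → a * c * (a * c) = 1 := fun {c} hc h2 => by
    rw [(K.A_comm ha hc.1 hc.2.1).symm.mul_mul_mul_comm, ha2, h2, one_mul]
  have anti : ∀ {c c'}, K.InM c' → ¬ Commute c c' → ¬ Commute (a * c) c' := fun {c c'} hc' hn e =>
    hn (by
      have := (K.A_comm ha hc'.1 hc'.2.1).inv_left.mul_left e
      rwa [← mul_assoc, inv_mul_cancel, one_mul] at this)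
  have hp := K.pt
  have hq1s : q1 * q1 = 1 := (D.cls_sq q1 K.cq1.1).2 (by rw [K.cls1]; exact K.qr1)
  have hq2s : q2 * q2 = 1 := (D.cls_sq q2 K.cq2.1).2 (by rw [K.cls2]; exact K.qr2)
  have hy1s : y1 * y1 = 1 := (hp.third K.pq1 K.coord.pr K.act1).1 K.qr1
  have hy2s : y2 * y2 = 1 := (hp.third K.pq2 K.coord.pr' K.act2).1 K.qr2
  have hn12 : ¬ Commute q1 q2 := fun e => by
    have := (D.cls_comm q1 K.cq1.1 q2 K.cq2.1).1 e
    rw [K.cls1, K.cls2, K.coord.rr] at this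
    exact one_ne_zero this
  have hny : ¬ Commute y1 y2 := fun e => by
    have h' := hp.swap_pq K.pq1 K.pq2 K.coord.pr K.coord.pr' K.act1 K.act2
    rw [e.eq, K.coord.rr] at h'
    exact one_ne_zero (hp.zt_eq_one (mul_eq_right.1 h'.symm)).2
  have hz2 : ∀ {q y r}, D.InCQ t q → D.cls q = r → D.InPQ t y → D.B (D.cls t) r = 0 → D.qf r = 0 →
      D.act y = sGL D.qf D.B (D.cls t) r → q * y * (q * y) = 1 := fun {q y r} hq hc hy hr hQ hy' =>
    (hp.sq_iff hq hy hr hy').2 ⟨by rw [hc, hQ, B_self D.space], by rw [hc, hQ, B_self D.space]⟩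
  have hnqy : ¬ Commute (q1 * y1) (q2 * y2) := fun e => by
    have h' := hp.swap_mul K.cq1 K.pq1 K.cq2 K.pq2 K.coord.pr K.coord.pr' K.act1 K.act2
    rw [e.eq, K.cls1, K.cls2, K.coord.rr, D.space.symm r2 r1, K.coord.rr, bit_self, add_zero] at h'
    exact one_ne_zero (hp.zt_eq_one (mul_eq_right.1 h'.symm)).1
  have mk0 : ∀ {q q'}, D.InCQ t q → D.InCQ t q' → q * q = 1 → q' * q' = 1 → ¬ Commute q q' →
      Commute q x → Commute q' x → Commute h q → Commute h q' → Tri D x x' h t q q' :=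
    fun hq hq' s s' hn c c' k k' =>
      ⟨K.coord.six, ⟨v, u, K.fr⟩, hq, hq', s, s', hn, c, c', K.hz, K.ht, k, k', K.h3, K.conj1,
        K.conj2, K.xx'⟩
  have mk : ∀ {w : G}, D.Point w → (∃ v u, D.Frame x w v u) → Commute h w → ∀ {q q'},
      q ∈ D.Qof w → Commute q D.z → q' ∈ D.Qof w → Commute q' D.z → q * q = 1 → q' * q' = 1 →
      ¬ Commute q q' → Commute q x → Commute q' x → Commute h q → Commute h q' →
      HasPair D x x' q := by
    intro w hw hF hhw q q' hq hqz hq' hq'z s s' hn c c' k k'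
    obtain ⟨v0, u0, F0⟩ := hF
    obtain ⟨g, hg⟩ := hw.cl
    obtain ⟨v', u', F'⟩ := frame_conj F0 hg
    have hQ : (D.conj g).Q = D.Qof w := (D.Qof_eq hg).symm
    have hne : q ≠ 1 := fun e => hn (e ▸ Commute.one_left _)
    exact pair_of_tri_conj (D.cl_of_Qof hw.cl hq s hne)
      (Tri.mk (D := D.conj g) (t := D.z) (K.coord.six.conj g) ⟨v', u', F'⟩ ⟨hQ.symm ▸ hq, hqz⟩
        ⟨hQ.symm ▸ hq', hq'z⟩ s s' hn c c' (by show Commute h (g * D.z * g⁻¹); rw [hg]; exact hhw)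
        K.hz k k' K.h3 K.conj1 K.conj2 K.xx')
  obtain ⟨u', Fzt⟩ := frame_zt K.fr
  have cqA : ∀ {q}, D.InCQ t q → D.InCQ t (a * q) := fun hq =>
    ⟨mul_mem (hp.inA_mem ha).1 hq.1, (hp.cq_A ha).2.mul_left hq.2⟩
  have hazt : a ∈ D.Qof (D.z * t) := by
    refine (hp.z_mul.inA_mem ?_).2
    have e : D.z * (D.z * t) = t := by rw [← mul_assoc, D.ctx.sq_z, one_mul]
    rcases ha with h | h | h | h
    exacts [Or.inl h, Or.inr (Or.inl h), Or.inr (Or.inr (Or.inr (h.trans e.symm))),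
      Or.inr (Or.inr (Or.inl h))]
  have haz : Commute a D.z := (K.A_M ha).1
  have hm13 := K.M_mul m1 m3
  have hm24 := K.M_mul m2 m4
  have hQ1 := qy_Qof hp K.coord.pr K.cq1 K.cls1 K.pq1 K.act1
  have hQ2 := qy_Qof hp K.coord.pr' K.cq2 K.cls2 K.pq2 K.act2
  refine ⟨?_, ?_, ?_, ?_, ?_, ?_⟩
  · exact pair_of_tri (mk0 (cqA K.cq1) K.cq2 (sqm m1 hq1s) hq2s (anti m2 hn12)
      (hax.mul_left K.q1x) K.q2x (hha.mul_right K.hq1) K.hq2)
  · exact pair_of_tri (mk0 (cqA K.cq2) K.cq1 (sqm m2 hq2s) hq1s (anti m1 fun e => hn12 e.symm)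
      (hax.mul_left K.q2x) K.q1x (hha.mul_right K.hq2) K.hq1)
  · exact mk hp ⟨v, u, K.fr⟩ K.ht (mul_mem (hp.inA_mem ha).2 K.pq1.1) (haz.mul_left m3.1) K.pq2.1
      m4.1 (sqm m3 hy1s) hy2s (anti m4 hny) (hax.mul_left K.y1x) K.y2x (hha.mul_right K.hy1) K.hy2
  · exact mk hp ⟨v, u, K.fr⟩ K.ht (mul_mem (hp.inA_mem ha).2 K.pq2.1) (haz.mul_left m4.1) K.pq1.1
      m3.1 (sqm m4 hy2s) hy1s (anti m3 fun e => hny e.symm) (hax.mul_left K.y2x) K.y1x
      (hha.mul_right K.hy2) K.hy1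
  · exact mk hp.z_mul ⟨v, u', Fzt⟩ (K.hz.mul_right K.ht) (mul_mem hazt hQ1) (haz.mul_left hm13.1)
      hQ2 hm24.1 (sqm hm13 (hz2 K.cq1 K.cls1 K.pq1 K.coord.pr K.qr1 K.act1))
      (hz2 K.cq2 K.cls2 K.pq2 K.coord.pr' K.qr2 K.act2) (anti hm24 hnqy)
      (hax.mul_left hm13.2.2) hm24.2.2 (hha.mul_right (K.hq1.mul_right K.hy1))
      (K.hq2.mul_right K.hy2)
  · exact mk hp.z_mul ⟨v, u', Fzt⟩ (K.hz.mul_right K.ht) (mul_mem hazt hQ2) (haz.mul_left hm24.1)
      hQ1 hm13.1 (sqm hm24 (hz2 K.cq2 K.cls2 K.pq2 K.coord.pr' K.qr2 K.act2))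
      (hz2 K.cq1 K.cls1 K.pq1 K.coord.pr K.qr1 K.act1) (anti hm13 fun e => hnqy e.symm)
      (hax.mul_left hm24.2.2) hm13.2.2 (hha.mul_right (K.hq2.mul_right K.hy2))
      (K.hq1.mul_right K.hy1)

/-- The four-group is cut out of the centre by the conjugates of `z` nearby. -/
theorem V_iff {y : G} :
    K.InV y ↔ K.InZ y ∧ ∀ c, K.InM c → D.Cl c → ZC D x c y := by
  constructor
  · intro hy
    refine ⟨K.V_Z hy, fun c hc hcl => ?_⟩
    obtain ⟨a, i, j, k, l, ha, rfl, he2⟩ := K.cl_M hc hcl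
    have finish : HasPair D x x' (a * elm q1 q2 y1 y2 i j k l) →
        ZC D x (a * elm q1 q2 y1 y2 i j k l) y := by
      rintro ⟨m, s, hm, hs, hm2, hs2, hne, hmx, hmx', hsx, hsx'⟩
      exact K.zc_of_pair hcl hc.2.2 (K.V_M hy).2.2 (K.V_comm hy hc.2.2 (K.M_x' hc)) hm hs hm2 hs2
        hmx hsx hne (K.V_comm hy hmx hmx') (K.V_comm hy hsx hsx')
    obtain ⟨p1, p2, p3, p4, p5, p6⟩ := K.has_pair ha
    obtain ⟨e1, e2⟩ := (K.el_sq i j k l).1 he2
    have hq0 : ∀ i j : ZMod 2, i * j = 0 → HasPair D x x' (a * elm q1 q2 y1 y2 i j 0 0) ∨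
        (i = 0 ∧ j = 0) := by
      intro i j hij
      rcases q_cases i j hij with ⟨rfl, rfl⟩ | ⟨rfl, rfl⟩ | ⟨rfl, rfl⟩
      · exact Or.inr ⟨rfl, rfl⟩
      · exact Or.inl (by simpa [elm] using p1)
      · exact Or.inl (by simpa [elm] using p2)
    have hy0 : ∀ k l : ZMod 2, k * l = 0 → HasPair D x x' (a * elm q1 q2 y1 y2 0 0 k l) ∨
        (k = 0 ∧ l = 0) := by
      intro k l hkl
      rcases q_cases k l hkl with ⟨rfl, rfl⟩ | ⟨rfl, rfl⟩ | ⟨rfl, rfl⟩
      · exact Or.inr ⟨rfl, rfl⟩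
      · exact Or.inl (by simpa [elm] using p3)
      · exact Or.inl (by simpa [elm] using p4)
    have hA : (i = 0 ∧ j = 0) ∧ k = 0 ∧ l = 0 → ZC D x (a * elm q1 q2 y1 y2 i j k l) y := by
      rintro ⟨⟨rfl, rfl⟩, rfl, rfl⟩
      have hel : a * elm q1 q2 y1 y2 0 0 0 0 = a := by simp [elm]
      rw [hel] at hcl ⊢
      exact (K.zc_A (ha.resolve_left (hcl.ne_one D))).2 (K.V_Z hy)
    rcases el_cases i j k l e1 e2 with ⟨rfl, rfl⟩ | ⟨rfl, rfl⟩ | ⟨rfl, rfl, rfl, rfl⟩ |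
      ⟨rfl, rfl, rfl, rfl⟩
    · rcases hq0 i j (by simpa using e1) with h | h
      exacts [finish h, hA ⟨h, rfl, rfl⟩]
    · rcases hy0 k l (by simpa using e2) with h | h
      exacts [finish h, hA ⟨⟨rfl, rfl⟩, h⟩]
    · exact finish (by simpa [elm] using p5)
    · exact finish (by simpa [elm] using p6)
  · rintro ⟨⟨a, i, j, ha, rfl⟩, hall⟩
    set V0 := pick x i * pick x' j with hV0
    have hV := K.vp_mem i j
    obtain ⟨m1, m2, -, -⟩ := K.q_M
    have hcl1 : D.Cl q1 := D.cl_of_mem K.cq1.1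
      ((D.cls_sq q1 K.cq1.1).2 (by rw [K.cls1]; exact K.qr1)) (fun e => by
        have := (D.cls_comm q1 K.cq1.1 q2 K.cq2.1).1 (e ▸ Commute.one_left _)
        rw [K.cls1, K.cls2, K.coord.rr] at this
        exact one_ne_zero this)
    obtain ⟨s, hs, hs2, hsz, hsx, hsx'⟩ := (show Tri D x x' h t q1 q2 from
      ⟨K.coord.six, ⟨v, u, K.fr⟩, K.cq1, K.cq2, (D.cls_sq q1 K.cq1.1).2 (by rw [K.cls1]; exact K.qr1),
        (D.cls_sq q2 K.cq2.1).2 (by rw [K.cls2]; exact K.qr2), fun e => by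
          have := (D.cls_comm q1 K.cq1.1 q2 K.cq2.1).1 e
          rw [K.cls1, K.cls2, K.coord.rr] at this
          exact one_ne_zero this,
        K.q1x, K.q2x, K.hz, K.ht, K.hq1, K.hq2, K.h3, K.conj1, K.conj2, K.xx'⟩).exists_mover_fixed
    have hsa : Commute s a := by
      have h1 := ((hall q1 m1 hcl1).2.2 s hs hsx).symm
      have h2 : Commute s V0 := (K.V_comm hV hsx hsx').symm
      have := h1.mul_right h2.inv_right
      rwa [mul_inv_cancel_right] at this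
    rcases ha with e | e | ha'
    · rw [e, one_mul]; exact hV
    · exact absurd (e ▸ hsa) hsz
    · exfalso
      obtain ⟨-, hA, -⟩ := K.move (g := s) (a := a) hsx (Or.inr ha')
        (by rw [hsa.eq, mul_inv_cancel_right]; exact Or.inr ha')
      have hq : Commute s q1 := ((D.ctx_Qof hcl1).central s hs).symm
      have h1 := D.Qof_conj D.cl_z s (show q1 ∈ D.Qof D.z by rw [D.Qof_self]; exact K.cq1.1)
      rw [hq.eq, mul_inv_cancel_right] at h1
      have hno : D.InA t q1 → False := fun hA' => by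
        have := K.A_comm hA' m2.1 m2.2.1
        have := (D.cls_comm q1 K.cq1.1 q2 K.cq2.1).1 this
        rw [K.cls1, K.cls2, K.coord.rr] at this
        exact one_ne_zero this
      rcases hA D.z (Or.inl rfl) with e | e | e <;> rw [e] at h1
      · exact hsz (mul_inv_eq_iff_eq_mul.1 e)
      · exact hno (K.pt.inter K.cq1.1 h1)
      · refine hno ?_
        have hez : D.z * (D.z * t) = t := by rw [← mul_assoc, D.ctx.sq_z, one_mul]
        rcases K.pt.z_mul.inter K.cq1.1 h1 with h | h | h | h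
        exacts [Or.inl h, Or.inr (Or.inl h), Or.inr (Or.inr (Or.inr h)),
          Or.inr (Or.inr (Or.inl (h.trans hez)))]

/-- The normalizer of the centralizer of the pair preserves the four-group. -/
theorem V_invariant {g : G} (hgx : Commute g x) (hgM : ∀ c, K.InM c ↔ K.InM (g * c * g⁻¹)) {y : G}
    (hy : K.InV y) : K.InV (g * y * g⁻¹) := by
  obtain ⟨m1, m2, -, -⟩ := K.q_M
  obtain ⟨hyZ, hall⟩ := K.V_iff.1 hy
  have hc : ∀ c, K.InM c → Commute (g * y * g⁻¹) c := fun c hc => by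
    have h1 : K.InM (g⁻¹ * c * g) := by
      rw [hgM, show g * (g⁻¹ * c * g) * g⁻¹ = c by group]; exact hc
    exact (commute_conj g (K.Z_comm hyZ h1).symm).symm
  have hM := (hgM y).1 (K.Z_M hyZ)
  obtain ⟨b, i', j', i, j, k, l, hb, he⟩ := K.M_decomp hM
  refine K.V_iff.2 ⟨K.Z_of_el hb he ((K.el_comm_q i j k l).1 (K.el_commute_of hb he m1 (hc _ m1)))
    ((K.el_comm_q i j k l).2 (K.el_commute_of hb he m2 (hc _ m2))), fun c hcM hcl => ?_⟩
  have h1 : K.InM (g⁻¹ * c * g) := by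
    rw [hgM, show g * (g⁻¹ * c * g) * g⁻¹ = c by group]; exact hcM
  have hcl' : D.Cl (g⁻¹ * c * g) := by simpa using hcl.conj D g⁻¹
  have := zc_conj hgx hcl' (hall _ h1 hcl')
  rwa [show g * (g⁻¹ * c * g) * g⁻¹ = c by group] at this

end Cfg

end Cfsg.Lib.Extra.SuzLocal
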