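import Cfsg.Agent.Lib.Extra.SuzLocal.Count

/-!
# The twenty-seven conjugates of `z` centralizing `z` and `x`

They are coded by six bits; the products with `z` of odd order of the conjugates centralizing `x`
are counted with the codes.
-/

set_option autoImplicit false
set_option linter.style.haveILetI false
set_option linter.unusedSectionVars false

namespace Cfsg.Lib.Extra.SuzLocal

open Cfsg Module Cfsg.Lib.Linear.Orth Cfsg.Lib.Extra.Wide
open scoped Matrix

/-- Six bits. -/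
abbrev Code : Type := (ZMod 2 × ZMod 2) × (ZMod 2 × ZMod 2 × ZMod 2 × ZMod 2)

/-- The code of `z`. -/
def zCode : Code := ((1, 0), 0)

/-- The codes of the conjugates of `z`. -/
def OkC (e : Code) : Prop :=
  (e.2.1 * e.2.2.1 = e.2.1 * e.2.2.2.2 + e.2.2.1 * e.2.2.2.1 ∧
    e.2.2.2.1 * e.2.2.2.2 = e.2.1 * e.2.2.2.2 + e.2.2.1 * e.2.2.2.1) ∧ e ≠ 0

/-- The first exponent of a commutator. -/
def cm1 (e f : Code) : ZMod 2 :=
  e.2.1 * f.2.2.1 + e.2.2.1 * f.2.1 +
    (f.2.1 * e.2.2.2.2 + f.2.2.1 * e.2.2.2.1 + (e.2.1 * f.2.2.2.2 + e.2.2.1 * f.2.2.2.1))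

/-- The second exponent of a commutator. -/
def cm2 (e f : Code) : ZMod 2 :=
  e.2.2.2.1 * f.2.2.2.2 + e.2.2.2.2 * f.2.2.2.1 +
    (f.2.1 * e.2.2.2.2 + f.2.2.1 * e.2.2.2.1 + (e.2.1 * f.2.2.2.2 + e.2.2.1 * f.2.2.2.1))

/-- The product has a power equal to `z`. -/
def PcC (e f : Code) : Prop := e = zCode + f ∨ (cm1 e f = 1 ∧ cm2 e f = 0)

instance decOkC (e : Code) : Decidable (OkC e) := by unfold OkC; infer_instance

instance decPcC (e f : Code) : Decidable (PcC e f) := by unfold PcC; infer_instance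

theorem pc_count : ∀ f : Code, OkC f → f ≠ zCode →
    (Finset.univ.filter fun e => OkC e ∧ PcC e f).card = if f.2 = 0 then 1 else 5 := by
  decide +kernel

theorem ok_count : (Finset.univ.filter fun e : Code => OkC e).card = 27 := by decide +kernel

theorem even_sum : ((Finset.univ.filter fun e : Code => OkC e ∧ e ≠ zCode).sum
    fun e => if e.2 = 0 then 1 else 5) = 122 := by decide +kernel

theorem nat_card_filter (P : Code → Prop) [DecidablePred P] :
    Nat.card {e : Code // P e} = (Finset.univ.filter P).card := by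
  rw [Nat.card_eq_fintype_card, Fintype.card_subtype]

universe u

variable {G : Type u} [Group G] {ι : Type} [Fintype ι] [DecidableEq ι] {D : Data G ι} [Finite G]

namespace Cfg

variable {x x' h t q1 q2 y1 y2 : G} {v u r1 r2 : ι → ZMod 2}
  (K : Cfg D x x' h t q1 q2 y1 y2 v u r1 r2)

/-- The element of a code. -/
def cEl (_K : Cfg D x x' h t q1 q2 y1 y2 v u r1 r2) (e : Code) : G :=
  D.zt t e.1.1 e.1.2 * elm q1 q2 y1 y2 e.2.1 e.2.2.1 e.2.2.2.1 e.2.2.2.2

include K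

theorem cEl_M (e : Code) : K.InM (K.cEl e) := K.M_mul (K.A_M (K.pt.zt_A _ _)) (K.el_M _ _ _ _)

theorem cEl_inj {e f : Code} (he : K.cEl e = K.cEl f) : e = f := by
  obtain ⟨⟨a, b⟩, i, j, k, l⟩ := e
  obtain ⟨⟨a', b'⟩, m, n, o, r⟩ := f
  obtain ⟨h0, -, -, rfl, rfl, rfl, rfl⟩ := K.inj (i' := 0) (j' := 0) (m' := 0) (n' := 0)
    (K.pt.zt_A a b) (K.pt.zt_A a' b') (by simpa [cEl] using he)
  have h1 : D.zt t (a + a') (b + b') = 1 := by
    rw [← K.pt.zt_add, h0, K.pt.zt_add, bit_self, bit_self]; simp [Data.zt]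
  obtain ⟨e1, e2⟩ := K.pt.zt_eq_one h1
  rw [bits_eq _ _ e1, bits_eq _ _ e2]

theorem cEl_zero : K.cEl 0 = 1 := by simp [cEl, Data.zt, elm]

theorem cEl_add_z (e : Code) : K.cEl (zCode + e) = D.z * K.cEl e := by
  obtain ⟨⟨a, b⟩, i, j, k, l⟩ := e
  show D.zt t (1 + a) (0 + b) * elm q1 q2 y1 y2 (0 + i) (0 + j) (0 + k) (0 + l) = _
  simp only [zero_add]
  show _ = D.z * (D.zt t a b * elm q1 q2 y1 y2 i j k l)
  rw [← mul_assoc]
  refine congrArg (· * _) ?_
  show D.zt t (1 + a) b = D.z * D.zt t a b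
  conv_lhs => rw [← zero_add b, ← K.pt.zt_add]
  simp [Data.zt]

theorem cEl_z : K.cEl zCode = D.z := by simp [cEl, zCode, Data.zt, elm]

theorem cEl_Ok {w : G} (hw : K.InT w) (hz : Commute w D.z) : ∃ e, OkC e ∧ K.cEl e = w := by
  obtain ⟨a, i, j, k, l, ha, rfl, he2⟩ := K.cl_M (K.T_M hw hz) hw.1
  obtain ⟨i0, j0, rfl⟩ := K.pt.inA_zt ha
  refine ⟨((i0, j0), i, j, k, l), ⟨(K.el_sq i j k l).1 he2, fun e => hw.1.ne_one D ?_⟩, rfl⟩
  exact (congrArg K.cEl e).trans K.cEl_zero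

theorem T_cEl {e : Code} (he : OkC e) : K.InT (K.cEl e) ∧ Commute (K.cEl e) D.z :=
  ⟨⟨K.cl_el (K.pt.zt_A _ _) ((K.el_sq _ _ _ _).2 he.1)
    fun h1 => he.2 (K.cEl_inj (h1.trans K.cEl_zero.symm)), (K.cEl_M e).2.2⟩, (K.cEl_M e).1⟩

/-- The conjugates of `z` centralizing `z` and `x` correspond to the codes. -/
theorem code_equiv (P : G → Prop) :
    Nat.card {w : G // (K.InT w ∧ Commute w D.z) ∧ P w} =
      Nat.card {e : Code // OkC e ∧ P (K.cEl e)} :=
  (Nat.card_eq_of_bijective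
    (fun e : {e : Code // OkC e ∧ P (K.cEl e)} =>
      (⟨K.cEl e.1, K.T_cEl e.2.1, e.2.2⟩ : {w : G // (K.InT w ∧ Commute w D.z) ∧ P w}))
    ⟨fun e f he => Subtype.ext (K.cEl_inj (congrArg Subtype.val he)), fun ⟨w, hw, hP⟩ => by
      obtain ⟨e, he, rfl⟩ := K.cEl_Ok hw.1 hw.2
      exact ⟨⟨e, he, hP⟩, rfl⟩⟩).symm

theorem code_A (e : Code) : D.InA t (K.cEl e) ↔ e.2 = 0 := by
  obtain ⟨⟨a, b⟩, i, j, k, l⟩ := e
  constructor
  · intro hA
    obtain ⟨a', b', h'⟩ := K.pt.inA_zt hA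
    have := K.cEl_inj (e := ((a, b), i, j, k, l)) (f := ((a', b'), 0)) (h'.trans (by simp [cEl, elm]))
    exact congrArg Prod.snd this
  · intro h0
    simp only [Prod.mk_eq_zero] at h0
    obtain ⟨rfl, rfl, rfl, rfl⟩ := h0
    simpa [cEl, elm] using K.pt.zt_A a b

theorem pair_power {e f : Code} (he : OkC e) (hf : OkC f) :
    D.z ∈ Subgroup.zpowers (K.cEl e * K.cEl f) ↔ PcC e f := by
  have hsw : K.cEl e * K.cEl f = D.zt t (cm1 e f) (cm2 e f) * (K.cEl f * K.cEl e) := by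
    obtain ⟨⟨a, b⟩, i, j, k, l⟩ := e
    obtain ⟨⟨a', b'⟩, m, n, o, r⟩ := f
    obtain ⟨hq, hqc⟩ := K.qi_facts i j
    obtain ⟨hy, hya, hyp⟩ := K.yi_facts k l
    obtain ⟨hq', hqc'⟩ := K.qi_facts m n
    obtain ⟨hy', hya', hyp'⟩ := K.yi_facts o r
    have h := K.pt.swap_mul hq hy hq' hy' hyp hyp' hya hya'
    rw [hqc, hqc'] at h
    simp only [map_add, map_smul, LinearMap.add_apply, LinearMap.smul_apply, smul_eq_mul,
      B_self D.space, K.coord.rr, D.space.symm r2 r1, mul_one, mul_zero, add_zero, zero_add] at h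
    have hA1 : ∀ (a b : ZMod 2) {c : G}, K.InM c → Commute (D.zt t a b) c :=
      fun a b {c} hc => K.A_comm (K.pt.zt_A a b) hc.1 hc.2.1
    have hzt : ∀ a b a' b' : ZMod 2, Commute (D.zt t a b) (D.zt t a' b') := fun a b a' b' =>
      hA1 a b (K.A_M (K.pt.zt_A a' b'))
    show D.zt t a b * elm q1 q2 y1 y2 i j k l * (D.zt t a' b' * elm q1 q2 y1 y2 m n o r) = _
    obtain ⟨Z, hZ⟩ : ∃ Z, Z = D.zt t (cm1 ((a, b), i, j, k, l) ((a', b'), m, n, o, r))
      (cm2 ((a, b), i, j, k, l) ((a', b'), m, n, o, r)) := ⟨_, rfl⟩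
    have h' : elm q1 q2 y1 y2 i j k l * elm q1 q2 y1 y2 m n o r =
        Z * (elm q1 q2 y1 y2 m n o r * elm q1 q2 y1 y2 i j k l) := by
      refine Eq.trans h ?_
      rw [hZ]
      congr 1
      congr 1
      · simp only [cm1]; ring
      · simp only [cm2]; ring
    rw [← hZ]
    have hAB := hzt a b a' b'
    have hZA : Commute Z (D.zt t a b * D.zt t a' b') :=
      hZ ▸ (hzt _ _ a b).mul_right (hzt _ _ a' b')
    show _ = Z * (D.zt t a' b' * elm q1 q2 y1 y2 m n o r * (D.zt t a b * elm q1 q2 y1 y2 i j k l))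
    rw [(hA1 a' b' (K.el_M i j k l)).symm.mul_mul_mul_comm, h',
      (hA1 a b (K.el_M m n o r)).symm.mul_mul_mul_comm, ← mul_assoc, ← hZA.eq, hAB.eq, mul_assoc]
  have he2 : K.cEl e * K.cEl e = 1 := (K.T_cEl he).1.1.sq D
  have hf2 : K.cEl f * K.cEl f = 1 := (K.T_cEl hf).1.1.sq D
  have hy2 : K.cEl e * K.cEl f * (K.cEl e * K.cEl f) = D.zt t (cm1 e f) (cm2 e f) := by
    calc K.cEl e * K.cEl f * (K.cEl e * K.cEl f)
        = D.zt t (cm1 e f) (cm2 e f) * (K.cEl f * K.cEl e) * (K.cEl e * K.cEl f) := by rw [← hsw]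
      _ = D.zt t (cm1 e f) (cm2 e f) * (K.cEl f * (K.cEl e * K.cEl e) * K.cEl f) := by group
      _ = _ := by rw [he2, mul_one, hf2, mul_one]
  constructor
  · intro hz
    by_cases h0 : D.zt t (cm1 e f) (cm2 e f) = 1
    · left
      rw [h0] at hy2
      by_cases hy1 : K.cEl e * K.cEl f = 1
      · rw [hy1, Subgroup.zpowers_one_eq_bot, Subgroup.mem_bot] at hz
        exact absurd hz D.ctx.ne_one
      have e1 := invol_unique hz (Subgroup.mem_zpowers _) D.ctx.sq_z D.ctx.ne_one hy2 hy1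
      refine K.cEl_inj ?_
      rw [K.cEl_add_z, e1, mul_assoc, hf2, mul_one]
    · right
      have hz2 : D.zt t (cm1 e f) (cm2 e f) * D.zt t (cm1 e f) (cm2 e f) = 1 := by
        rw [K.pt.zt_add, bit_self, bit_self]; simp [Data.zt]
      have e1 := invol_unique hz (hy2 ▸ mul_mem (Subgroup.mem_zpowers _) (Subgroup.mem_zpowers _))
        D.ctx.sq_z D.ctx.ne_one hz2 h0
      have h1 : D.zt t (cm1 e f + 1) (cm2 e f + 0) = 1 := by
        rw [← K.pt.zt_add, ← e1]; simp [Data.zt, D.ctx.sq_z]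
      obtain ⟨a1, a2⟩ := K.pt.zt_eq_one h1
      exact ⟨bits_eq _ _ a1, by simpa using a2⟩
  · rintro (h0 | ⟨h1, h2⟩)
    · refine ⟨1, ?_⟩
      show (K.cEl e * K.cEl f) ^ (1 : ℤ) = D.z
      rw [zpow_one, h0, K.cEl_add_z, mul_assoc, hf2, mul_one]
    · refine ⟨2, ?_⟩
      show (K.cEl e * K.cEl f) ^ (2 : ℤ) = D.z
      rw [zpow_two, hy2, h1, h2]
      simp [Data.zt]

/-- The number of conjugates of `z` centralizing `x` whose product with `z` has odd order. -/
theorem card_odd_T :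
    Nat.card {p : G // K.InT p ∧ Odd (orderOf (p * D.z))} + 122 = 315 := by
  classical
  let Iz := {w : G // (K.InT w ∧ Commute w D.z) ∧ w ≠ D.z}
  haveI : Fintype Iz := Fintype.ofFinite _
  let E : Iz → Type u := fun w => {p : G // K.InT p ∧ (w : G) ∈ Subgroup.zpowers (p * D.z)}
  have hEv : Nat.card {p : G // K.InT p ∧ ¬ Odd (orderOf (p * D.z))} = ∑ w, Nat.card (E w) := by
    rw [← Nat.card_sigma]
    refine (Nat.card_eq_of_bijective (fun e : Σ w, E w =>
      (⟨e.2.1, e.2.2.1, fun hodd => ?_⟩ : {p : G // K.InT p ∧ ¬ Odd (orderOf (p * D.z))}))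
      ⟨?_, ?_⟩).symm
    · obtain ⟨⟨w, ⟨hwT, hwz⟩, hne⟩, p, hp, hmem⟩ := e
      obtain ⟨i, hi⟩ := Subgroup.mem_zpowers_iff.1 hmem
      have h1 : orderOf w ∣ orderOf (p * D.z) := by
        simp only at hi
        rw [← hi]; exact orderOf_dvd_of_mem_zpowers (Subgroup.zpow_mem_zpowers _ _)
      have h2 : orderOf w = 2 := orderOf_eq_prime (by rw [pow_two]; exact hwT.1.sq D) (hwT.1.ne_one D)
      rw [h2] at h1
      exact Nat.not_even_iff_odd.2 hodd (even_iff_two_dvd.2 h1)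
    · rintro ⟨⟨w, ⟨hwT, hwz⟩, hne⟩, p, hp, hm⟩ ⟨⟨w', ⟨hwT', hwz'⟩, hne'⟩, p', hp', hm'⟩ e
      obtain rfl : p = p' := congrArg Subtype.val e
      obtain rfl : w = w' := invol_unique hm hm' (hwT.1.sq D) (hwT.1.ne_one D) (hwT'.1.sq D)
        (hwT'.1.ne_one D)
      rfl
    · rintro ⟨p, hp, hev⟩
      obtain ⟨j, hj⟩ := Nat.not_odd_iff_even.1 hev
      set w := (p * D.z) ^ j with hw
      have hwm : w ∈ Subgroup.zpowers (p * D.z) := pow_mem (Subgroup.mem_zpowers _) j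
      have hw2 : w * w = 1 := by rw [hw, ← pow_add, ← hj, pow_orderOf_eq_one]
      have hw1 : w ≠ 1 := fun e => by
        have hpos := orderOf_pos (p * D.z)
        have := Nat.le_of_dvd (by omega) (orderOf_dvd_of_pow_eq_one e)
        omega
      obtain ⟨hwp, hwz⟩ := invol_commutes (hp.1.sq D) D.ctx.sq_z hwm hw2
      have hzK : D.z ∈ K.Kgrp := K.M_K (K.A_M (Or.inr (Or.inl rfl)))
      have hwx : Commute w x := (hp.2.mul_left K.xz.symm).pow_left j
      have hM : K.InM w := by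
        obtain ⟨n, hnz, hnx, hnt⟩ := K.exists_n
        refine (K.s_cases hnz hnx hnt hwz hwx).resolve_right fun hM => K.n_not_K hnz hnx hnt ?_
        have h2 := mul_mem (pow_mem (mul_mem (K.cl_K hp.1 hp.2) hzK) j) (inv_mem (K.M_K hM))
        rwa [← hw, show w * (n⁻¹ * w)⁻¹ = n by group] at h2
      have hT := K.T_of_fixed hM (((K.T_h hp).mul_right (K.T_h K.T_z)).pow_right j) hw2 hw1
      refine ⟨⟨⟨w, ⟨hT, hwz⟩, fun e => ?_⟩, p, hp, hwm⟩, rfl⟩
      have hzm : D.z ∈ Subgroup.zpowers (p * D.z) := e ▸ hwm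
      have hpm : p ∈ Subgroup.zpowers (p * D.z) := by
        simpa [mul_assoc, D.ctx.sq_z] using mul_mem (Subgroup.mem_zpowers (p * D.z)) hzm
      have e' := invol_unique hpm hzm (hp.1.sq D) (hp.1.ne_one D) D.ctx.sq_z D.ctx.ne_one
      rw [hw, e', D.ctx.sq_z, one_pow] at hw1
      exact hw1 rfl
  have hE : ∀ w : Iz, Nat.card (E w) = if D.InA t (w : G) then 1 else 5 := by
    rintro ⟨w, ⟨hwT, hwz⟩, hne⟩
    obtain ⟨g, hg, hgw⟩ := K.T_mover hwT
    set z' := g * D.z * g⁻¹ with hz'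
    have hz'z : Commute z' D.z := by
      have h1 := (Commute.conj_iff g).2 hwz.symm
      rwa [hgw] at h1
    obtain ⟨f, hf, hfe⟩ := K.cEl_Ok (K.T_conj hg K.T_z) hz'z
    change K.cEl f = z' at hfe
    have hfz : f ≠ zCode := fun e => hne (by
      have e1 : g * D.z * g⁻¹ = g * w * g⁻¹ := by rw [hgw, ← hz', ← hfe, e, K.cEl_z]
      exact (mul_left_cancel (mul_right_cancel e1)).symm)
    have h1 : Nat.card (E ⟨w, ⟨hwT, hwz⟩, hne⟩) =
        Nat.card {p : G // (K.InT p ∧ Commute p D.z) ∧ D.z ∈ Subgroup.zpowers (p * z')} := by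
      refine Nat.card_congr (Equiv.subtypeEquiv (MulAut.conj g).toEquiv fun p => ?_)
      show K.InT p ∧ w ∈ Subgroup.zpowers (p * D.z) ↔
        (K.InT (g * p * g⁻¹) ∧ Commute (g * p * g⁻¹) D.z) ∧ D.z ∈ Subgroup.zpowers (g * p * g⁻¹ * z')
      have ec : g * p * g⁻¹ * z' = g * (p * D.z) * g⁻¹ := by rw [hz']; group
      constructor
      · rintro ⟨hp, hm⟩
        refine ⟨⟨K.T_conj hg hp, ?_⟩, ?_⟩
        · rw [← hgw]
          exact (Commute.conj_iff g).2
            (invol_commutes (hp.1.sq D) D.ctx.sq_z hm (hwT.1.sq D)).1.symm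
        · obtain ⟨i, hi⟩ := Subgroup.mem_zpowers_iff.1 hm
          exact ⟨i, by show (g * p * g⁻¹ * z') ^ i = D.z; rw [ec, conj_zpow, hi, hgw]⟩
      · rintro ⟨⟨hp, -⟩, hm⟩
        refine ⟨?_, ?_⟩
        · have := K.T_conj hg.inv_left hp
          rwa [show g⁻¹ * (g * p * g⁻¹) * g⁻¹⁻¹ = p by group] at this
        · obtain ⟨i, hi⟩ := Subgroup.mem_zpowers_iff.1 hm
          refine ⟨i, ?_⟩
          rw [ec, conj_zpow] at hi
          exact mul_left_cancel (mul_right_cancel (hi.trans hgw.symm))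
    rw [h1, K.code_equiv fun p => D.z ∈ Subgroup.zpowers (p * z'),
      Nat.card_congr (Equiv.subtypeEquivRight (q := fun e => OkC e ∧ PcC e f) fun e =>
        and_congr_right fun he => by rw [← hfe]; exact K.pair_power he hf),
      nat_card_filter, pc_count f hf hfz]
    refine if_congr ?_ rfl rfl
    rw [← K.code_A, hfe]
    constructor
    · intro hA
      have ha := hA.resolve_left ((K.T_conj hg K.T_z).1.ne_one D)
      have hb := (K.move (g := g⁻¹) (a := g * D.z * g⁻¹) hg.inv_left ha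
        (Or.inl (by group))).2.1 D.z (Or.inl rfl)
      have e : g⁻¹ * D.z * g⁻¹⁻¹ = w := by rw [← hgw]; group
      rw [e] at hb
      exact Or.inr hb
    · intro hA
      exact Or.inr ((K.move (g := g) (a := w) hg (hA.resolve_left (hwT.1.ne_one D))
        (Or.inl hgw)).2.1 D.z (Or.inl rfl))
  have hsum : ∑ w : Iz, Nat.card (E w) = 122 := by
    rw [← even_sum, Finset.sum_congr rfl fun w _ => hE w]
    have hb : ∀ w : Iz, ∃ e, (OkC e ∧ e ≠ zCode) ∧ K.cEl e = (w : G) := by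
      rintro ⟨w, ⟨hT, hz⟩, hne⟩
      obtain ⟨e, he, hw⟩ := K.cEl_Ok hT hz
      exact ⟨e, ⟨he, fun h0 => hne (by rw [← hw, h0, K.cEl_z])⟩, hw⟩
    choose code hcode hcEl using hb
    refine Finset.sum_bij (fun w _ => code w) (fun w _ => Finset.mem_filter.2 ⟨Finset.mem_univ _, hcode w⟩)
      (fun w _ w' _ e => Subtype.ext (by rw [← hcEl w, ← hcEl w', e])) (fun e he => ?_) (fun w _ => ?_)
    · obtain ⟨-, he, hne⟩ := Finset.mem_filter.1 he
      refine ⟨⟨K.cEl e, K.T_cEl he, fun h0 => hne (K.cEl_inj (h0.trans K.cEl_z.symm))⟩,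
        Finset.mem_univ _, K.cEl_inj ?_⟩
      rw [hcEl]
    · exact if_congr (by rw [← hcEl w]; exact K.code_A _) rfl rfl
  have htot : Nat.card {p : G // K.InT p} = Nat.card {p : G // K.InT p ∧ Odd (orderOf (p * D.z))} +
      Nat.card {p : G // K.InT p ∧ ¬ Odd (orderOf (p * D.z))} := by
    rw [← Nat.card_congr (Equiv.sumCompl fun p : {p : G // K.InT p} => Odd (orderOf ((p : G) * D.z))),
      Nat.card_sum, Nat.card_congr (Equiv.subtypeSubtypeEquivSubtypeInter _ fun p : G =>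
        Odd (orderOf (p * D.z))), Nat.card_congr (Equiv.subtypeSubtypeEquivSubtypeInter _ fun p : G =>
        ¬ Odd (orderOf (p * D.z)))]
  rw [K.card_T, hEv, hsum] at htot
  omega

end Cfg

end Cfsg.Lib.Extra.SuzLocal
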