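import Cfsg.Agent.Lib.Extra.SuzLocal.Torsor

/-!
# The configuration

A frame `x`, an element `h` of order three carrying it around a four-group `{1, x, x', xx'}`, and
involutions `q₁, q₂` of `Q` and `y₁, y₂` of the subgroup at the point labelled by a hyperbolic pair.
-/

set_option autoImplicit false
set_option linter.style.haveILetI false
set_option linter.unusedSectionVars false

namespace Cfsg.Lib.Extra.SuzLocal

open Cfsg Module Cfsg.Lib.Linear.Orth Cfsg.Lib.Extra.Wide
open scoped Matrix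

variable {G : Type*} [Group G] {ι : Type} [Fintype ι] [DecidableEq ι] {D : Data G ι} [Finite G]

theorem Tri.symm {x x' h t q q' : G} (T : Tri D x x' h t q q') : Tri D x x' h t q' q :=
  ⟨T.six, T.frame, T.cq', T.cq, T.sq', T.sq, fun e => T.anti e.symm, T.q'x, T.qx, T.hz, T.ht,
    T.hq', T.hq, T.h3, T.conj1, T.conj2, T.xx'⟩

theorem act_pow {c : G} (hc : Commute c D.z) (n : ℕ) : D.act (c ^ n) = D.act c ^ n := by
  induction n with
  | zero => rw [pow_zero, pow_zero, D.act_one]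
  | succ n ih => rw [pow_succ, pow_succ, D.act_mul _ _ (hc.pow_left n) hc, ih]

theorem pow_four_Q {a : G} (ha : a ∈ D.Q) : a ^ 4 = 1 := by
  rw [show a ^ 4 = (a * a) * (a * a) by rw [show (4 : ℕ) = 2 + 2 from rfl, pow_add, pow_two]]
  rcases D.ctx.sq a ha with e | e <;> simp [e, D.ctx.sq_z]

/-- An element of order three fixes what it moves by a fixed involution. -/
theorem three_fix {h q e : G} (h3 : h ^ 3 = 1) (he : Commute h e) (e2 : e * e = 1)
    (hq : h * q * h⁻¹ = e * q) : Commute h q := by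
  have hk : h * e * h⁻¹ = e := by rw [he.eq, mul_inv_cancel_right]
  have e1 : e = 1 := by
    have e3 : q = e * q := by
      calc q = h * h * h * q * (h * h * h)⁻¹ := by
            rw [show h * h * h = h ^ 3 by rw [pow_three, mul_assoc], h3]; simp
        _ = h * (h * (h * q * h⁻¹) * h⁻¹) * h⁻¹ := by group
        _ = h * (h * e * h⁻¹ * (h * q * h⁻¹)) * h⁻¹ := by nth_rewrite 1 [hq]; group
        _ = h * q * h⁻¹ := by rw [hk, hq, ← mul_assoc e e q, e2, one_mul, hq]
        _ = e * q := hq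
    exact right_eq_mul.1 e3
  rw [e1, one_mul] at hq
  exact mul_inv_eq_iff_eq_mul.1 hq

/-- A hyperbolic pair perpendicular to a frame. -/
theorem exists_pair (hD : IsSix D) {x t : G} {v u : ι → ZMod 2} (F : D.Frame x t v u) :
    ∃ r r', Coord D x t v u r r' ∧ D.qf r = 0 ∧ D.qf r' = 0 := by
  set p := D.cls t with hpdef
  set U := Submodule.span (ZMod 2) {p} ⊔ Submodule.span (ZMod 2) {v} ⊔ Submodule.span (ZMod 2) {u}
    with hUdef
  have hpU : p ∈ U :=
    Submodule.mem_sup_left (Submodule.mem_sup_left (Submodule.mem_span_singleton_self p))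
  have hvU : v ∈ U :=
    Submodule.mem_sup_left (Submodule.mem_sup_right (Submodule.mem_span_singleton_self v))
  have huU : u ∈ U := Submodule.mem_sup_right (Submodule.mem_span_singleton_self u)
  have hv1 : D.qf v = 1 := frame_qv hD F
  have huv : D.B u v = 1 := F.buv.trans hv1
  have h1 : ∀ w : ι → ZMod 2, finrank (ZMod 2) (Submodule.span (ZMod 2) {w}) ≤ 1 := fun w => by
    simpa using finrank_span_le_card ({w} : Set (ι → ZMod 2))
  have hU3 : finrank (ZMod 2) U ≤ 3 := by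
    refine (Submodule.finrank_add_le_finrank_add_finrank _ _).trans ?_
    have := Submodule.finrank_add_le_finrank_add_finrank (Submodule.span (ZMod 2) {p})
      (Submodule.span (ZMod 2) {v})
    have := h1 p; have := h1 v; have := h1 u
    omega
  -- perpendicular to the frame
  obtain ⟨a, haU, hap⟩ : ∃ a ∈ D.B.orthogonal U, a ∉ Submodule.span (ZMod 2) {p} := by
    by_contra hc
    push Not at hc
    have h2 := Submodule.finrank_mono (show D.B.orthogonal U ≤ _ from hc)
    have h3 := finrank_orth D.space U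
    have := h1 p
    have := hD.card
    omega
  have hperp : ∀ {w}, w ∈ D.B.orthogonal U → D.B p w = 0 ∧ D.B u w = 0 ∧ D.B v w = 0 := fun hw =>
    ⟨hw p hpU, hw u huU, hw v hvU⟩
  obtain ⟨hpa, hua, hva⟩ := hperp haU
  obtain ⟨b, hb, hab⟩ := exists_sep D.space U (x := a) (fun hm => hap (by
    obtain ⟨_, h12, _, h3, rfl⟩ := Submodule.mem_sup.1 hm
    obtain ⟨_, h4, _, h5, rfl⟩ := Submodule.mem_sup.1 h12
    obtain ⟨i, rfl⟩ := Submodule.mem_span_singleton.1 h4
    obtain ⟨j, rfl⟩ := Submodule.mem_span_singleton.1 h5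
    obtain ⟨k, rfl⟩ := Submodule.mem_span_singleton.1 h3
    simp [huv, B_self D.space, D.space.symm v u, D.space.symm u p, D.space.symm v p,
      show D.B p u = 0 from F.uperp, show D.B p v = 0 from F.vperp] at hua hva
    subst hua hva
    simpa using Submodule.smul_mem _ i (Submodule.mem_span_singleton_self p)))
  have hpb := hb p hpU
  have hub := hb u huU
  have hvb := hb v hvU
  obtain ⟨r, hr, hr', hpr, hur, hvr, hpr', hur', hvr', hrr⟩ :
      ∃ r, D.qf r = 0 ∧ ∃ r', D.B p r = 0 ∧ D.B u r = 0 ∧ D.B v r = 0 ∧ D.B p r' = 0 ∧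
        D.B u r' = 0 ∧ D.B v r' = 0 ∧ D.B r r' = 1 := by
    rcases bit (D.qf a) with ea | ea
    · exact ⟨a, ea, b, hpa, hua, hva, hpb, hub, hvb, hab⟩
    rcases bit (D.qf b) with eb | eb
    · exact ⟨b, eb, a, hpb, hub, hvb, hpa, hua, hva, by rw [D.space.symm]; exact hab⟩
    refine absurd ⟨Submodule.span (ZMod 2) {p} ⊔ Submodule.span (ZMod 2) {a + u} ⊔
      Submodule.span (ZMod 2) {b + v}, fun w hw => ?_, ?_⟩ hD.noHalf
    · obtain ⟨_, hab', _, hc, rfl⟩ := Submodule.mem_sup.1 hw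
      obtain ⟨_, ha', _, hb', rfl⟩ := Submodule.mem_sup.1 hab'
      obtain ⟨i, rfl⟩ := Submodule.mem_span_singleton.1 ha'
      obtain ⟨j, rfl⟩ := Submodule.mem_span_singleton.1 hb'
      obtain ⟨k, rfl⟩ := Submodule.mem_span_singleton.1 hc
      simp [D.space.add, D.space.smul, F.pt.cls_sing, ea, eb, F.qu, hv1, hab, huv, hpa, hpb,
        D.space.symm a u, D.space.symm a v, D.space.symm b v, hua, hva, hvb, hub,
        show D.B p u = 0 from F.uperp, show D.B p v = 0 from F.vperp, show D.qf p = 0 from F.pt.cls_sing,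
        bit_self]
    · have n1 : a + u ∉ Submodule.span (ZMod 2) {p} := fun hm => by
        obtain ⟨i, hi⟩ := Submodule.mem_span_singleton.1 hm
        have := congrArg (D.B v) hi
        simp [D.space.symm v p, show D.B p v = 0 from F.vperp, hva, D.space.symm v u, huv] at this
      have n2 : b + v ∉ Submodule.span (ZMod 2) {p} ⊔ Submodule.span (ZMod 2) {a + u} := fun hm => by
        obtain ⟨_, h12, _, h34, e⟩ := Submodule.mem_sup.1 hm
        obtain ⟨i, rfl⟩ := Submodule.mem_span_singleton.1 h12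
        obtain ⟨j, rfl⟩ := Submodule.mem_span_singleton.1 h34
        have := congrArg (D.B u) e
        simp [D.space.symm u p, show D.B p u = 0 from F.uperp, hua, B_self D.space, hub, huv] at this
      have e1 := finrank_sup_one n1
      have e2 := finrank_sup_one n2
      rw [finrank_span_singleton (show p ≠ 0 from F.pt.cls_ne)] at e1
      have := Submodule.finrank_add_le_finrank_add_finrank
        (Submodule.span (ZMod 2) {p} ⊔ Submodule.span (ZMod 2) {a + u})
        (Submodule.span (ZMod 2) {b + v})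
      have := Submodule.finrank_add_le_finrank_add_finrank (Submodule.span (ZMod 2) {p})
        (Submodule.span (ZMod 2) {a + u})
      have := h1 p; have := h1 (a + u); have := h1 (b + v)
      have := hD.card
      omega
  refine ⟨r, hr' + D.qf hr' • r, ⟨hD, F, hpr, ?_, hur, ?_, hvr, ?_, ?_⟩, hr, ?_⟩
  · simp [← hpdef, hpr, hpr']
  · simp [hur, hur']
  · simp [hvr, hvr']
  · simp [hrr, B_self D.space]
  · rw [D.space.add, D.space.smul, hr, map_smul, D.space.symm, hrr]
    simp [bit_self]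

/-- The configuration. -/
structure Cfg (D : Data G ι) (x x' h t q1 q2 y1 y2 : G) (v u r1 r2 : ι → ZMod 2) : Prop where
  coord : Coord D x t v u r1 r2
  qr1 : D.qf r1 = 0
  qr2 : D.qf r2 = 0
  cq1 : D.InCQ t q1
  cls1 : D.cls q1 = r1
  cq2 : D.InCQ t q2
  cls2 : D.cls q2 = r2
  pq1 : D.InPQ t y1
  act1 : D.act y1 = sGL D.qf D.B (D.cls t) r1
  pq2 : D.InPQ t y2
  act2 : D.act y2 = sGL D.qf D.B (D.cls t) r2
  hz : Commute h D.z
  ht : Commute h t
  hq1 : Commute h q1
  hq2 : Commute h q2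
  hy1 : Commute h y1
  hy2 : Commute h y2
  h3 : h ^ 3 = 1
  conj1 : h * x * h⁻¹ = x'
  conj2 : h * x' * h⁻¹ = x * x'
  xx' : Commute x x'
  q1x : Commute q1 x
  q2x : Commute q2 x
  y1x : Commute y1 x
  y2x : Commute y2 x
  act' : ∃ w, D.B (D.cls t) w = 0 ∧ D.B v w = 1 ∧ D.act x' = sGL D.qf D.B (D.cls t) w

theorem exists_cfg (hD : IsSix D) : ∃ x x' h t q1 q2 y1 y2 v u r1 r2,
    Cfg D x x' h t q1 q2 y1 y2 v u r1 r2 := by
  obtain ⟨a0, t, v, u, F, hv1⟩ := D.exists_frame_one
  obtain ⟨r1, r2, K, hr1, hr2⟩ := exists_pair hD F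
  have hp := F.pt
  set p := D.cls t with hpdef
  have hu1 : D.qf u = 1 := F.qu.trans hv1
  have huv := K.uv
  have hvu : D.B v u = 1 := (D.space.symm _ _).trans huv
  have hpu : D.B p u = 0 := F.uperp
  have hpv : D.B p v = 0 := F.vperp
  -- the rotation
  set R := rGL D.qf u * rGL D.qf v with hR
  have hRa : ∀ w, R.val *ᵥ w = w + D.B v w • v + (D.B u w + D.B v w) • u := fun w => by
    rw [hR, mul_act, rGL_apply D.space hv1, rGL_apply D.space hu1, map_add, map_smul, huv,
      smul_eq_mul, mul_one]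
  have hRfix : ∀ w, D.B u w = 0 → D.B v w = 0 → R.val *ᵥ w = w := fun w e1 e2 => by simp [hRa, e1, e2]
  have hRu : R.val *ᵥ u = v := by
    rw [hRa, hvu, B_self D.space]
    simp only [one_smul, zero_add]
    rw [add_comm u v, add_assoc, vadd_self, add_zero]
  have hRv : R.val *ᵥ v = u + v := by
    rw [hRa, huv, B_self D.space]; simp [add_comm]
  have hR3 : R ^ 3 = 1 := gl_ext fun w => by
    rw [pow_succ, pow_two, mul_act, mul_act, hRa w, hRa, hRa, Units.val_one, Matrix.one_mulVec]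
    simp only [map_add, map_smul, smul_eq_mul, huv, hvu, B_self D.space, mul_one, mul_zero, add_zero]
    funext i
    simp only [Pi.add_apply, Pi.smul_apply, smul_eq_mul]
    generalize w i = a, v i = b, u i = c, D.B u w = d, D.B v w = e
    revert a b c d e
    decide
  have hRp : R.val *ᵥ p = p :=
    hRfix p ((D.space.symm _ _).trans hpu) ((D.space.symm _ _).trans hpv)
  obtain ⟨c, hcz, hct, hca⟩ := hp.exists_lift (rr_mem hu1 hv1) hRp
  have hc12 : (c ^ 3) ^ 4 = 1 := pow_four_Q ((D.act_ker _ (hcz.pow_left 3)).1 (by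
    rw [act_pow hcz, hca]; exact hR3))
  obtain ⟨h, hhz, hht, hha, h3⟩ :
      ∃ h, Commute h D.z ∧ Commute h t ∧ D.act h = R ∧ h ^ 3 = 1 :=
    ⟨c ^ 4, hcz.pow_left 4, hct.pow_left 4,
      by rw [act_pow hcz, hca, pow_succ, hR3, one_mul],
      by rw [← pow_mul] at hc12 ⊢; exact hc12⟩
  -- the labelled involutions
  obtain ⟨q1, hq1, hc1⟩ := hp.exists_inCQ K.pr
  obtain ⟨q2, hq2, hc2⟩ := hp.exists_inCQ K.pr'
  obtain ⟨y1, hy1, ha1⟩ := hp.exists_label K.pr
  obtain ⟨y2, hy2, ha2⟩ := hp.exists_label K.pr'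
  have hqfix : ∀ {q}, D.InCQ t q → D.B u (D.cls q) = 0 → D.B v (D.cls q) = 0 → Commute h q := by
    intro q hq e1 e2
    have hm := (hp.cq_conj hhz hht hq).1
    rcases D.cls_eq hq.1 hm (by rw [D.act_cls h hhz q hq.1, hha, hRfix _ e1 e2]) with e | e
    · exact mul_inv_eq_iff_eq_mul.1 e
    · exact three_fix h3 hhz D.ctx.sq_z e
  have hyfix : ∀ {y r}, D.InPQ t y → D.B p r = 0 → D.B u r = 0 → D.B v r = 0 →
      D.act y = sGL D.qf D.B p r → Commute h y := by
    intro y r hy e0 e1 e2 ha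
    obtain ⟨e, he, hey⟩ := hp.same_label hy (hp.pq_conj hhz hht hy) (by
      rw [D.act_mul _ _ (hhz.mul_left hy.2) hhz.inv_left, D.act_mul _ _ hhz hy.2, D.act_inv hhz, ha,
        sGL_conj D.space hp.cls_sing e0 (D.act_iso hhz), ← hpdef, hha, hRp, hRfix r e1 e2])
    obtain ⟨i, j, rfl⟩ := hp.inA_zt he
    refine three_fix h3 ?_ (by rw [hp.zt_add, bit_self, bit_self]; simp [Data.zt]) hey
    exact ((pick_comm hhz.symm i).symm).mul_right (pick_comm hht.symm j).symm
  have hhq1 := hqfix hq1 (by rw [hc1]; exact K.ur) (by rw [hc1]; exact K.vr)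
  have hhq2 := hqfix hq2 (by rw [hc2]; exact K.ur') (by rw [hc2]; exact K.vr')
  have hhy1 := hyfix hy1 K.pr K.ur K.vr ha1
  have hhy2 := hyfix hy2 K.pr' K.ur' K.vr' ha2
  -- the three conjugates
  set a1 := h * a0 * h⁻¹ with ha1d
  set a2 := h * a1 * h⁻¹ with ha2d
  have hh2 : h * a2 * h⁻¹ = a0 := by
    rw [ha2d, ha1d, show h * (h * (h * a0 * h⁻¹) * h⁻¹) * h⁻¹ = h * h * h * a0 * (h * h * h)⁻¹ by group,
      show h * h * h = h ^ 3 by rw [pow_three, mul_assoc], h3]
    simp
  obtain ⟨qx, yx, hx0, hqx, hcqx, hyx, hyxv⟩ := F.dec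
  have c01 : Commute a0 a1 := by
    have hyh := hp.pq_conj hhz hht hyx
    have hah : D.act (h * yx * h⁻¹) = sGL D.qf D.B p (u + v) := by
      rw [D.act_mul _ _ (hhz.mul_left hyx.2) hhz.inv_left, D.act_mul _ _ hhz hyx.2, D.act_inv hhz,
        hyxv, sGL_conj D.space hp.cls_sing F.vperp (D.act_iso hhz), ← hpdef, hha, hRp, hRv]
    have e := hp.swap_mul hqx hyx (hp.cq_conj hhz hht hqx) hyh F.vperp
      (show D.B p (u + v) = 0 by rw [map_add, hpu, hpv, add_zero]) hyxv hah
    rw [D.act_cls h hhz qx hqx.1, hha, hcqx, hRu] at e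
    simp only [map_add, huv, hvu, B_self D.space, zero_add, add_zero, bit_self] at e
    rw [show a1 = h * qx * h⁻¹ * (h * yx * h⁻¹) by rw [ha1d, hx0]; group, hx0]
    simpa [Commute, SemiconjBy, Data.zt] using e
  have c12 : Commute a1 a2 := by
    have := (Commute.conj_iff h).2 c01
    exact this
  have c20 : Commute a2 a0 := by
    have := (Commute.conj_iff h).2 c12
    rwa [hh2] at this
  have hcomm0 : ∀ {q}, D.InCQ t q → D.B u (D.cls q) = 0 → D.B v (D.cls q) = 0 → Commute q a0 :=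
    fun hq e1 e2 => (cq_rel F hq).2 ⟨e1, e2⟩
  have ycomm0 : ∀ {y r}, D.InPQ t y → D.B p r = 0 → D.B u r = 0 → D.B v r = 0 →
      D.act y = sGL D.qf D.B p r → Commute y a0 := by
    intro y r hy e0 e1 e2 ha
    have e := hp.swap_mul (hp.cq_A (Or.inl rfl)) hy hqx hyx e0 F.vperp ha hyxv
    rw [one_mul, D.cls_one, hcqx, D.space.symm r v, e2, e1] at e
    rw [hx0]
    simpa [Commute, SemiconjBy, Data.zt] using e
  have hlift : ∀ {g}, Commute h g → Commute g a0 → Commute g (a1 * a2) := fun {g} hg hga => by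
    have g1 : Commute g a1 := (hg.symm.mul_right hga).mul_right hg.symm.inv_right
    exact g1.mul_right ((hg.symm.mul_right g1).mul_right hg.symm.inv_right)
  have ha1z : Commute a1 D.z := (hhz.mul_left F.comm_z).mul_left hhz.inv_left
  have ha2z : Commute a2 D.z := (hhz.mul_left ha1z).mul_left hhz.inv_left
  have ha1a : D.act a1 = sGL D.qf D.B p (u + v) := by
    rw [ha1d, D.act_mul _ _ (hhz.mul_left F.comm_z) hhz.inv_left, D.act_mul _ _ hhz F.comm_z,
      D.act_inv hhz, F.act_eq, sGL_conj D.space hp.cls_sing F.vperp (D.act_iso hhz), ← hpdef, hha,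
      hRp, hRv]
  have hpuv : D.B p (u + v) = 0 := by rw [map_add, hpu, hpv, add_zero]
  have ha2a : D.act a2 = sGL D.qf D.B p u := by
    rw [ha2d, D.act_mul _ _ (hhz.mul_left ha1z) hhz.inv_left, D.act_mul _ _ hhz ha1z,
      D.act_inv hhz, ha1a, sGL_conj D.space hp.cls_sing hpuv (D.act_iso hhz), hha, hRp,
      Matrix.mulVec_add, hRu, hRv, add_comm u v, ← add_assoc, vadd_self, zero_add]
  set x := a1 * a2 with hxd
  have hxa : D.act x = sGL D.qf D.B p v := by
    rw [hxd, D.act_mul _ _ ha1z ha2z, ha1a, ha2a, sGL_mul D.space hp.cls_sing hpuv hpu,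
      add_comm u v, add_assoc, vadd_self, add_zero]
  have ha1t : Commute a1 t := (hht.mul_left F.comm_t).mul_left hht.inv_left
  have ha2t : Commute a2 t := (hht.mul_left ha1t).mul_left hht.inv_left
  have ha1s : a1 * a1 = 1 := by
    rw [ha1d, show h * a0 * h⁻¹ * (h * a0 * h⁻¹) = h * (a0 * a0) * h⁻¹ by group, F.sq]; simp
  have ha2s : a2 * a2 = 1 := by
    rw [ha2d, show h * a1 * h⁻¹ * (h * a1 * h⁻¹) = h * (a1 * a1) * h⁻¹ by group, ha1s]; simp
  rcases hp.classify (x := x) (ha1z.mul_left ha2z) (ha1t.mul_left ha2t)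
      (by rw [hxd, c12.symm.mul_mul_mul_comm, ha1s, ha2s, one_mul]) F.vperp F.vind hxa with
    hcase | ⟨u', F'⟩
  · rw [hv1] at hcase; exact absurd hcase.1 one_ne_zero
  have hq1x := hlift hhq1 (hcomm0 hq1 (by rw [hc1]; exact K.ur) (by rw [hc1]; exact K.vr))
  have hq2x := hlift hhq2 (hcomm0 hq2 (by rw [hc2]; exact K.ur') (by rw [hc2]; exact K.vr'))
  have f1 := (cq_rel F' hq1).1 hq1x
  have f2 := (cq_rel F' hq2).1 hq2x
  rw [hc1] at f1
  rw [hc2] at f2
  refine ⟨x, h * x * h⁻¹, h, t, q1, q2, y1, y2, v, u', r1, r2,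
    ⟨hD, F', K.pr, K.pr', f1.1, f2.1, K.vr, K.vr', K.rr⟩, hr1, hr2, hq1, hc1, hq2, hc2, hy1, ha1,
    hy2, ha2, hhz, hht, hhq1, hhq2, hhy1, hhy2, h3, rfl, ?_, ?_, hq1x, hq2x,
    hlift hhy1 (ycomm0 hy1 K.pr K.ur K.vr ha1), hlift hhy2 (ycomm0 hy2 K.pr' K.ur' K.vr' ha2),
    u + v, hpuv, ?_, ?_⟩
  · have hx' : h * x * h⁻¹ = a2 * a0 := by
      rw [hxd, show h * (a1 * a2) * h⁻¹ = h * a1 * h⁻¹ * (h * a2 * h⁻¹) by group, hh2, ← ha2d]
    rw [hx', show h * (a2 * a0) * h⁻¹ = h * a2 * h⁻¹ * (h * a0 * h⁻¹) by group, hh2, ← ha1d, hxd,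
      mul_assoc a1, ← mul_assoc a2, ha2s, one_mul]
    exact c01.eq
  · have hx' : h * x * h⁻¹ = a2 * a0 := by
      rw [hxd, show h * (a1 * a2) * h⁻¹ = h * a1 * h⁻¹ * (h * a2 * h⁻¹) by group, hh2, ← ha2d]
    rw [hx', hxd]
    exact (c12.mul_right c01.symm).mul_left ((Commute.refl a2).mul_right c20)
  · rw [map_add, hvu, B_self D.space, add_zero]
  · rw [D.act_mul _ _ (hhz.mul_left (ha1z.mul_left ha2z)) hhz.inv_left,
      D.act_mul _ _ hhz (ha1z.mul_left ha2z), D.act_inv hhz, hxa,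
      sGL_conj D.space hp.cls_sing F.vperp (D.act_iso hhz), hha, hRp, hRv]

end Cfsg.Lib.Extra.SuzLocal
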