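import Cfsg.Agent.Lib.Extra.SuzLocal.Five

/-!
# Counting the conjugates of `z` by the involutions of the dihedral groups with `x`

For a conjugate `p` of `z` the group generated by `p` and `x` has a central involution; it is a
conjugate `l` of `z` centralizing `x` or the product of `x` with such a conjugate. This expresses
the number of conjugates of `z` by two numbers computed in `C(z)` and `C(x)`.
-/

set_option autoImplicit false
set_option linter.style.haveILetI false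
set_option linter.unusedSectionVars false

namespace Cfsg.Lib.Extra.SuzLocal

open Cfsg Module Cfsg.Lib.Linear.Orth Cfsg.Lib.Extra.Wide
open scoped Matrix

universe u

variable {G : Type u} [Group G] {ι : Type} [Fintype ι] [DecidableEq ι] {D : Data G ι} [Finite G]

/-- A cyclic group has at most one involution. -/
theorem invol_unique {y a b : G} (ha : a ∈ Subgroup.zpowers y) (hb : b ∈ Subgroup.zpowers y)
    (ha2 : a * a = 1) (ha1 : a ≠ 1) (hb2 : b * b = 1) (hb1 : b ≠ 1) : a = b := by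
  classical
  haveI : Fintype ↥(Subgroup.zpowers y) := Fintype.ofFinite _
  by_contra hne
  have h := IsCyclic.card_pow_eq_one_le (α := ↥(Subgroup.zpowers y)) (n := 2) two_pos
  have hsub : ({1, ⟨a, ha⟩, ⟨b, hb⟩} : Finset ↥(Subgroup.zpowers y)) ⊆
      Finset.univ.filter (fun g : ↥(Subgroup.zpowers y) => g ^ 2 = 1) := by
    intro g hg
    simp only [Finset.mem_insert, Finset.mem_singleton] at hg
    rw [Finset.mem_filter]
    refine ⟨Finset.mem_univ _, Subtype.ext ?_⟩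
    rcases hg with rfl | rfl | rfl <;> simp [pow_two, ha2, hb2]
  have h3 : ({1, ⟨a, ha⟩, ⟨b, hb⟩} : Finset ↥(Subgroup.zpowers y)).card = 3 := by
    rw [Finset.card_insert_of_notMem, Finset.card_insert_of_notMem, Finset.card_singleton]
    · simpa using hne
    · simp [Subtype.ext_iff, Ne.symm ha1, Ne.symm hb1]
  have := (Finset.card_le_card hsub).trans h
  omega

/-- An involution of `⟨p q⟩` centralizes both. -/
theorem invol_commutes {p q u : G} (hp : p * p = 1) (hq : q * q = 1)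
    (hu : u ∈ Subgroup.zpowers (p * q)) (hu2 : u * u = 1) : Commute u p ∧ Commute u q := by
  obtain ⟨i, rfl⟩ := Subgroup.mem_zpowers_iff.1 hu
  have hi : ((p * q) ^ i)⁻¹ = (p * q) ^ i := inv_eq_of_mul_eq_one_right hu2
  have ep : p * (p * q) * p⁻¹ = (p * q)⁻¹ := by
    rw [mul_inv_rev, inv_eq_of_mul_eq_one_right hp, inv_eq_of_mul_eq_one_right hq, ← mul_assoc p p,
      hp, one_mul]
  have eq : q * (p * q) * q⁻¹ = (p * q)⁻¹ := by
    rw [mul_inv_rev, inv_eq_of_mul_eq_one_right hp, inv_eq_of_mul_eq_one_right hq]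
    simp [mul_assoc, hq]
  constructor <;> refine Commute.symm (mul_inv_eq_iff_eq_mul.1 ?_)
  · rw [← conj_zpow, ep, inv_zpow, hi]
  · rw [← conj_zpow, eq, inv_zpow, hi]

/-- Involutions with a product of odd order are conjugate. -/
theorem conj_of_odd {p q : G} (hp : p * p = 1) (hq : q * q = 1) {n : ℕ} (hn : Odd n)
    (hpow : (p * q) ^ n = 1) : ∃ g, g * p * g⁻¹ = q := by
  obtain ⟨j, rfl⟩ := hn
  refine ⟨(p * q) ^ j, ?_⟩
  have ep : ∀ i : ℕ, p * (p * q) ^ i = ((p * q) ^ i)⁻¹ * p := fun i => by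
    have e1 : p * (p * q) * p⁻¹ = (p * q)⁻¹ := by
      rw [mul_inv_rev, inv_eq_of_mul_eq_one_right hp, inv_eq_of_mul_eq_one_right hq, ← mul_assoc p p,
        hp, one_mul]
    rw [← mul_inv_eq_iff_eq_mul, ← conj_pow, e1, inv_pow]
  have h2 : (p * q) ^ j * (p * q) ^ j = (p * q)⁻¹ := by
    rw [← pow_add, eq_inv_iff_mul_eq_one, ← pow_succ, ← two_mul, hpow]
  calc (p * q) ^ j * p * ((p * q) ^ j)⁻¹ = (p * q) ^ j * (((p * q) ^ j) * p) := by
        rw [mul_assoc]; congr 1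
        have h := ep j
        calc p * ((p * q) ^ j)⁻¹ = (p * q) ^ j * (((p * q) ^ j)⁻¹ * p) * ((p * q) ^ j)⁻¹ := by group
          _ = (p * q) ^ j * (p * (p * q) ^ j) * ((p * q) ^ j)⁻¹ := by rw [h]
          _ = (p * q) ^ j * p := by group
    _ = (p * q)⁻¹ * p := by rw [← mul_assoc, h2]
    _ = q := by
      rw [mul_inv_rev, inv_eq_of_mul_eq_one_right hp, inv_eq_of_mul_eq_one_right hq, mul_assoc, hp,
        mul_one]

/-- Two involutions that are not conjugate generate a group with a central involution. -/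
theorem exists_invol {p q : G} (hp : p * p = 1) (hq : q * q = 1) (hne : ¬ ∃ g, g * p * g⁻¹ = q) :
    ∃ u ∈ Subgroup.zpowers (p * q), u * u = 1 ∧ u ≠ 1 := by
  rcases Nat.even_or_odd (orderOf (p * q)) with ⟨j, hj⟩ | hodd
  · have hpos : 0 < orderOf (p * q) := orderOf_pos _
    refine ⟨(p * q) ^ j, pow_mem (Subgroup.mem_zpowers _) j, ?_, fun e => ?_⟩
    · rw [← pow_add, ← hj, pow_orderOf_eq_one]
    · have := Nat.le_of_dvd (by omega) (orderOf_dvd_of_pow_eq_one e)
      omega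
  · exact absurd (conj_of_odd hp hq hodd (pow_orderOf_eq_one _)) hne

/-- An orbit of conjugation by a subgroup. -/
theorem card_orbit (H : Subgroup G) (a : G) {P : G → Prop}
    (hP : ∀ w, P w ↔ ∃ g ∈ H, g * a * g⁻¹ = w) :
    Nat.card {w : G // P w} * Nat.card ↥(Subgroup.centralizer ({a} : Set G) ⊓ H) = Nat.card H := by
  let S : Subgroup H := (Subgroup.centralizer ({a} : Set G)).subgroupOf H
  have key : ∀ g g' : H, (g : G) * a * (g : G)⁻¹ = g' * a * (g' : G)⁻¹ ↔ g⁻¹ * g' ∈ S := fun g g' => by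
    rw [Subgroup.mem_subgroupOf, Subgroup.mem_centralizer_singleton_iff, Subgroup.coe_mul,
      Subgroup.coe_inv]
    constructor
    · intro e
      calc (g : G)⁻¹ * g' * a = (g : G)⁻¹ * (g' * a * (g' : G)⁻¹) * g' := by group
        _ = a * ((g : G)⁻¹ * g') := by rw [← e]; group
    · intro e
      calc (g : G) * a * (g : G)⁻¹ = g * (a * ((g : G)⁻¹ * g')) * (g' : G)⁻¹ := by group
        _ = g' * a * (g' : G)⁻¹ := by rw [← e]; group
  let f : H ⧸ S → {w : G // P w} := fun q => Quotient.liftOn' q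
    (fun g => ⟨g * a * (g : G)⁻¹, (hP _).2 ⟨g, g.2, rfl⟩⟩)
    fun g g' h => Subtype.ext ((key g g').2 (QuotientGroup.leftRel_apply.1 h))
  have hf : Function.Bijective f := by
    refine ⟨?_, fun ⟨w, hw⟩ => ?_⟩
    · intro q q' e
      induction q using Quotient.inductionOn'
      induction q' using Quotient.inductionOn'
      exact Quotient.sound' (QuotientGroup.leftRel_apply.2 ((key _ _).1 (congrArg Subtype.val e)))
    · obtain ⟨g, hg, rfl⟩ := (hP w).1 hw
      exact ⟨QuotientGroup.mk (⟨g, hg⟩ : H), rfl⟩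
  rw [← Nat.card_eq_of_bijective f hf, Subgroup.card_eq_card_quotient_mul_card_subgroup S]
  refine congrArg _ ?_
  show _ = Nat.card ↥((Subgroup.centralizer ({a} : Set G)).subgroupOf H)
  rw [← Subgroup.inf_subgroupOf_right]
  exact (Nat.card_congr (Subgroup.subgroupOfEquivOfLe inf_le_right).toEquiv).symm

namespace Cfg

variable {x x' h t q1 q2 y1 y2 : G} {v u r1 r2 : ι → ZMod 2}
  (K : Cfg D x x' h t q1 q2 y1 y2 v u r1 r2)

/-- The conjugates of `z` centralizing `x`. -/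
def InT (_K : Cfg D x x' h t q1 q2 y1 y2 v u r1 r2) (w : G) : Prop := D.Cl w ∧ Commute w x

include K

theorem T_z : K.InT D.z := ⟨D.cl_z, K.xz.symm⟩

theorem T_conj {g w : G} (hg : Commute g x) (hw : K.InT w) : K.InT (g * w * g⁻¹) :=
  ⟨hw.1.conj D g, (hg.mul_left hw.2).mul_left hg.inv_left⟩

theorem T_mover {w : G} (hw : K.InT w) : ∃ g, Commute g x ∧ g * w * g⁻¹ = D.z := by
  obtain ⟨g, hgw, hgx⟩ := to_pair K.coord.six K.fr hw.1 K.x_sq K.fr.ne_one K.x_not_cl hw.2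
  exact ⟨g, mul_inv_eq_iff_eq_mul.1 hgx, hgw⟩

theorem T_h {w : G} (hw : K.InT w) : Commute h w := K.h_cl hw.1 hw.2

theorem V_fix {w : G} (hw : K.InV w) (hh : Commute h w) : w = 1 := by
  obtain ⟨h1, h2⟩ := K.x'_ne
  have e : h * w * h⁻¹ = w := mul_inv_eq_iff_eq_mul.2 hh.eq
  rcases hw with rfl | rfl | rfl | rfl
  · rfl
  · exact absurd (K.conj1.symm.trans e).symm h2
  · exact absurd (mul_eq_right.1 (K.conj2.symm.trans e)) K.fr.ne_one
  · exfalso
    rw [show h * (x * x') * h⁻¹ = h * x * h⁻¹ * (h * x' * h⁻¹) by group, K.conj1, K.conj2,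
      K.xx'.eq, ← mul_assoc, K.x'_sq, one_mul] at e
    exact h1 (mul_eq_left.1 (e.trans K.xx'.eq.symm).symm)

theorem T_M {w : G} (hw : K.InT w) (hz : Commute w D.z) : K.InM w := by
  obtain ⟨n, hnz, hnx, hnt⟩ := K.exists_n
  refine (K.s_cases hnz hnx hnt hz hw.2).resolve_right fun hM => K.n_not_K hnz hnx hnt ?_
  have h1 := K.cl_K hw.1 hw.2
  have h2 := mul_mem h1 (inv_mem (K.M_K hM))
  rwa [show w * (n⁻¹ * w)⁻¹ = n by group] at h2

/-- An involution of `C(z, t, x)` centralized by `h`. -/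
theorem T_of_fixed {c : G} (hc : K.InM c) (hch : Commute h c) (h2 : c * c = 1) (h1 : c ≠ 1) :
    K.InT c := by
  obtain ⟨a, i', j', i, j, k, l, ha, rfl⟩ := K.M_decomp hc
  have hha : Commute h a := (K.A_comm ha K.hz K.ht).symm
  have hhe : Commute h (elm q1 q2 y1 y2 i j k l) :=
    (((pick_comm K.hq1.symm i).mul_left (pick_comm K.hq2.symm j)).mul_left
      ((pick_comm K.hy1.symm k).mul_left (pick_comm K.hy2.symm l))).symm
  have hV := K.vp_mem i' j'
  have hhV : Commute h (pick x i' * pick x' j') := by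
    have h' := (hha.inv_right.mul_right hch).mul_right hhe.inv_right
    rwa [← mul_assoc, ← mul_assoc, inv_mul_cancel, one_mul, mul_inv_cancel_right] at h'
  rw [K.V_fix hV hhV, mul_one] at h2 h1 hc ⊢
  have ha2 : a * a = 1 := by
    obtain ⟨i0, j0, rfl⟩ := K.pt.inA_zt ha
    rw [K.pt.zt_add, bit_self, bit_self]; simp [Data.zt]
  rw [(K.A_comm ha (K.el_M i j k l).1 (K.el_M i j k l).2.1).symm.mul_mul_mul_comm, ha2, one_mul] at h2
  exact ⟨K.cl_el ha h2 h1, hc.2.2⟩

theorem card_T : Nat.card {w : G // K.InT w} = 315 := by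
  have h := card_orbit (Subgroup.centralizer ({x} : Set G)) D.z (P := K.InT) fun w => by
    constructor
    · intro hw
      obtain ⟨g, hg, hgw⟩ := K.T_mover hw
      exact ⟨g⁻¹, Subgroup.mem_centralizer_singleton_iff.2 hg.inv_left.eq,
        by rw [← hgw]; group⟩
    · rintro ⟨g, hg, rfl⟩
      exact K.T_conj (Subgroup.mem_centralizer_singleton_iff.1 hg) K.T_z
  rw [show Nat.card ↥(Subgroup.centralizer ({D.z} : Set G) ⊓ Subgroup.centralizer ({x} : Set G)) = 512
    from K.card_S, K.card_H, K.card_K] at h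
  omega

/-- The central involution of `⟨p, x⟩`. -/
theorem u_cases {p w : G} (hp : D.Cl p) (hw : w ∈ Subgroup.zpowers (p * x)) (hw2 : w * w = 1)
    (hw1 : w ≠ 1) : K.InT w ∨ ∃ l, K.InT l ∧ w = x * l := by
  obtain ⟨hwp, hwx⟩ := invol_commutes (hp.sq D) K.x_sq hw hw2
  by_cases hcl : D.Cl w
  · exact Or.inl ⟨hcl, hwx⟩
  right
  obtain ⟨g, hgp, hgw⟩ := to_pair K.coord.six K.fr hp hw2 hw1 hcl hwp.symm
  obtain ⟨y, hy⟩ : ∃ y, y = g * x * g⁻¹ := ⟨_, rfl⟩
  have hyx : Commute y x := by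
    have h1 := (Commute.conj_iff g).2 hwx.symm
    rwa [hgw, ← hy] at h1
  have hy2 : y * y = 1 := by
    rw [hy, show g * x * g⁻¹ * (g * x * g⁻¹) = g * (x * x) * g⁻¹ by group, K.x_sq]; group
  obtain ⟨k, hk⟩ : ∃ k : ℕ, (D.z * y) ^ k = x := by
    obtain ⟨k, hk⟩ := (mem_powers_iff_mem_zpowers).2 hw
    refine ⟨k, ?_⟩
    rw [← hgw, ← hgp, hy, ← hk, show g * p * g⁻¹ * (g * x * g⁻¹) = g * (p * x) * g⁻¹ by group,
      conj_pow]
  have hzK : D.z ∈ K.Kgrp := K.M_K (K.A_M (Or.inr (Or.inl rfl)))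
  -- `y` lies in `K`
  have hyK : y ∈ K.Kgrp := by
    by_contra hn
    have hsq : Commute h (D.z * y * (D.z * y)) := by
      rw [show D.z * y * (D.z * y) = D.z * (y * D.z * y⁻¹) * (y * y) by group, hy2, mul_one]
      exact (K.T_h K.T_z).mul_right (K.T_h (K.T_conj hyx K.T_z))
    rcases Nat.even_or_odd k with ⟨j, hj⟩ | ⟨j, hj⟩
    · refine K.fr.ne_one (K.V_fix (Or.inr (Or.inl rfl)) ?_)
      rw [← hk, hj, ← two_mul, pow_mul, pow_two]
      exact hsq.pow_right j
    · have hK2 : D.z * y * (D.z * y) ∈ K.Kgrp := by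
        rw [show D.z * y * (D.z * y) = D.z * (y * D.z * y⁻¹) * (y * y) by group, hy2, mul_one]
        exact mul_mem hzK (K.K_conj hyx hzK)
      have hxK : x ∈ K.Kgrp := K.mem_K.2 ⟨Commute.refl x, K.xx'⟩
      rw [hj, pow_succ, pow_mul, pow_two] at hk
      have h1 := mul_mem (inv_mem (pow_mem hK2 j)) hxK
      rw [show ((D.z * y * (D.z * y)) ^ j)⁻¹ * x = D.z * y from inv_mul_eq_iff_eq_mul.2 hk.symm] at h1
      exact hn (by simpa using mul_mem (inv_mem hzK) h1)
  -- split off the part in the four-group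
  obtain ⟨hyx1, hyx'⟩ := K.mem_K.1 hyK
  obtain ⟨r, hr, hrh⟩ : ∃ r, K.InV r ∧ Commute h (r * y) := by
    have hconj : ∀ r, h * (r * y) * h⁻¹ = h * r * h⁻¹ * (h * y * h⁻¹ * y⁻¹) * y := fun r => by group
    have key : ∀ r, h * r * h⁻¹ * (h * y * h⁻¹ * y⁻¹) = r → Commute h (r * y) := fun r e =>
      mul_inv_eq_iff_eq_mul.1 (by rw [hconj, e])
    have hh2 : h * (x * x') * h⁻¹ = x := by
      rw [show h * (x * x') * h⁻¹ = h * x * h⁻¹ * (h * x' * h⁻¹) by group, K.conj1, K.conj2,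
        K.xx'.eq, ← mul_assoc, K.x'_sq, one_mul]
    rcases K.h_mod hyK with e | e | e | e
    · exact ⟨1, Or.inl rfl, key 1 (by rw [e]; group)⟩
    · exact ⟨x', Or.inr (Or.inr (Or.inl rfl)), key x' (by
        rw [e, K.conj2, K.xx'.eq, mul_assoc, K.x_sq, mul_one])⟩
    · exact ⟨x * x', Or.inr (Or.inr (Or.inr rfl)), key _ (by rw [e, hh2])⟩
    · exact ⟨x, Or.inr (Or.inl rfl), key x (by
        rw [e, K.conj1, K.xx'.eq, ← mul_assoc, K.x'_sq, one_mul])⟩
  obtain ⟨l, hl⟩ : ∃ l, l = r * y := ⟨_, rfl⟩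
  rw [← hl] at hrh
  have hrz : Commute r D.z := (K.V_M hr).1
  have hry : Commute r y := K.V_comm hr hyx1 hyx'
  have hsplit : D.z * y = r * (D.z * l) := by
    calc D.z * y = r * r * (D.z * y) := by rw [K.V_sq hr, one_mul]
      _ = r * (r * D.z) * y := by group
      _ = r * (D.z * r) * y := by rw [hrz.eq]
      _ = r * (D.z * l) := by rw [hl]; group
  have hrl : Commute r (D.z * l) := hrz.mul_right (hl ▸ (Commute.refl r).mul_right hry)
  rw [hsplit, hrl.mul_pow] at hk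
  have hhzl : Commute h ((D.z * l) ^ k) := ((K.T_h K.T_z).mul_right hrh).pow_right k
  rcases Nat.even_or_odd k with ⟨j, hj⟩ | hodd
  · exfalso
    rw [hj, ← two_mul, pow_mul, pow_two, K.V_sq hr, one_pow, one_mul, two_mul, ← hj] at hk
    exact K.fr.ne_one (K.V_fix (Or.inr (Or.inl rfl)) (hk ▸ hhzl))
  have hrk : r ^ k = r := by
    obtain ⟨j, rfl⟩ := hodd
    rw [pow_succ, pow_mul, pow_two, K.V_sq hr, one_pow, one_mul]
  rw [hrk] at hk
  have hzl : (D.z * l) ^ k = r * x :=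
    calc (D.z * l) ^ k = r * r * (D.z * l) ^ k := by rw [K.V_sq hr, one_mul]
      _ = r * (r * (D.z * l) ^ k) := mul_assoc _ _ _
      _ = r * x := by rw [hk]
  have h1 : r * x = 1 := K.V_fix (K.V_mul hr (Or.inr (Or.inl rfl))) (hzl ▸ hhzl)
  have hrx : r = x := (mul_eq_one_iff_eq_inv.1 h1).trans (inv_eq_of_mul_eq_one_right K.x_sq)
  obtain ⟨m, hm⟩ := conj_of_odd (q := l) D.ctx.sq_z (by
    rw [hl, hry.symm.mul_mul_mul_comm, K.V_sq hr, hy2, one_mul]) hodd (hzl.trans h1)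
  have hcl' : D.Cl (x * y) := ⟨m, by rw [hm, hl, hrx]⟩
  have hback : g⁻¹ * (x * y) * g = w * x := by
    rw [hy]
    calc g⁻¹ * (x * (g * x * g⁻¹)) * g = g⁻¹ * x * g * x := by group
      _ = w * x := by rw [show g⁻¹ * x * g = w by
        calc g⁻¹ * x * g = g⁻¹ * (g * w * g⁻¹) * g := congrArg (fun s => g⁻¹ * s * g) hgw.symm
          _ = w := by group]
  refine ⟨w * x, ⟨?_, hwx.mul_left (Commute.refl x)⟩, ?_⟩
  · rw [← hback]; simpa using hcl'.conj D g⁻¹
  · rw [← mul_assoc, ← hwx.eq, mul_assoc, K.x_sq, mul_one]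

/-- The conjugates of `z` attached to a conjugate `l` centralizing `x`. -/
abbrev Sset (_K : Cfg D x x' h t q1 q2 y1 y2 v u r1 r2) (l : G) : Type u :=
  {p : G // D.Cl p ∧ l ∈ Subgroup.zpowers (p * x)}

theorem T_not_x {l : G} (hl : K.InT l) : x * l * (x * l) = 1 ∧ x * l ≠ 1 := by
  refine ⟨?_, fun e => K.x_not_cl ?_⟩
  · rw [hl.2.mul_mul_mul_comm, K.x_sq, hl.1.sq D, one_mul]
  · rw [eq_inv_of_mul_eq_one_left e, inv_eq_of_mul_eq_one_right (hl.1.sq D)]
    exact hl.1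

/-- The conjugates of `z` split over those centralizing `x`. -/
theorem card_cl_split :
    Nat.card {p : G // D.Cl p} =
      315 * (Nat.card (K.Sset D.z) + Nat.card (K.Sset (x * D.z))) := by
  classical
  haveI : Fintype {w : G // K.InT w} := Fintype.ofFinite _
  let f : (Σ l : {w : G // K.InT w}, (K.Sset (l : G) ⊕ K.Sset (x * (l : G)))) → {p : G // D.Cl p} :=
    fun e => Sum.elim (fun p => ⟨p.1, p.2.1⟩) (fun p => ⟨p.1, p.2.1⟩) e.2
  have hf : Function.Bijective f := by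
    constructor
    · rintro ⟨⟨l, hl⟩, s⟩ ⟨⟨l', hl'⟩, s'⟩ e
      have hmix : ∀ {p : G}, l ∈ Subgroup.zpowers (p * x) → x * l' ∈ Subgroup.zpowers (p * x) →
          False := fun h1 h2 => by
        have e1 := invol_unique h1 h2 (hl.1.sq D) (hl.1.ne_one D) (K.T_not_x hl').1 (K.T_not_x hl').2
        refine K.fr.ne_one (K.V_fix (Or.inr (Or.inl rfl)) ?_)
        rw [show x = l * l'⁻¹ by rw [e1, mul_inv_cancel_right]]
        exact (K.T_h hl).mul_right (K.T_h hl').inv_right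
      have hmix' : ∀ {p : G}, l' ∈ Subgroup.zpowers (p * x) → x * l ∈ Subgroup.zpowers (p * x) →
          False := fun h1 h2 => by
        have e1 := invol_unique h1 h2 (hl'.1.sq D) (hl'.1.ne_one D) (K.T_not_x hl).1 (K.T_not_x hl).2
        refine K.fr.ne_one (K.V_fix (Or.inr (Or.inl rfl)) ?_)
        rw [show x = l' * l⁻¹ by rw [e1, mul_inv_cancel_right]]
        exact (K.T_h hl').mul_right (K.T_h hl).inv_right
      rcases s with ⟨p, hp, hs⟩ | ⟨p, hp, hs⟩ <;> rcases s' with ⟨p', hp', hs'⟩ | ⟨p', hp', hs'⟩ <;>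
        obtain rfl : p = p' := congrArg Subtype.val e
      · obtain rfl : l = l' :=
          invol_unique hs hs' (hl.1.sq D) (hl.1.ne_one D) (hl'.1.sq D) (hl'.1.ne_one D)
        rfl
      · exact (hmix hs hs').elim
      · exact (hmix' hs' hs).elim
      · obtain rfl : l = l' := mul_left_cancel
          (invol_unique hs hs' (K.T_not_x hl).1 (K.T_not_x hl).2 (K.T_not_x hl').1 (K.T_not_x hl').2)
        rfl
    · rintro ⟨p, hp⟩
      obtain ⟨w, hw, hw2, hw1⟩ := exists_invol (hp.sq D) K.x_sq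
        fun ⟨g, hg⟩ => K.x_not_cl (hg ▸ hp.conj D g)
      rcases K.u_cases hp hw hw2 hw1 with hT | ⟨l, hl, rfl⟩
      · exact ⟨⟨⟨w, hT⟩, Sum.inl ⟨p, hp, hw⟩⟩, rfl⟩
      · exact ⟨⟨⟨l, hl⟩, Sum.inr ⟨p, hp, hw⟩⟩, rfl⟩
  rw [← Nat.card_eq_of_bijective f hf, Nat.card_sigma]
  have hcst : ∀ l : {w : G // K.InT w}, Nat.card (K.Sset (l : G) ⊕ K.Sset (x * (l : G))) =
      Nat.card (K.Sset D.z) + Nat.card (K.Sset (x * D.z)) := by
    rintro ⟨l, hl⟩
    obtain ⟨g, hg, hgl⟩ := K.T_mover hl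
    have hgx : g * x * g⁻¹ = x := mul_inv_eq_iff_eq_mul.2 hg.eq
    have hmove : ∀ {a b : G}, g * a * g⁻¹ = b → Nat.card (K.Sset a) = Nat.card (K.Sset b) := by
      intro a b hab
      refine Nat.card_congr ⟨fun p => ⟨g * p.1 * g⁻¹, p.2.1.conj D g, ?_⟩,
        fun p => ⟨g⁻¹ * p.1 * g, ?_, ?_⟩, fun p => Subtype.ext ?_, fun p => Subtype.ext ?_⟩
      · obtain ⟨i, hi⟩ := Subgroup.mem_zpowers_iff.1 p.2.2
        refine ⟨i, ?_⟩
        show (g * p.1 * g⁻¹ * x) ^ i = b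
        rw [show g * p.1 * g⁻¹ * x = g * (p.1 * x) * g⁻¹ by
          rw [mul_assoc _ g⁻¹ x, hg.inv_left.eq]; group, conj_zpow, hi, hab]
      · simpa using p.2.1.conj D g⁻¹
      · obtain ⟨i, hi⟩ := Subgroup.mem_zpowers_iff.1 p.2.2
        refine ⟨i, ?_⟩
        show (g⁻¹ * p.1 * g * x) ^ i = a
        rw [show g⁻¹ * p.1 * g * x = g⁻¹ * (p.1 * x) * g⁻¹⁻¹ by
          rw [inv_inv, mul_assoc _ g x, hg.eq]; group, conj_zpow, hi]
        calc g⁻¹ * b * g⁻¹⁻¹ = g⁻¹ * (g * a * g⁻¹) * g⁻¹⁻¹ := by rw [hab]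
          _ = a := by group
      · show g⁻¹ * (g * p.1 * g⁻¹) * g = p.1
        group
      · show g * (g⁻¹ * p.1 * g) * g⁻¹ = p.1
        group
    rw [Nat.card_sum]
    congr 1
    · exact hmove hgl
    · exact hmove (by rw [show g * (x * l) * g⁻¹ = g * x * g⁻¹ * (g * l * g⁻¹) by group, hgx, hgl])
  rw [Finset.sum_congr rfl fun l _ => hcst l, Finset.sum_const, Finset.card_univ, smul_eq_mul,
    ← Nat.card_eq_fintype_card, K.card_T]

/-- The second summand counts the products of odd order with `z` in `C(x)`. -/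
theorem card_S_xz : Nat.card (K.Sset (x * D.z)) =
    Nat.card {p : G // K.InT p ∧ Odd (orderOf (p * D.z))} := by
  have hxz := K.xz
  have hne : x * D.z ≠ 1 := (K.T_not_x K.T_z).2
  have hncl : ¬ D.Cl (x * D.z) := by
    rw [hxz.eq]; exact (K.ax_not_cl (Or.inr (Or.inl rfl))).1
  obtain ⟨g, hgz, hgx⟩ := to_pair K.coord.six K.fr D.cl_z (K.T_not_x K.T_z).1 hne hncl
    (hxz.symm.mul_right (Commute.refl D.z))
  have hgx' : g * x * g⁻¹ = x * D.z := by
    rw [show g * x * g⁻¹ = g * (x * D.z) * g⁻¹ * (g * D.z * g⁻¹)⁻¹ by group, hgx, hgz, D.ctx.inv_z]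
  have hcond : ∀ p : G, D.Cl p →
      (x ∈ Subgroup.zpowers (p * (x * D.z)) ↔ K.InT p ∧ Odd (orderOf (p * D.z))) := by
    intro p hp
    constructor
    · intro hx
      obtain ⟨hpx, -⟩ := invol_commutes (hp.sq D) (K.T_not_x K.T_z).1 hx K.x_sq
      have hT : K.InT p := ⟨hp, hpx.symm⟩
      refine ⟨hT, ?_⟩
      obtain ⟨k, hk⟩ := (mem_powers_iff_mem_zpowers).2 hx
      change (p * (x * D.z)) ^ k = x at hk
      have hc : Commute x (p * D.z) := hpx.mul_right hxz
      rw [show p * (x * D.z) = x * (p * D.z) by rw [← mul_assoc, ← hpx.eq, mul_assoc],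
        hc.mul_pow] at hk
      have hh : Commute h ((p * D.z) ^ k) := ((K.T_h hT).mul_right (K.T_h K.T_z)).pow_right k
      rcases Nat.even_or_odd k with ⟨j, hj⟩ | hodd
      · exfalso
        rw [hj, ← two_mul, pow_mul, pow_two, K.x_sq, one_pow, one_mul, two_mul, ← hj] at hk
        exact K.fr.ne_one (K.V_fix (Or.inr (Or.inl rfl)) (hk ▸ hh))
      · have hxk : x ^ k = x := by
          obtain ⟨j, rfl⟩ := hodd
          rw [pow_succ, pow_mul, pow_two, K.x_sq, one_pow, one_mul]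
        rw [hxk, mul_eq_left] at hk
        exact hodd.of_dvd_nat (orderOf_dvd_of_pow_eq_one hk)
    · rintro ⟨hT, hodd⟩
      refine ⟨(orderOf (p * D.z) : ℤ), ?_⟩
      show (p * (x * D.z)) ^ (orderOf (p * D.z) : ℤ) = x
      have hc : Commute x (p * D.z) := hT.2.symm.mul_right hxz
      rw [zpow_natCast, show p * (x * D.z) = x * (p * D.z) by rw [← mul_assoc, hT.2.eq, mul_assoc],
        hc.mul_pow, pow_orderOf_eq_one, mul_one]
      obtain ⟨j, hj⟩ := hodd
      rw [hj, pow_succ, pow_mul, pow_two, K.x_sq, one_pow, one_mul]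
  have hg1 : ∀ p : G, g * p * g⁻¹ * (x * D.z) = g * (p * x) * g⁻¹ := fun p => by
    rw [← hgx']; group
  refine Nat.card_congr ((Equiv.subtypeEquiv (MulAut.conj g).toEquiv fun p => ?_))
  show D.Cl p ∧ _ ↔ K.InT (g * p * g⁻¹) ∧ Odd (orderOf (g * p * g⁻¹ * D.z))
  constructor
  · rintro ⟨hp, hm⟩
    refine (hcond _ (hp.conj D g)).1 ?_
    obtain ⟨i, hi⟩ := Subgroup.mem_zpowers_iff.1 hm
    exact ⟨i, by show (g * p * g⁻¹ * (x * D.z)) ^ i = x; rw [hg1, conj_zpow, hi, hgx]⟩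
  · intro hT
    have hp : D.Cl p := by simpa [mul_assoc] using hT.1.1.conj D g⁻¹
    refine ⟨hp, ?_⟩
    obtain ⟨i, hi⟩ := Subgroup.mem_zpowers_iff.1 ((hcond _ hT.1.1).2 hT)
    refine ⟨i, ?_⟩
    show (p * x) ^ i = x * D.z
    rw [hg1, conj_zpow] at hi
    exact mul_left_cancel (mul_right_cancel (hi.trans hgx.symm))

end Cfg

end Cfsg.Lib.Extra.SuzLocal
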