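import Cfsg.Agent.Lib.Invol.ElementaryCentralizers
import Cfsg.Agent.Lib.Sig.Small
import Mathlib.GroupTheory.SpecificGroups.Cyclic

/-!
# A self-centralizing four-group with transitive normalizer

A finite group with a four-group that is the centralizer of each of its involutions, these being
permuted transitively, has order 12 or 60; in the second case an involutory automorphism centralizing
the normalizer of the four-group is trivial.
-/

set_option autoImplicit false
set_option linter.style.haveILetI false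

namespace Cfsg.Lib.Extra.SuzLocal

open Cfsg Subgroup

/-- The hypotheses. -/
structure FourCent {X : Type*} [Group X] (a b g : X) : Prop where
  ha : orderOf a = 2
  hb : orderOf b = 2
  comm : Commute a b
  ne : a ≠ b
  cycle1 : g * a * g⁻¹ = b
  cycle2 : g * b * g⁻¹ = a * b
  cent : ∀ y, Commute y a → y = 1 ∨ y = a ∨ y = b ∨ y = a * b

namespace FourCent

variable {X : Type*} [Group X] [Finite X] {a b g : X} (H : FourCent a b g)

include H in
theorem aa : a * a = 1 := by rw [← pow_two, ← H.ha, pow_orderOf_eq_one]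

include H in
theorem bb : b * b = 1 := by rw [← pow_two, ← H.hb, pow_orderOf_eq_one]

/-- The four-group. -/
def V : Subgroup X where
  carrier := {y | y = 1 ∨ y = a ∨ y = b ∨ y = a * b}
  one_mem' := Or.inl rfl
  mul_mem' := by
    have h1 := H.aa
    have h2 := H.bb
    have h3 := H.comm.eq
    have e1 : a * (a * b) = b := by rw [← mul_assoc, h1, one_mul]
    have e2 : b * (a * b) = a := by rw [h3, ← mul_assoc, h2, one_mul]
    have e3 : a * b * a = b := by rw [mul_assoc, ← h3, e1]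
    have e4 : a * b * b = a := by rw [mul_assoc, h2, mul_one]
    have e5 : a * b * (a * b) = 1 := by rw [← mul_assoc, e3, h2]
    rintro p q (rfl | rfl | rfl | rfl) (rfl | rfl | rfl | rfl) <;>
      simp only [one_mul, mul_one, h1, h2, ← h3, e1, e2, e3, e4, e5, Set.mem_setOf_eq, true_or, or_true]
  inv_mem' := by
    intro p hp
    have e : p * p = 1 := by
      rcases hp with rfl | rfl | rfl | rfl
      · exact one_mul 1
      · exact H.aa
      · exact H.bb
      · rw [H.comm.symm.mul_mul_mul_comm, H.aa, H.bb, one_mul]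
    rw [inv_eq_of_mul_eq_one_right e]
    exact hp

include H

theorem mem_V {y : X} : y ∈ H.V ↔ y = 1 ∨ y = a ∨ y = b ∨ y = a * b := Iff.rfl

theorem ab_ne : a * b ≠ 1 := fun e => H.ne (by
  rw [eq_inv_of_mul_eq_one_left e, inv_eq_of_mul_eq_one_right H.bb])

theorem g_a2 : g * (a * b) * g⁻¹ = a := by
  rw [show g * (a * b) * g⁻¹ = g * a * g⁻¹ * (g * b * g⁻¹) by group, H.cycle1, H.cycle2, H.comm.eq,
    ← mul_assoc, H.bb, one_mul]

theorem cases_conj {y : X} (hy : y ∈ H.V) (h1 : y ≠ 1) :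
    ∃ i : Fin 3, g ^ (i : ℕ) * a * (g ^ (i : ℕ))⁻¹ = y := by
  rcases hy with rfl | rfl | rfl | rfl
  · exact absurd rfl h1
  · exact ⟨0, by simp⟩
  · exact ⟨1, by simp [H.cycle1]⟩
  · refine ⟨2, ?_⟩
    show g ^ 2 * a * (g ^ 2)⁻¹ = a * b
    rw [pow_two, show g * g * a * (g * g)⁻¹ = g * (g * a * g⁻¹) * g⁻¹ by group, H.cycle1, H.cycle2]

theorem cent_V {y c : X} (hc : c ∈ H.V) (hc1 : c ≠ 1) (hy : Commute y c) : y ∈ H.V := by
  obtain ⟨i, rfl⟩ := H.cases_conj hc hc1
  have h1 : Commute ((g ^ (i : ℕ))⁻¹ * y * g ^ (i : ℕ)) a := by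
    have := (Commute.conj_iff (g ^ (i : ℕ))⁻¹).2 hy
    rw [inv_inv] at this
    rwa [show (g ^ (i : ℕ))⁻¹ * (g ^ (i : ℕ) * a * (g ^ (i : ℕ))⁻¹) * g ^ (i : ℕ) = a by group] at this
  have hstep : ∀ {p}, p ∈ H.V → g * p * g⁻¹ ∈ H.V := by
    rintro p (rfl | rfl | rfl | rfl)
    · exact Or.inl (by group)
    · exact Or.inr (Or.inr (Or.inl H.cycle1))
    · exact Or.inr (Or.inr (Or.inr H.cycle2))
    · exact Or.inr (Or.inl H.g_a2)
  have hpow : ∀ n : ℕ, ∀ {p}, p ∈ H.V → g ^ n * p * (g ^ n)⁻¹ ∈ H.V := by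
    intro n
    induction n with
    | zero => intro p hp; simpa using hp
    | succ n ih =>
      intro p hp
      rw [pow_succ', show g * g ^ n * p * (g * g ^ n)⁻¹ = g * (g ^ n * p * (g ^ n)⁻¹) * g⁻¹ by group]
      exact hstep (ih hp)
  have := hpow i (p := (g ^ (i : ℕ))⁻¹ * y * g ^ (i : ℕ)) (H.cent _ h1)
  rwa [show g ^ (i : ℕ) * ((g ^ (i : ℕ))⁻¹ * y * g ^ (i : ℕ)) * (g ^ (i : ℕ))⁻¹ = y by group] at this

theorem card_V : Nat.card H.V = 4 := by
  have hab := H.ab_ne
  have ha1 : a ≠ 1 := fun e => by have := H.ha; rw [e, orderOf_one] at this; norm_num at this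
  have hb1 : b ≠ 1 := fun e => by have := H.hb; rw [e, orderOf_one] at this; norm_num at this
  show Nat.card ({1, a, b, a * b} : Set X) = 4
  rw [Nat.card_coe_set_eq, Set.ncard_insert_of_notMem, Set.ncard_insert_of_notMem, Set.ncard_pair]
  · exact fun e => ha1 (mul_eq_right.1 e.symm)
  · simp only [Set.mem_insert_iff, Set.mem_singleton_iff, not_or]
    exact ⟨H.ne, fun e => hb1 (left_eq_mul.1 e)⟩
  · simp only [Set.mem_insert_iff, Set.mem_singleton_iff, not_or]
    exact ⟨ha1.symm, hb1.symm, hab.symm⟩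

theorem exists_sylow : ∃ T : Sylow 2 X, (T : Subgroup X) = H.V := by
  haveI : Fact (Nat.Prime 2) := ⟨Nat.prime_two⟩
  obtain ⟨T, hT⟩ := (IsPGroup.of_card (n := 2) (by rw [H.card_V]; norm_num) :
    IsPGroup 2 H.V).exists_le_sylow
  refine ⟨T, le_antisymm (fun y hy => ?_) hT⟩
  haveI : Nontrivial (T : Subgroup X) := ⟨⟨a, hT (Or.inr (Or.inl rfl))⟩, 1, fun e => by
    have e' : a = 1 := congrArg Subtype.val e
    have := H.ha
    rw [e', orderOf_one] at this
    norm_num at this⟩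
  haveI := T.2.center_nontrivial
  obtain ⟨⟨⟨c, hcT⟩, hc⟩, hc1⟩ := exists_ne (1 : center (T : Subgroup X))
  have hcomm : ∀ p ∈ (T : Subgroup X), Commute p c := fun p hp =>
    congrArg Subtype.val (mem_center_iff.1 hc ⟨p, hp⟩)
  have hcV : c ∈ H.V := H.cent c (hcomm a (hT (Or.inr (Or.inl rfl)))).symm
  exact H.cent_V hcV (fun e => hc1 (Subtype.ext (Subtype.ext e))) (hcomm y hy)

theorem involution {i : X} (hi : orderOf i = 2) :
    ∀ y, Commute y i → ∃ d v, v ∈ H.V ∧ y = d * v * d⁻¹ ∧ d * a * d⁻¹ = i := by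
  intro y hy
  haveI : Fact (Nat.Prime 2) := ⟨Nat.prime_two⟩
  obtain ⟨T, hT⟩ := H.exists_sylow
  obtain ⟨d0, hd⟩ := Lib.Sig.exists_conj_le_sylow T
    (IsPGroup.of_card (n := 1) (by rw [Nat.card_zpowers, hi, pow_one]) : IsPGroup 2 (zpowers i))
  have hm : d0 * i * d0⁻¹ ∈ H.V := hT ▸ hd ⟨i, mem_zpowers i, rfl⟩
  obtain ⟨j, hj⟩ := H.cases_conj hm fun e => by
    rw [conj_eq_one_iff] at e
    rw [e, orderOf_one] at hi
    norm_num at hi
  set d := d0⁻¹ * g ^ (j : ℕ) with hdd
  have hda : d * a * d⁻¹ = i := by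
    rw [hdd, show d0⁻¹ * g ^ (j : ℕ) * a * (d0⁻¹ * g ^ (j : ℕ))⁻¹ =
      d0⁻¹ * (g ^ (j : ℕ) * a * (g ^ (j : ℕ))⁻¹) * d0 by group, hj]
    group
  refine ⟨d, d⁻¹ * y * d, H.cent _ ?_, by group, hda⟩
  have := (Commute.conj_iff d⁻¹).2 hy
  rw [inv_inv] at this
  rwa [show d⁻¹ * i * d = a by rw [← hda]; group] at this

theorem normal_form {y : X} (hy : y * a * y⁻¹ ∈ H.V) :
    ∃ i : Fin 3, ∃ v ∈ H.V, y = g ^ (i : ℕ) * v := by
  obtain ⟨i, hi⟩ := H.cases_conj hy fun e => by
    have := H.ha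
    rw [conj_eq_one_iff.1 e, orderOf_one] at this
    norm_num at this
  refine ⟨i, (g ^ (i : ℕ))⁻¹ * y, H.cent _ (mul_inv_eq_iff_eq_mul.1 ?_), by group⟩
  calc (g ^ (i : ℕ))⁻¹ * y * a * ((g ^ (i : ℕ))⁻¹ * y)⁻¹
      = (g ^ (i : ℕ))⁻¹ * (y * a * y⁻¹) * g ^ (i : ℕ) := by group
    _ = a := by rw [← hi]; group

theorem hyp {T : Sylow 2 X} (hT : (T : Subgroup X) = H.V) (hn : ¬ H.V.Normal) :
    Lib.Invol.EA.Hyp T := by
  refine ⟨fun hc => ?_, hT ▸ hn, fun t ht => ?_⟩
  · rw [hT] at hc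
    obtain ⟨⟨w, hwV⟩, hw⟩ := hc.exists_generator
    have hww : w * w = 1 := by
      rcases hwV with rfl | rfl | rfl | rfl
      · exact one_mul 1
      · exact H.aa
      · exact H.bb
      · rw [H.comm.symm.mul_mul_mul_comm, H.aa, H.bb, one_mul]
    have h2 : Nat.card H.V ≤ 2 := by
      rw [← orderOf_eq_card_of_forall_mem_zpowers hw]
      exact Nat.le_of_dvd two_pos (orderOf_dvd_of_pow_eq_one (Subtype.ext (by
        show w ^ 2 = 1
        rw [pow_two, hww])))
    rw [H.card_V] at h2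
    norm_num at h2
  · have hmem : ∀ {c}, c ∈ centralizer ({t} : Set X) → ∀ d, d * a * d⁻¹ = t → d⁻¹ * c * d ∈ H.V := by
      intro c hc d hd
      refine H.cent _ ?_
      have := (Commute.conj_iff d⁻¹).2 (show Commute c t from mem_centralizer_singleton_iff.1 hc)
      rw [inv_inv] at this
      rwa [show d⁻¹ * t * d = a by rw [← hd]; group] at this
    obtain ⟨d, -, -, -, hd⟩ := H.involution ht t (Commute.refl t)
    refine ⟨⟨⟨fun p q => Subtype.ext ?_⟩⟩, fun c hc => ?_⟩
    · have hp := hmem p.2 d hd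
      have hq := hmem q.2 d hd
      have hc : Commute (d⁻¹ * (p : X) * d) (d⁻¹ * (q : X) * d) := by
        have hall : ∀ {s}, s ∈ H.V → s * s = 1 := fun {s} hs => by
          rcases hs with rfl | rfl | rfl | rfl
          exacts [one_mul 1, H.aa, H.bb, by rw [H.comm.symm.mul_mul_mul_comm, H.aa, H.bb, one_mul]]
        have h3 := hall (mul_mem hp hq)
        generalize d⁻¹ * (p : X) * d = p' at hp h3 ⊢
        generalize d⁻¹ * (q : X) * d = q' at hq h3 ⊢
        calc p' * q' = (p' * q')⁻¹ := (inv_eq_of_mul_eq_one_right h3).symm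
          _ = q' * p' := by
            rw [mul_inv_rev, inv_eq_of_mul_eq_one_right (hall hp), inv_eq_of_mul_eq_one_right (hall hq)]
      have := (Commute.conj_iff d).2 hc
      simpa [mul_assoc, Commute, SemiconjBy] using this
    · have hs := hmem hc d hd
      have h2 : (d⁻¹ * c * d) * (d⁻¹ * c * d) = 1 := by
        rcases hs with e | e | e | e <;> rw [e]
        exacts [one_mul 1, H.aa, H.bb, by rw [H.comm.symm.mul_mul_mul_comm, H.aa, H.bb, one_mul]]
      rw [pow_two]
      calc c * c = d * ((d⁻¹ * c * d) * (d⁻¹ * c * d)) * d⁻¹ := by group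
        _ = 1 := by rw [h2]; group

theorem card_of_normal (hn : H.V.Normal) : Nat.card X = 12 := by
  let f : Fin 3 × H.V → X := fun p => g ^ (p.1 : ℕ) * p.2
  have hf : Function.Bijective f := by
    refine ⟨?_, fun y => ?_⟩
    · rintro ⟨i, v, hv⟩ ⟨j, w, hw⟩ e
      have hcomm : ∀ {s}, s ∈ H.V → s * a * s⁻¹ = a := fun {s} hs => by
        rcases hs with rfl | rfl | rfl | rfl
        · group
        · group
        · rw [← H.comm.eq, mul_inv_cancel_right]
        · rw [((Commute.refl a).mul_left H.comm.symm).eq, mul_inv_cancel_right]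
      have hij : g ^ (i : ℕ) * a * (g ^ (i : ℕ))⁻¹ = g ^ (j : ℕ) * a * (g ^ (j : ℕ))⁻¹ := by
        have e' := congrArg (fun y => y * a * y⁻¹) e
        simp only [f] at e'
        rwa [show g ^ (i : ℕ) * v * a * (g ^ (i : ℕ) * v)⁻¹ =
            g ^ (i : ℕ) * (v * a * v⁻¹) * (g ^ (i : ℕ))⁻¹ by group,
          show g ^ (j : ℕ) * w * a * (g ^ (j : ℕ) * w)⁻¹ =
            g ^ (j : ℕ) * (w * a * w⁻¹) * (g ^ (j : ℕ))⁻¹ by group, hcomm hv, hcomm hw] at e'
      have hb1 : b ≠ 1 := fun e => by have := H.hb; rw [e, orderOf_one] at this; norm_num at this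
      have ha1 : a ≠ 1 := fun e => by have := H.ha; rw [e, orderOf_one] at this; norm_num at this
      have h0 : g ^ 2 * a * (g ^ 2)⁻¹ = a * b := by
        rw [pow_two, show g * g * a * (g * g)⁻¹ = g * (g * a * g⁻¹) * g⁻¹ by group, H.cycle1, H.cycle2]
      have hne1 : b ≠ a * b := fun e => ha1 (right_eq_mul.1 e)
      have hne2 : a ≠ a * b := fun e => hb1 (left_eq_mul.1 e)
      have : i = j := by
        fin_cases i <;> fin_cases j <;> simp_all [H.ne, H.ne.symm, H.cycle1, hne1.symm, hne2.symm]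
      subst this
      simp only [f, mul_right_inj] at e
      subst e
      rfl
    · obtain ⟨i, v, hv, rfl⟩ := H.normal_form (hn.conj_mem a (Or.inr (Or.inl rfl)) y)
      exact ⟨(i, ⟨v, hv⟩), rfl⟩
  rw [← Nat.card_eq_of_bijective f hf, Nat.card_prod, H.card_V, Nat.card_eq_fintype_card,
    Fintype.card_fin]

/-- The two possible orders. -/
theorem card_cases : (Nat.card X = 12 ∧ H.V.Normal) ∨ (Nat.card X = 60 ∧ ¬ H.V.Normal) := by
  classical
  by_cases hn : H.V.Normal
  · exact Or.inl ⟨H.card_of_normal hn, hn⟩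
  refine Or.inr ⟨?_, hn⟩
  obtain ⟨T, hT⟩ := H.exists_sylow
  have h := H.hyp hT hn
  obtain ⟨u, huH, hu⟩ := Lib.Invol.se_exists_outside (Lib.Invol.EA.se h)
  have hcH : Nat.card (Lib.Invol.EA.HH T) = 12 := by
    rw [Lib.Invol.EA.card_H h, hT, H.card_V]
  let f : Option (T : Subgroup X) → X ⧸ Lib.Invol.EA.HH T := fun o =>
    o.elim (QuotientGroup.mk 1) fun s => QuotientGroup.mk ((s : X) * u)
  have hf : Function.Bijective f := by
    refine ⟨?_, fun y => ?_⟩
    · have hout : ∀ s : (T : Subgroup X), f (some s) ≠ f none := fun s e => by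
        refine huH ?_
        have h1 := QuotientGroup.eq.1 e
        rw [mul_one] at h1
        have h2 := mul_mem (inv_mem (le_normalizer s.2)) (inv_mem h1)
        rwa [inv_inv, inv_mul_cancel_left] at h2
      rintro (_ | s) (_ | r) e
      · rfl
      · exact absurd e.symm (hout r)
      · exact absurd e (hout s)
      · have h1 := QuotientGroup.eq.1 e
        have h3 : (r : X)⁻¹ * s = 1 := by
          refine Lib.Invol.EA.eq_one_of_mem h huH (mul_mem (inv_mem r.2) s.2)
            ⟨le_normalizer (mul_mem (inv_mem r.2) s.2), Lib.Invol.mem_conjMap.mpr ?_⟩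
          have := inv_mem h1
          rwa [mul_inv_rev, inv_inv, mul_inv_rev, mul_assoc u⁻¹, ← mul_assoc _ (s : X), ← mul_assoc] at this
        rw [show s = r from Subtype.ext (inv_mul_eq_one.1 h3).symm]
    · obtain ⟨y, rfl⟩ := QuotientGroup.mk_surjective y
      by_cases hy : y ∈ Lib.Invol.EA.HH T
      · exact ⟨none, QuotientGroup.eq.2 (by simpa using hy)⟩
      · obtain ⟨s, hs, hsy⟩ := Lib.Invol.EA.exists_translate h hu huH hy
        exact ⟨some ⟨s, hs⟩, QuotientGroup.eq.2 hsy⟩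
  have hidx : (Lib.Invol.EA.HH T).index = 5 := by
    haveI : Fintype (T : Subgroup X) := Fintype.ofFinite _
    rw [Subgroup.index, ← Nat.card_eq_of_bijective f hf, Nat.card_eq_fintype_card,
      Fintype.card_option, ← Nat.card_eq_fintype_card, hT, H.card_V]
  rw [← (Lib.Invol.EA.HH T).index_mul_card, hidx, hcH]

/-- An involutory automorphism centralizing the normalizer. -/
theorem rigid (hn : ¬ H.V.Normal) {φ : X →* X} (h2 : ∀ y, φ (φ y) = y) (ha' : φ a = a)
    (hb' : φ b = b) (hg' : φ g = g) (y : X) : φ y = y := by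
  obtain ⟨T, hT⟩ := H.exists_sylow
  have h := H.hyp hT hn
  have hH : ∀ c ∈ Lib.Invol.EA.HH T, φ c = c := by
    intro c hc
    have h1 := (mem_normalizer_iff.1 hc a).1 (hT ▸ (Or.inr (Or.inl rfl) : a ∈ H.V))
    obtain ⟨i, v, hv, rfl⟩ := H.normal_form (hT ▸ h1)
    rw [map_mul, map_pow, hg']
    rcases hv with rfl | rfl | rfl | rfl
    · rw [map_one]
    · rw [ha']
    · rw [hb']
    · rw [map_mul, ha', hb']
  by_cases hy : y ∈ Lib.Invol.EA.HH T
  · exact hH y hy
  obtain ⟨v, hv2, hv, hvy⟩ := Lib.Invol.EA.exists_swap h hy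
  suffices hφv : φ v = v by
    have := hH _ hvy
    rwa [map_mul, map_inv, hφv, mul_right_inj] at this
  have hfix : ∀ d ∈ Lib.Invol.EA.DD T v, (φ v)⁻¹ * d * φ v ∈ Lib.Invol.EA.HH T := fun d hd => by
    have hm := Lib.Invol.mem_conjMap.mp hd.2
    have e := hH _ hm
    rw [map_mul, map_mul, map_inv, hH d hd.1] at e
    rw [e]
    exact hm
  rcases Lib.Invol.EA.fixed h hv2 hv hfix with h1 | h1
  · exact absurd (by have e := hH _ h1; rw [h2] at e; exact e ▸ h1) hv
  · set c := v⁻¹ * φ v with hc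
    have hφc := hH c h1
    have hvv : v * v = 1 := by rw [← pow_two, ← hv2, pow_orderOf_eq_one]
    have hcc : c * c = 1 := by
      nth_rewrite 1 [← hφc]
      rw [hc, map_mul, map_inv, h2, show (φ v)⁻¹ * v * (v⁻¹ * φ v) = 1 by group]
    -- the element centralizes the two-point stabilizer
    obtain ⟨d, hd, hd1⟩ := Lib.Invol.EA.exists_one_lt h hv2 hv
    have hcd : Commute d c := by
      have e1 := Lib.Invol.EA.inverts h hv2 hv hd
      have hd' : d⁻¹ ∈ Lib.Invol.EA.HH T := inv_mem hd.1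
      have e2 : φ v * d * (φ v)⁻¹ = d⁻¹ := by
        have := congrArg φ e1
        rwa [map_mul, map_mul, map_inv, hH d hd.1, hH _ hd'] at this
      refine (mul_inv_eq_iff_eq_mul.1 ?_).symm
      calc c * d * c⁻¹ = v⁻¹ * (φ v * d * (φ v)⁻¹) * v := by rw [hc]; group
        _ = v⁻¹ * (v * d * v⁻¹) * v := by rw [e2, e1]
        _ = d := by group
    have hc1 : c = 1 := by
      by_contra hc1
      have hcT := Lib.Invol.EA.mem_of_involution h (Lib.Invol.orderOf_eq_two_of hc1 hcc) h1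
      exact hc1 (Lib.Invol.EA.eq_one_of_commute h hv hcT hd hd1 hcd)
    rw [hc, inv_mul_eq_one] at hc1
    exact hc1.symm

end FourCent

end Cfsg.Lib.Extra.SuzLocal
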