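import Cfsg.Agent.Lib.Extra.SuzLocal.Outer
import Cfsg.Agent.Lib.Extra.SuzLocal.BType
import Cfsg.Agent.Lib.Extra.SuzLocal.FourSylow

/-!
# The Sylow subgroups for the prime five

An element of order five centralizing the four-group has centralizer `5 × A₅`, one centralizing a
conjugate of `z` has centralizer of order 1800, and a Sylow 5-subgroup has order 25.
-/

set_option autoImplicit false
set_option linter.style.haveILetI false
set_option linter.unusedSectionVars false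

namespace Cfsg.Lib.Extra.SuzLocal

open Cfsg Module Cfsg.Lib.Linear.Orth Cfsg.Lib.Extra.Wide
open scoped Matrix

universe u

variable {G : Type u} [Group G] {ι : Type} [Fintype ι] [DecidableEq ι] {D : Data G ι} [Finite G]

/-- An element of prime order `q` normalizing a subgroup of prime order `p` with `q ∤ p - 1`. -/
theorem commute_of_normalizes {p q : ℕ} [hp : Fact p.Prime] {a b : G} (ha : orderOf a = p)
    (hq : q.Coprime (p - 1)) (hb : b ^ q = 1) (hn : b * a * b⁻¹ ∈ Subgroup.zpowers a) :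
    Commute b a := by
  haveI : IsCyclic (Subgroup.zpowers a) := inferInstance
  have hbN : b ∈ Subgroup.normalizer (Subgroup.zpowers a : Set G) := by
    refine Subgroup.mem_normalizer_fintype fun c hc => ?_
    obtain ⟨i, rfl⟩ := Subgroup.mem_zpowers_iff.1 hc
    show b * a ^ i * b⁻¹ ∈ Subgroup.zpowers a
    rw [← conj_zpow]; exact zpow_mem hn i
  have h1 : orderOf ((Subgroup.zpowers a).normalizerMonoidHom ⟨b, hbN⟩) ∣ q :=
    orderOf_dvd_of_pow_eq_one (by
      rw [← map_pow, show (⟨b, hbN⟩ : ↥(Subgroup.normalizer (Subgroup.zpowers a : Set G))) ^ q = 1 from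
        Subtype.ext hb, map_one])
  have h2 : orderOf ((Subgroup.zpowers a).normalizerMonoidHom ⟨b, hbN⟩) ∣ p - 1 := by
    refine (orderOf_dvd_natCard _).trans (dvd_of_eq ?_)
    rw [IsCyclic.card_mulAut, Nat.card_zpowers, ha, Nat.totient_prime hp.out]
  have h3 := orderOf_eq_one_iff.1 (Nat.eq_one_of_dvd_coprimes hq h1 h2)
  rw [← MonoidHom.mem_ker, Subgroup.normalizerMonoidHom_ker, Subgroup.mem_subgroupOf,
    Subgroup.mem_centralizer_iff] at h3
  exact (h3 a (Subgroup.mem_zpowers a)).symm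

theorem conj_zpowers {p : ℕ} [hp : Fact p.Prime] {a b : G} (ha : orderOf a = p) (hb : orderOf b = p)
    (hG : ¬ p ^ 2 ∣ Nat.card G) : ∃ (g : G) (i : ℤ), g * a * g⁻¹ = b ^ i := by
  obtain ⟨S, hS⟩ := (IsPGroup.of_card (n := 1) (by rw [Nat.card_zpowers, hb, pow_one]) :
    IsPGroup p (Subgroup.zpowers b)).exists_le_sylow
  have hS' : (S : Subgroup G) = Subgroup.zpowers b := by
    refine (Subgroup.eq_of_le_of_card_ge hS ?_).symm
    rw [Nat.card_zpowers, hb, S.card_eq_multiplicity]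
    refine (Nat.pow_le_pow_right hp.out.one_lt.le (?_ : _ ≤ 1)).trans (pow_one p).le
    by_contra hc
    exact hG ((pow_dvd_pow p (show 2 ≤ _ by omega)).trans (Nat.ordProj_dvd _ _))
  obtain ⟨g, hg⟩ := Cfsg.Lib.Sig.exists_conj_le_sylow S
    (IsPGroup.of_card (n := 1) (by rw [Nat.card_zpowers, ha, pow_one]) :
      IsPGroup p (Subgroup.zpowers a))
  obtain ⟨i, hi⟩ := Subgroup.mem_zpowers_iff.1 (hS' ▸ hg ⟨a, Subgroup.mem_zpowers a, rfl⟩)
  exact ⟨g, i, hi.symm⟩

namespace Cfg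

variable {x x' h t q1 q2 y1 y2 : G} {v u r1 r2 : ι → ZMod 2}
  (K : Cfg D x x' h t q1 q2 y1 y2 v u r1 r2)
include K

theorem V_not_cl {a : G} (ha : K.InV a) : ¬ D.Cl a := by
  obtain ⟨h1, h2, h3⟩ := K.ax_not_cl (Or.inl rfl : D.InA t (1 : G))
  rw [one_mul] at h1 h2 h3
  rcases ha with rfl | rfl | rfl | rfl
  exacts [fun e => e.ne_one D rfl, h1, h2, h3]

theorem x'_ne : x' ≠ 1 ∧ x ≠ x' := by
  have hne : x' ≠ 1 := fun e => by
    rw [← K.conj1, conj_eq_one_iff] at e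
    exact K.fr.ne_one e
  refine ⟨hne, fun e => hne ?_⟩
  have h2 := K.conj2
  rw [← e, K.x_sq, conj_eq_one_iff] at h2
  rw [← e]; exact h2

theorem comm_d {d : G} (hdK : d ∈ K.Kgrp) : Commute x d ∧ Commute x' d :=
  ⟨(K.mem_K.1 hdK).1.symm, (K.mem_K.1 hdK).2.symm⟩

theorem comm_h {d : G} (hdK : d ∈ K.Kgrp) {p : ℕ} (hp : p = 5 ∨ p = 7) (hd : orderOf d = p) :
    Commute h d := K.h_odd hdK (by rw [hd]; rcases hp with rfl | rfl <;> decide)

/-- The four-group is self-centralizing modulo an element of order five or seven. -/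
theorem fourCent {d : G} (hdK : d ∈ K.Kgrp) {p : ℕ} (hp : p = 5 ∨ p = 7) (hd : orderOf d = p) :
    FourCent (cmk (K.comm_d hdK).1) (cmk (K.comm_d hdK).2) (cmk (K.comm_h hdK hp hd)) := by
  have hodd : Odd p := by rcases hp with rfl | rfl <;> decide
  have h2 := cmk_order_two hd hodd (K.comm_d hdK).1 K.x_sq K.fr.ne_one
  refine ⟨h2, cmk_order_two hd hodd _ K.x'_sq K.x'_ne.1, ?_, fun e => K.x'_ne.2
    (cmk_inj_sq hd hodd _ _ K.x_sq K.x'_sq e), ?_, ?_, fun y hy => ?_⟩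
  · exact congrArg (QuotientGroup.mk' _) (Subtype.ext K.xx'.eq)
  · exact congrArg (QuotientGroup.mk' _) (Subtype.ext K.conj1)
  · exact congrArg (QuotientGroup.mk' _) (Subtype.ext K.conj2)
  · obtain ⟨g, hg, rfl⟩ := cmk_surj y
    have hgx := cmk_commute hd hodd hg (K.comm_d hdK).1 K.x_sq hy
    obtain ⟨a, ha, i, rfl⟩ := K.cent_prime hdK (by rcases hp with rfl | rfl <;> simp [hd]) hgx hg
    have e : ∀ {a' : G} (ha' : Commute a' d), a = a' → cmk hg = cmk ha' := fun ha' e => by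
      subst e
      exact ((cmk_eq _ _).2 ⟨i, rfl⟩).symm
    rcases ha with ha | ha | ha | ha
    · left
      rw [e (Commute.one_left d) ha]
      rfl
    · exact Or.inr (Or.inl (e _ ha))
    · exact Or.inr (Or.inr (Or.inl (e _ ha)))
    · exact Or.inr (Or.inr (Or.inr (e ((K.comm_d hdK).1.mul_left (K.comm_d hdK).2) ha)))

/-- No conjugate of `z` centralizes an element of order five or seven of `K`. -/
theorem no_cl {d : G} (hdK : d ∈ K.Kgrp) {p : ℕ} (hp : p = 5 ∨ p = 7) (hd : orderOf d = p) {a : G}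
    (ha : D.Cl a) (had : Commute a d) : False := by
  have hodd : Odd p := by rcases hp with rfl | rfl <;> decide
  obtain ⟨y, -, -, -, hy⟩ := (K.fourCent hdK hp hd).involution
    (cmk_order_two hd hodd had (ha.sq D) (ha.ne_one D)) _ (Commute.refl _)
  obtain ⟨g, hg, rfl⟩ := cmk_surj y
  have hgx : Commute (g * x * g⁻¹) d := (hg.mul_left (K.comm_d hdK).1).mul_left hg.inv_left
  have e : g * x * g⁻¹ = a := cmk_inj_sq hd hodd hgx had
    (by rw [show g * x * g⁻¹ * (g * x * g⁻¹) = g * (x * x) * g⁻¹ by group, K.x_sq]; group) (ha.sq D)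
    (by rw [← hy]; rfl)
  refine K.x_not_cl ?_
  have := ha.conj D g⁻¹
  rwa [inv_inv, ← e, show g⁻¹ * (g * x * g⁻¹) * g = x by group] at this

theorem card_CQ {d : G} (hdK : d ∈ K.Kgrp) {p : ℕ} (hp : p = 5 ∨ p = 7) (hd : orderOf d = p) :
    Nat.card (CQ d) = 12 ∨ Nat.card (CQ d) = 60 :=
  (K.fourCent hdK hp hd).card_cases.imp And.left And.left

variable (M : Model D)
include M

theorem dvd_twentyfive : 25 ∣ Nat.card G := by
  haveI : Fact (Nat.Prime 5) := ⟨by norm_num⟩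
  obtain ⟨b, hb⟩ := exists_prime_orderOf_dvd_card' (G := ↥(Subgroup.centralizer ({D.z} : Set G))) 5
    (by rw [card_cz M]; norm_num)
  have hb' : orderOf (b : G) = 5 := by rw [Subgroup.orderOf_coe, hb]
  have hbz : Commute (b : G) D.z := Subgroup.mem_centralizer_singleton_iff.1 b.2
  rcases card_CQ_b M hb' D.cl_z hbz with e | e
  · exfalso
    have hn := not_sq_dvd hb' (by rw [card_centralizer hb', e]; norm_num)
    obtain ⟨c, hcK, hc⟩ := K.exists_prime (Or.inl rfl)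
    obtain ⟨g, i, hgi⟩ := conj_zpowers hc hb' hn
    refine K.no_cl hcK (Or.inl rfl) hc (D.cl_z.conj D g⁻¹) ?_
    rw [show c = g⁻¹ * ((b : G) ^ i) * g⁻¹⁻¹ by rw [← hgi]; group]
    exact (Commute.conj_iff g⁻¹).2 (hbz.zpow_left i).symm
  · refine Dvd.dvd.trans ?_ (Subgroup.card_subgroup_dvd_card (Subgroup.centralizer ({(b : G)} : Set G)))
    rw [card_centralizer hb', e]; norm_num

theorem card_b {a b : G} (hb : orderOf b = 5) (ha : D.Cl a) (hab : Commute b a) :
    Nat.card ↥(Subgroup.centralizer ({b} : Set G)) = 1800 := by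
  haveI : Fact (Nat.Prime 5) := ⟨by norm_num⟩
  rw [card_centralizer hb]
  rcases card_CQ_b M hb ha hab with e | e
  · exact absurd (K.dvd_twentyfive M) (not_sq_dvd hb (by rw [card_centralizer hb, e]; norm_num))
  · rw [e]

theorem card_c {c : G} (hcK : c ∈ K.Kgrp) (hc : orderOf c = 5) :
    Nat.card (CQ c) = 60 ∧ Nat.card ↥(Subgroup.centralizer ({c} : Set G)) = 300 := by
  haveI : Fact (Nat.Prime 5) := ⟨by norm_num⟩
  rcases K.card_CQ hcK (Or.inl rfl) hc with e | e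
  · exact absurd (K.dvd_twentyfive M) (not_sq_dvd hc (by rw [card_centralizer hc, e]; norm_num))
  · exact ⟨e, by rw [card_centralizer hc, e]⟩

/-- A partner of the element of order five of `K` centralizing a conjugate of `z`. -/
theorem exists_partner {c : G} (hcK : c ∈ K.Kgrp) (hc : orderOf c = 5) :
    ∃ b w, orderOf b = 5 ∧ Commute b c ∧ D.Cl w ∧ Commute b w ∧ Commute w x ∧
      w * c * w⁻¹ = c⁻¹ := by
  haveI : Fact (Nat.Prime 5) := ⟨by norm_num⟩
  obtain ⟨w, hw, hwx, hwc⟩ := K.exists_inverter hcK hc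
  have hww := hw.sq D
  have hFour := K.fourCent hcK (Or.inl rfl) hc
  have h60 := (K.card_c M hcK hc).1
  have hn : ¬ hFour.V.Normal := fun hn => by
    have := hFour.card_of_normal hn
    omega
  have hmem : ∀ {g}, Commute g c → Commute (w * g * w⁻¹) c := fun {g} hg => by
    have := (Commute.conj_iff w).2 hg
    rw [hwc] at this
    simpa using this.inv_right
  let f : ↥(Subgroup.centralizer ({c} : Set G)) →* ↥(Subgroup.centralizer ({c} : Set G)) :=
    MonoidHom.mk' (fun g => ⟨w * g * w⁻¹, Subgroup.mem_centralizer_singleton_iff.2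
      (hmem (Subgroup.mem_centralizer_singleton_iff.1 g.2)).eq⟩)
      fun a b => Subtype.ext (by simp [mul_assoc])
  let φ : CQ c →* CQ c := QuotientGroup.map (selfGrp c) (selfGrp c) f (by
    refine (Subgroup.zpowers_le).2 (Subgroup.mem_zpowers_iff.2 ⟨-1, Subtype.ext ?_⟩)
    show c ^ (-1 : ℤ) = w * c * w⁻¹
    rw [hwc, zpow_neg_one])
  have hφ : ∀ {g} (hg : Commute g c), φ (cmk hg) = cmk (hmem hg) := fun _ => rfl
  have h2 : ∀ y, φ (φ y) = y := fun y => by
    obtain ⟨g, hg, rfl⟩ := cmk_surj y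
    rw [hφ, hφ]
    exact congrArg (QuotientGroup.mk' _) (Subtype.ext (by
      show w * (w * g * w⁻¹) * w⁻¹ = g
      rw [show w * (w * g * w⁻¹) * w⁻¹ = w * w * g * (w * w)⁻¹ by group, hww]; simp))
  have hfix : ∀ {g} (hg : Commute g c), Commute w g → φ (cmk hg) = cmk hg := fun {g} hg hwg => by
    rw [hφ]
    exact congrArg (QuotientGroup.mk' _) (Subtype.ext (show w * g * w⁻¹ = g by
      rw [hwg.eq, mul_inv_cancel_right]))
  have hrig := hFour.rigid hn h2 (hfix _ hwx) (hfix _ (K.mem_K.1 (K.cl_K hw hwx)).2)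
    (hfix _ (K.h_cl hw hwx).symm)
  obtain ⟨y, hy⟩ := exists_prime_orderOf_dvd_card' (G := CQ c) 5 (by rw [h60]; norm_num)
  obtain ⟨g, hg, rfl⟩ := cmk_surj y
  have e := hrig (cmk hg)
  rw [hφ] at e
  obtain ⟨i, hi⟩ := (cmk_eq _ _).1 e.symm
  set b := g * c ^ (3 * i) with hb
  have hbc : Commute b c := hg.mul_left ((Commute.refl c).zpow_left _)
  have hwb : Commute w b := mul_inv_eq_iff_eq_mul.1 (by
    calc w * b * w⁻¹ = w * g * w⁻¹ * (w * c * w⁻¹) ^ (3 * i) := by rw [conj_zpow, hb]; group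
      _ = g * c ^ i * c⁻¹ ^ (3 * i) := by rw [hi, hwc]
      _ = b := by
        rw [hb, mul_assoc, inv_zpow, ← zpow_neg, ← zpow_add, mul_right_inj, zpow_eq_zpow_iff_modEq, hc]
        exact Int.modEq_iff_dvd.2 ⟨i, by push_cast; ring⟩)
  have hbq : cmk hbc = cmk hg := ((cmk_eq _ _).2 ⟨3 * i, rfl⟩).symm
  have hb5 : b ^ 5 = 1 := by
    have h5 : cmk hbc ^ 5 = 1 := by rw [hbq, ← hy, pow_orderOf_eq_one]
    rw [cmk_pow, cmk_one] at h5
    obtain ⟨k, hk⟩ := h5
    have e2 : w * c ^ k * w⁻¹ = c ^ k := by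
      rw [← hk, (hwb.pow_right 5).eq, mul_inv_cancel_right]
    rw [← conj_zpow, hwc, inv_zpow] at e2
    rw [hk]
    exact eq_one_of_sq hc ⟨2, rfl⟩ (by nth_rewrite 1 [← e2]; exact inv_mul_cancel _)
  refine ⟨b, w, orderOf_eq_prime hb5 fun e => ?_, hbc, hw, hwb.symm, hwx, hwc⟩
  have h1 : cmk hbc = 1 := (cmk_one _).2 ⟨0, by rw [e, zpow_zero]⟩
  rw [hbq] at h1
  rw [h1, orderOf_one] at hy
  norm_num at hy

/-- A Sylow 5-subgroup has order 25. -/
theorem card_sylow_five (S : Sylow 5 G) : Nat.card (S : Subgroup G) = 25 := by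
  haveI : Fact (Nat.Prime 5) := ⟨by norm_num⟩
  obtain ⟨k, hk⟩ := IsPGroup.iff_card.1 S.2
  have h25 : 25 ∣ Nat.card (S : Subgroup G) := by
    rw [S.card_eq_multiplicity]
    exact pow_dvd_pow 5 (((show Nat.Prime 5 by norm_num).pow_dvd_iff_le_factorization Nat.card_pos.ne').1
      (show 5 ^ 2 ∣ Nat.card G from K.dvd_twentyfive M))
  by_contra hne
  have hk3 : 3 ≤ k := by
    by_contra hlt
    rw [hk] at h25
    interval_cases k
    · norm_num at h25
    · norm_num at h25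
    · exact hne hk
  obtain ⟨c, hcK, hc⟩ := K.exists_prime (Or.inl rfl)
  obtain ⟨b, w, hb, hbc, hw, hbw, -, -⟩ := K.exists_partner M hcK hc
  let f : Subgroup.zpowers c × Subgroup.zpowers b →* G :=
    (Subgroup.zpowers c).subtype.noncommCoprod (Subgroup.zpowers b).subtype fun p q => by
      obtain ⟨i, hi⟩ := Subgroup.mem_zpowers_iff.1 p.2
      obtain ⟨j, hj⟩ := Subgroup.mem_zpowers_iff.1 q.2
      show Commute (p : G) (q : G)
      rw [← hi, ← hj]; exact hbc.symm.zpow_zpow i j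
  have hP : IsPGroup 5 (Subgroup.zpowers c × Subgroup.zpowers b) :=
    IsPGroup.of_card (n := 2) (by rw [Nat.card_prod, Nat.card_zpowers, Nat.card_zpowers, hc, hb]; norm_num)
  obtain ⟨T, hT⟩ := ((hP.to_subgroup ⊤).map f).exists_le_sylow
  have hcT : c ∈ (T : Subgroup G) :=
    hT ⟨(⟨c, Subgroup.mem_zpowers c⟩, 1), trivial, by simp [f]⟩
  have hbT : b ∈ (T : Subgroup G) :=
    hT ⟨(1, ⟨b, Subgroup.mem_zpowers b⟩), trivial, by simp [f]⟩
  have hTk : Nat.card (T : Subgroup G) = 5 ^ k := by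
    rw [T.card_eq_multiplicity, ← S.card_eq_multiplicity, hk]
  have h125 : 125 ∣ Nat.card (T : Subgroup G) := hTk ▸ (pow_dvd_pow 5 hk3)
  haveI : Nontrivial (T : Subgroup G) := ⟨⟨c, hcT⟩, 1, fun e => by
    have e' : c = 1 := congrArg Subtype.val e
    rw [e', orderOf_one] at hc
    norm_num at hc⟩
  haveI := T.2.center_nontrivial
  obtain ⟨m, hm⟩ := IsPGroup.iff_card.1 (T.2.to_subgroup (Subgroup.center (T : Subgroup G)))
  have hm0 : m ≠ 0 := fun e => by
    have := Finite.one_lt_card (α := Subgroup.center (T : Subgroup G))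
    rw [hm, e, pow_zero] at this
    exact lt_irrefl _ this
  obtain ⟨⟨⟨e, heT⟩, hec⟩, he⟩ := exists_prime_orderOf_dvd_card'
    (G := Subgroup.center (T : Subgroup G)) 5 (hm ▸ dvd_pow_self 5 hm0)
  rw [Subgroup.orderOf_mk, Subgroup.orderOf_mk] at he
  have hcomm : ∀ a ∈ (T : Subgroup G), Commute a e := fun a ha =>
    congrArg Subtype.val (Subgroup.mem_center_iff.1 hec ⟨a, ha⟩)
  -- the part centralizing `c`
  set P := (T : Subgroup G) ⊓ Subgroup.centralizer ({c} : Set G) with hPdef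
  have hP25 : Nat.card P ≤ 25 := by
    obtain ⟨j, hj⟩ := IsPGroup.iff_card.1 (T.2.to_le (inf_le_left : P ≤ T))
    have hd := Subgroup.card_dvd_of_le (inf_le_right : P ≤ Subgroup.centralizer ({c} : Set G))
    rw [(K.card_c M hcK hc).2, hj] at hd
    rw [hj]
    refine (Nat.pow_le_pow_right (by norm_num) (show j ≤ 2 from ?_)).trans (by norm_num)
    by_contra hj3
    have := (pow_dvd_pow 5 (show 3 ≤ j by omega)).trans hd
    norm_num at this
  have hnle : ∀ {d : G}, (∀ a ∈ (T : Subgroup G), Commute a d) →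
      ¬ 125 ∣ Nat.card ↥(Subgroup.centralizer ({d} : Set G)) → False := fun hd hn =>
    hn (h125.trans (Subgroup.card_dvd_of_le fun a ha =>
      Subgroup.mem_centralizer_singleton_iff.2 (hd a ha).eq))
  have hout : ∀ {d : G}, orderOf d = 5 → ¬ 125 ∣ Nat.card ↥(Subgroup.centralizer ({d} : Set G)) →
      d ∉ Subgroup.zpowers e := fun {d} _ hn hd => hnle (fun a ha => by
    obtain ⟨i, rfl⟩ := Subgroup.mem_zpowers_iff.1 hd
    exact (hcomm a ha).zpow_right i) hn
  have hce := hout hc (by rw [(K.card_c M hcK hc).2]; norm_num)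
  have hbe := hout hb (by rw [K.card_b M hb hw hbw]; norm_num)
  have hform : ∀ {a}, a ∈ P → ∃ i j : ℤ, a = c ^ i * e ^ j := by
    let g : Subgroup.zpowers c × Subgroup.zpowers e → P := fun p => ⟨(p.1 : G) * p.2,
      mul_mem (Subgroup.mem_inf.2 ⟨(Subgroup.zpowers_le).2 hcT p.1.2, by
          obtain ⟨i, hi⟩ := Subgroup.mem_zpowers_iff.1 p.1.2
          rw [← hi]; exact Subgroup.mem_centralizer_singleton_iff.2 ((Commute.refl c).zpow_left i).eq⟩)
        (Subgroup.mem_inf.2 ⟨(Subgroup.zpowers_le).2 heT p.2.2, by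
          obtain ⟨i, hi⟩ := Subgroup.mem_zpowers_iff.1 p.2.2
          rw [← hi]
          exact Subgroup.mem_centralizer_singleton_iff.2 ((hcomm c hcT).symm.zpow_left i).eq⟩)⟩
    have hg : Function.Injective g := by
      rintro ⟨⟨a1, ha1⟩, a2, ha2⟩ ⟨⟨b1, hb1⟩, b2, hb2⟩ eq
      have e' : a1 * a2 = b1 * b2 := congrArg Subtype.val eq
      have hh : b1⁻¹ * a1 = b2 * a2⁻¹ := by
        rw [eq_mul_inv_iff_mul_eq, mul_assoc, e', inv_mul_cancel_left]
      have h1 : b1⁻¹ * a1 = 1 := by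
        by_contra hne1
        refine hce ?_
        have ho : orderOf (b1⁻¹ * a1) = 5 := by
          have hd := Subgroup.orderOf_dvd_natCard _ (mul_mem (inv_mem hb1) ha1)
          rw [Nat.card_zpowers, hc] at hd
          exact ((Nat.dvd_prime (by norm_num)).1 hd).resolve_left fun h => hne1 (orderOf_eq_one_iff.1 h)
        have heq := Subgroup.eq_of_le_of_card_ge (Subgroup.zpowers_le.2 (mul_mem (inv_mem hb1) ha1))
          (by rw [Nat.card_zpowers, Nat.card_zpowers, hc, ho])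
        refine (Subgroup.zpowers_le.2 (?_ : b1⁻¹ * a1 ∈ Subgroup.zpowers e)) (heq ▸ Subgroup.mem_zpowers c)
        rw [hh]; exact mul_mem hb2 (inv_mem ha2)
      obtain rfl := inv_mul_eq_one.1 h1
      obtain rfl := mul_left_cancel e'
      rfl
    intro a ha
    have hsur : Function.Surjective g := by
      refine ((Nat.bijective_iff_injective_and_card g).2 ⟨hg, le_antisymm
        (Nat.card_le_card_of_injective g hg) ?_⟩).2
      rw [Nat.card_prod, Nat.card_zpowers, Nat.card_zpowers, hc, he]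
      exact hP25
    obtain ⟨⟨⟨a1, ha1⟩, a2, ha2⟩, ha'⟩ := hsur ⟨a, ha⟩
    obtain ⟨i, rfl⟩ := Subgroup.mem_zpowers_iff.1 ha1
    obtain ⟨j, rfl⟩ := Subgroup.mem_zpowers_iff.1 ha2
    exact ⟨i, j, (congrArg Subtype.val ha').symm⟩
  -- an element normalizing it
  haveI := T.2.isNilpotent
  have hlt : P.subgroupOf (T : Subgroup G) < ⊤ := lt_top_iff_ne_top.2 fun h => by
    have := Subgroup.card_le_of_le (Subgroup.subgroupOf_eq_top.1 h)
    have := Nat.le_of_dvd Nat.card_pos h125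
    omega
  obtain ⟨⟨y, hyT⟩, hy, hyn⟩ := SetLike.exists_of_lt (Group.normalizerCondition_of_isNilpotent _ hlt)
  have hcP : c ∈ P := Subgroup.mem_inf.2 ⟨hcT, Subgroup.mem_centralizer_singleton_iff.2 rfl⟩
  obtain ⟨i, j, hij⟩ := hform ((Subgroup.mem_subgroupOf).1
    ((Subgroup.mem_normalizer_iff.1 hy ⟨c, hcT⟩).1 hcP))
  change y * c * y⁻¹ = c ^ i * e ^ j at hij
  have hye : y * e * y⁻¹ = e := by rw [(hcomm y hyT).eq, mul_inv_cancel_right]
  have hee : Commute c e := hcomm c hcT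
  have hiter : ∀ n : ℕ, ∃ l : ℤ, y ^ n * c * (y ^ n)⁻¹ = c ^ (i ^ n) * e ^ l := by
    intro n
    induction n with
    | zero => exact ⟨0, by simp⟩
    | succ n ih =>
      obtain ⟨l, hl⟩ := ih
      refine ⟨j * i ^ n + l, ?_⟩
      rw [pow_succ', show y * y ^ n * c * (y * y ^ n)⁻¹ = y * (y ^ n * c * (y ^ n)⁻¹) * y⁻¹ by group, hl,
        show y * (c ^ i ^ n * e ^ l) * y⁻¹ = (y * c ^ i ^ n * y⁻¹) * (y * e ^ l * y⁻¹) by group,
        ← conj_zpow, ← conj_zpow, hij, hye, (hee.zpow_zpow i j).mul_zpow, ← zpow_mul, ← zpow_mul,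
        pow_succ' i n, mul_assoc, ← zpow_add]
  have hexp : ∀ {a d : ℤ}, c ^ a * e ^ d = c → (5 : ℤ) ∣ a - 1 := fun {a d} h => by
    by_contra hn
    refine hce ?_
    have hm : c ^ (a - 1) ∈ Subgroup.zpowers e := by
      refine ⟨-d, ?_⟩
      show e ^ (-d) = c ^ (a - 1)
      rw [zpow_sub_one]
      nth_rewrite 2 [← h]
      rw [mul_inv_rev, ← mul_assoc, ((hee.zpow_zpow a d).inv_right).eq, zpow_neg, mul_assoc,
        mul_inv_cancel, mul_one]
    obtain ⟨s, hs⟩ : ∃ s : ℤ, (5 : ℤ) ∣ (a - 1) * s - 1 := by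
      have hz : ((a - 1 : ℤ) : ZMod 5) ≠ 0 := fun e =>
        hn ((ZMod.intCast_zmod_eq_zero_iff_dvd _ 5).1 e)
      refine ⟨(((a - 1 : ℤ) : ZMod 5)⁻¹).val, (ZMod.intCast_zmod_eq_zero_iff_dvd _ 5).1 ?_⟩
      push_cast
      rw [ZMod.natCast_zmod_val]
      push_cast at hz
      rw [mul_inv_cancel₀ hz, sub_self]
    have h2 := Subgroup.zpow_mem _ hm s
    rwa [← zpow_mul, show c ^ ((a - 1) * s) = c ^ (1 : ℤ) from zpow_eq_zpow_iff_modEq.2
      (by rw [hc]; exact (Int.modEq_iff_dvd.2 (by simpa using hs)).symm), zpow_one] at h2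
  obtain ⟨s, hs⟩ := T.2 ⟨y, hyT⟩
  have hys : y ^ 5 ^ s = 1 := congrArg Subtype.val hs
  obtain ⟨l, hl⟩ := hiter (5 ^ s)
  rw [hys, one_mul, inv_one, mul_one] at hl
  have hi1 : (5 : ℤ) ∣ i - 1 := by
    have h := (ZMod.intCast_zmod_eq_zero_iff_dvd _ 5).2 (hexp hl.symm)
    push_cast at h
    rw [ZMod.pow_card_pow] at h
    exact (ZMod.intCast_zmod_eq_zero_iff_dvd _ 5).1 (by push_cast; exact h)
  have hpow1 : ∀ n : ℕ, y ^ n * c * (y ^ n)⁻¹ = c * e ^ (j * n) := by
    have hci : c ^ i = c := by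
      conv_rhs => rw [← zpow_one c]
      exact zpow_eq_zpow_iff_modEq.2 (by rw [hc]; exact (Int.modEq_iff_dvd.2 hi1).symm)
    intro n
    induction n with
    | zero => simp
    | succ n ih =>
      rw [pow_succ', show y * y ^ n * c * (y * y ^ n)⁻¹ = y * (y ^ n * c * (y ^ n)⁻¹) * y⁻¹ by group, ih,
        show y * (c * e ^ (j * n)) * y⁻¹ = (y * c * y⁻¹) * (y * e ^ (j * ↑n) * y⁻¹) by group,
        ← conj_zpow, hye, hij, hci, mul_assoc, ← zpow_add]
      congr 2; push_cast; ring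
  have hj : ¬ (5 : ℤ) ∣ j := fun hd => hyn (Subgroup.mem_subgroupOf.2 (Subgroup.mem_inf.2 ⟨hyT,
    Subgroup.mem_centralizer_singleton_iff.2 (mul_inv_eq_iff_eq_mul.1 (by
      have h := hpow1 1
      rw [pow_one, Nat.cast_one, mul_one] at h
      rw [h, show e ^ j = 1 from orderOf_dvd_iff_zpow_eq_one.1 (by rw [he]; exact hd), mul_one]))⟩))
  -- the partner becomes a power
  obtain ⟨a, d, had⟩ := hform (Subgroup.mem_inf.2
    ⟨hbT, Subgroup.mem_centralizer_singleton_iff.2 hbc.eq⟩)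
  have ha : ((a : ℤ) : ZMod 5) ≠ 0 := fun ha => hbe ⟨d, by
    show e ^ d = b
    rw [had, show c ^ a = 1 from orderOf_dvd_iff_zpow_eq_one.1 (by
      rw [hc]; exact (ZMod.intCast_zmod_eq_zero_iff_dvd _ 5).1 ha), one_mul]⟩
  have hjz : ((j : ℤ) : ZMod 5) ≠ 0 := fun e => hj ((ZMod.intCast_zmod_eq_zero_iff_dvd _ 5).1 e)
  set n := ((-(d : ZMod 5)) * ((j : ZMod 5) * a)⁻¹).val with hn
  have hnz : (5 : ℤ) ∣ j * n * a + d := by
    refine (ZMod.intCast_zmod_eq_zero_iff_dvd _ 5).1 ?_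
    push_cast
    rw [hn, ZMod.natCast_zmod_val]
    field_simp
    ring
  have hfin : y ^ n * b * (y ^ n)⁻¹ = c ^ a := by
    have hye' : y ^ n * e ^ d * (y ^ n)⁻¹ = e ^ d := by
      rw [(((hcomm y hyT).pow_left n).zpow_right d).eq, mul_inv_cancel_right]
    rw [had, show y ^ n * (c ^ a * e ^ d) * (y ^ n)⁻¹ =
      (y ^ n * c ^ a * (y ^ n)⁻¹) * (y ^ n * e ^ d * (y ^ n)⁻¹) by group, hye', ← conj_zpow, hpow1,
      (hee.zpow_right _).mul_zpow, ← zpow_mul, mul_assoc, ← zpow_add,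
      show e ^ (j * (n : ℤ) * a + d) = 1 from orderOf_dvd_iff_zpow_eq_one.1 (by rw [he]; exact hnz),
      mul_one]
  obtain ⟨a', ha'⟩ : ∃ a' : ℕ, c = (c ^ a) ^ a' := by
    refine ⟨((a : ZMod 5)⁻¹).val, ?_⟩
    rw [← zpow_natCast, ← zpow_mul]
    conv_lhs => rw [← zpow_one c]
    refine zpow_eq_zpow_iff_modEq.2 ?_
    rw [hc]
    refine (ZMod.intCast_eq_intCast_iff _ _ 5).1 ?_
    push_cast
    rw [ZMod.natCast_zmod_val, mul_inv_cancel₀ ha]
  refine K.no_cl hcK (Or.inl rfl) hc (hw.conj D (y ^ n)) ?_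
  rw [ha', ← hfin]
  exact ((Commute.conj_iff (y ^ n)).2 hbw.symm).pow_right a'

end Cfg

end Cfsg.Lib.Extra.SuzLocal
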