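import Mathlib.Data.ZMod.Basic
import Mathlib.GroupTheory.Perm.Basic
import Mathlib.Data.Fintype.Perm
import Mathlib.Data.Fintype.Powerset
import Mathlib.Tactic

/-!
# The group of order 24 permuting three lines of the plane over five elements

The invertible matrices over `ZMod 5` preserving the lines of slope `0, 1, -1` form the product of
the scalars with the symmetric group of degree three.
-/

set_option autoImplicit false

namespace Cfsg.Lib.Extra.SuzLocal.FiveMat

/-- A vector. -/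
abbrev V5 := ZMod 5 × ZMod 5

/-- A matrix, as the pair of images of the standard basis. -/
abbrev M5 := V5 × V5

/-- The abstract group. -/
abbrev P24 := Multiplicative (ZMod 4) × Equiv.Perm (Fin 3)

/-- Application of a matrix. -/
def app (p : M5) (v : V5) : V5 := (v.1 * p.1.1 + v.2 * p.2.1, v.1 * p.1.2 + v.2 * p.2.2)

/-- Product of matrices. -/
def mul5 (p q : M5) : M5 := (app p q.1, app p q.2)

/-- The matrix permuting the three lines. -/
def rot (i j : ℕ) : M5 :=
  if i = 0 then (if j = 1 then ((1, 0), (0, 1)) else ((1, 0), (0, 4)))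
  else if i = 1 then (if j = 2 then ((2, 2), (4, 2)) else ((2, 2), (1, 3)))
  else (if j = 0 then ((2, 3), (1, 2)) else ((2, 3), (4, 3)))

/-- The representation. -/
def rep (q : P24) : M5 :=
  let a : ZMod 5 := 2 ^ (Multiplicative.toAdd q.1).val
  let r := rot (q.2 0).val (q.2 1).val
  ((a * r.1.1, a * r.1.2), (a * r.2.1, a * r.2.2))

/-- The vectors of given slopes. -/
def oset (f : Finset (ZMod 5)) : Finset V5 :=
  Finset.univ.filter fun v => v.1 ≠ 0 ∧ v.2 * v.1 ^ 3 ∈ f

theorem rep_mul : ∀ q r : P24, rep (q * r) = mul5 (rep q) (rep r) := by decide +kernel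

theorem rep_inj : ∀ q r : P24, rep q = rep r → q = r := by decide +kernel

theorem rep_one : rep 1 = ((1, 0), (0, 1)) := by decide +kernel

theorem rep_surj : ∀ p : M5, p.1 ∈ oset {0, 1, 4} → app p (1, 1) ∈ oset {0, 1, 4} →
    app p (1, 4) ∈ oset {0, 1, 4} → (∀ v, app p v = (0, 0) → v = (0, 0)) →
    ∃ q, rep q = p := by decide +kernel

theorem rep_reach : ∀ v : V5, v ≠ (0, 0) →
    ∃ q : P24, ∃ i : ZMod 5, app (rep q) (i, 0) = v ∨ app (rep q) (0, i) = v := by decide +kernel

theorem slopes : ∀ f : Finset (ZMod 5), (0 : ZMod 5) ∈ f → (∀ k ∈ f, -k ∈ f) →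
    2 * (oset f).card % 5 = 4 →
    (oset f).card = 12 ∧ (f = {0, 1, 4} ∨ f = {0, 2, 3}) := by decide +kernel

theorem mem_oset {f : Finset (ZMod 5)} {v : V5} : v ∈ oset f ↔ v.1 ≠ 0 ∧ v.2 * v.1 ^ 3 ∈ f := by
  simp [oset]

theorem normalize : ∀ v : V5, v.1 ≠ 0 →
    (v.1 ^ 3 * v.1 = 1 ∧ v.1 * (v.2 * v.1 ^ 3) = v.2) := by decide +kernel

theorem unit_pow : ∀ i a : ZMod 5, (i = 2 ∨ i = 3) → a ≠ 0 → ∃ k : Fin 4, i ^ (k : ℕ) = a := by
  decide +kernel

theorem unit_cases : ∀ a : ZMod 5, a ≠ 0 → a ≠ 1 → a ≠ -1 → a = 2 ∨ a = 3 := by decide +kernel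

theorem unit_inv : ∀ a : ZMod 5, (a = 2 ∨ a = 3) → ∃ j : ZMod 5, a * j = 1 := by decide +kernel

theorem app_comp (p q : M5) (v : V5) : app p (app q v) = app (mul5 p q) v := by
  simp only [app, mul5, Prod.mk.injEq]
  constructor <;> ring

theorem app_one (v : V5) : app ((1, 0), (0, 1)) v = v := by simp [app]

theorem app_basis (p : M5) : app p (1, 0) = p.1 ∧ app p (0, 1) = p.2 := by simp [app]

end Cfsg.Lib.Extra.SuzLocal.FiveMat
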