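import Cfsg.Agent.Lib.Extra.SuzLocal.FourSylow
import Mathlib.Tactic

/-!
# The subgroups of order five in the group of order 60

In a group of order 60 with a self-centralizing four-group a subgroup of order five is
self-centralizing and has normalizer of order ten.
-/

set_option autoImplicit false
set_option linter.style.haveILetI false

namespace Cfsg.Lib.Extra.SuzLocal

open Cfsg Subgroup

namespace FourCent

variable {X : Type*} [Group X] [Finite X] {a b g : X} (H : FourCent a b g)
include H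

theorem not_normal_five {y : X} (hy : orderOf y = 5) : ¬ (zpowers y).Normal := by
  intro hn
  haveI := hn
  let χ : X →* (ZMod (Nat.card ↥(zpowers y)))ˣ :=
    (IsCyclic.mulAutMulEquiv ↥(zpowers y)).toMonoidHom.comp MulAut.conjNormal
  have hc : ∀ u v : X, χ (u * v * u⁻¹) = χ v := fun u v => by
    rw [map_mul, map_mul, map_inv, mul_comm (χ u), mul_inv_cancel_right]
  have h1 : χ b = χ a := by rw [← H.cycle1, hc]
  have h2 : χ (a * b) = χ a := by rw [← H.cycle2, hc, h1]
  rw [map_mul, h1] at h2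
  have h3 : χ a = 1 := mul_left_cancel (h2.trans (mul_one _).symm)
  change IsCyclic.mulAutMulEquiv ↥(zpowers y) (MulAut.conjNormal a) = 1 at h3
  rw [MulEquiv.map_eq_one_iff] at h3
  have h4 := congrArg Subtype.val (DFunLike.congr_fun h3 ⟨y, mem_zpowers y⟩)
  rw [MulAut.conjNormal_apply, MulAut.one_apply] at h4
  have hcomm : Commute y a := (mul_inv_eq_iff_eq_mul.1 h4 : a * y = y * a).symm
  have hv := H.cent y hcomm
  have h5 : y ^ 2 = 1 := by
    rw [pow_two]
    rcases hv with rfl | rfl | rfl | rfl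
    exacts [one_mul 1, H.aa, H.bb, by rw [H.comm.symm.mul_mul_mul_comm, H.aa, H.bb, one_mul]]
  have := orderOf_dvd_of_pow_eq_one h5
  rw [hy] at this
  norm_num at this

variable (h60 : Nat.card X = 60)
include h60

theorem five_normalizer {y : X} (hy : orderOf y = 5) :
    Nat.card ↥(normalizer (zpowers y : Set X)) = 10 ∧
      (normalizer (zpowers y : Set X)).index = 6 := by
  haveI : Fact (Nat.Prime 5) := ⟨by norm_num⟩
  let P : Sylow 5 X := Sylow.ofCard (zpowers y) (by
    rw [Nat.card_zpowers, hy, h60, show (60 : ℕ) = 5 ^ 1 * 12 by norm_num,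
      Nat.factorization_mul (by norm_num) (by norm_num), Finsupp.add_apply,
      Nat.factorization_eq_zero_of_not_dvd (show ¬ 5 ∣ 12 by norm_num),
      Nat.Prime.factorization_pow (by norm_num), Finsupp.single_eq_same, add_zero, pow_one])
  have hn5 : Nat.card (Sylow 5 X) = (normalizer (zpowers y : Set X)).index :=
    P.card_eq_index_normalizer
  have hd : Nat.card (Sylow 5 X) ∣ (zpowers y).index := P.card_dvd_index
  have hidx := (zpowers y).index_mul_card
  rw [Nat.card_zpowers, hy, h60] at hidx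
  rw [show (zpowers y).index = 12 by omega, hn5] at hd
  have hmod := card_sylow_modEq_one 5 X
  rw [hn5] at hmod
  have hle := Nat.le_of_dvd (by norm_num) hd
  have hne : (normalizer (zpowers y : Set X)).index ≠ 1 := fun e =>
    H.not_normal_five hy (normalizer_eq_top_iff.1 (index_eq_one.1 e))
  have hmul := (normalizer (zpowers y : Set X)).index_mul_card
  rw [h60] at hmul
  generalize (normalizer (zpowers y : Set X)).index = i at hd hmod hle hne hmul ⊢
  unfold Nat.ModEq at hmod
  interval_cases i <;> omega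

theorem five_cent {y u : X} (hy : orderOf y = 5) (hu : Commute u y) : u ∈ zpowers y := by
  haveI : Fact (Nat.Prime 2) := ⟨Nat.prime_two⟩
  set C := centralizer ({y} : Set X) with hC
  have hle : C ≤ normalizer (zpowers y : Set X) := fun c hc =>
    mem_normalizer_fintype fun d hd => by
      obtain ⟨i, rfl⟩ := mem_zpowers_iff.1 hd
      have hc' : Commute c y := mem_centralizer_singleton_iff.1 hc
      show c * y ^ i * c⁻¹ ∈ zpowers y
      rw [(hc'.zpow_right i).eq, mul_inv_cancel_right]
      exact zpow_mem (mem_zpowers y) i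
  have h10 := card_dvd_of_le hle
  rw [(H.five_normalizer h60 hy).1] at h10
  have hyC : zpowers y ≤ C := zpowers_le.2 (mem_centralizer_singleton_iff.2 rfl)
  have hodd : ¬ 2 ∣ Nat.card C := fun h => by
    obtain ⟨⟨i, hiC⟩, hi⟩ := exists_prime_orderOf_dvd_card' (G := C) 2 h
    rw [Subgroup.orderOf_mk] at hi
    obtain ⟨d, v, hv, hyv, -⟩ :=
      H.involution hi y (show Commute i y from mem_centralizer_singleton_iff.1 hiC).symm
    have hvv : v * v = 1 := by
      rcases hv with rfl | rfl | rfl | rfl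
      exacts [one_mul 1, H.aa, H.bb, by rw [H.comm.symm.mul_mul_mul_comm, H.aa, H.bb, one_mul]]
    have h5 : y ^ 2 = 1 := by rw [hyv, conj_pow, pow_two, hvv]; group
    have := orderOf_dvd_of_pow_eq_one h5
    rw [hy] at this
    norm_num at this
  have hC5 : Nat.card C = 5 := by
    obtain ⟨k, hk⟩ := card_dvd_of_le hyC
    rw [Nat.card_zpowers, hy] at hk
    rw [hk] at h10 hodd ⊢
    have hk2 : k ∣ 2 := (Nat.mul_dvd_mul_iff_left (show 0 < 5 by norm_num)).1 h10
    rcases (Nat.dvd_prime Nat.prime_two).1 hk2 with rfl | rfl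
    · rfl
    · exact absurd (by norm_num) hodd
  rw [eq_of_le_of_card_ge hyC (by rw [hC5, Nat.card_zpowers, hy])]
  exact mem_centralizer_singleton_iff.2 hu.eq

theorem five_inverter {y : X} (hy : orderOf y = 5) : ∃ τ, τ ^ 2 = 1 ∧ τ * y * τ⁻¹ = y⁻¹ := by
  haveI : Fact (Nat.Prime 2) := ⟨Nat.prime_two⟩
  obtain ⟨⟨τ, hτN⟩, hτ⟩ := exists_prime_orderOf_dvd_card'
    (G := ↥(normalizer (zpowers y : Set X))) 2 (by rw [(H.five_normalizer h60 hy).1]; norm_num)
  rw [Subgroup.orderOf_mk] at hτ
  have hττ : τ ^ 2 = 1 := by rw [← hτ, pow_orderOf_eq_one]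
  refine ⟨τ, hττ, ?_⟩
  obtain ⟨k, hk⟩ := mem_zpowers_iff.1 ((mem_normalizer_iff.1 hτN y).1 (mem_zpowers y))
  have h2 : y ^ (k * k) = y ^ (1 : ℤ) := by
    calc y ^ (k * k) = (τ * y * τ⁻¹) ^ k := by rw [← hk, ← zpow_mul]
      _ = τ * (τ * y * τ⁻¹) * τ⁻¹ := by rw [conj_zpow, hk]
      _ = τ ^ 2 * y * (τ ^ 2)⁻¹ := by rw [pow_two]; group
      _ = y ^ (1 : ℤ) := by rw [hττ]; group
  rw [zpow_eq_zpow_iff_modEq, hy, ← ZMod.intCast_eq_intCast_iff] at h2
  push_cast at h2
  have key : ∀ i : ZMod 5, i * i = 1 → i = 1 ∨ i = -1 := by decide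
  rcases key _ h2 with e | e
  · exfalso
    have e1 : τ * y * τ⁻¹ = y := by
      conv_rhs => rw [← zpow_one y]
      rw [← hk, zpow_eq_zpow_iff_modEq, hy, ← ZMod.intCast_eq_intCast_iff]
      push_cast
      exact e
    have := orderOf_dvd_natCard (zpowers y) (H.five_cent h60 hy (mul_inv_eq_iff_eq_mul.1 e1))
    rw [hτ, Nat.card_zpowers, hy] at this
    norm_num at this
  · rw [← hk, ← zpow_neg_one, zpow_eq_zpow_iff_modEq, hy, ← ZMod.intCast_eq_intCast_iff]
    push_cast
    exact e

end FourCent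

end Cfsg.Lib.Extra.SuzLocal
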