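import Cfsg.Agent.Lib.Extra.SuzLocal.Five
import Cfsg.Agent.Lib.Solv.Hall
import Cfsg.Agent.S0205
import Cfsg.Agent.S0228
import Mathlib.GroupTheory.SchurZassenhaus

/-!
# The Sylow subgroups for the prime seven

The Sylow 7-subgroups have order seven, centralizer `7 × A₄` and normalizer of order 504.
-/

set_option autoImplicit false
set_option linter.style.haveILetI false
set_option linter.unusedSectionVars false

namespace Cfsg.Lib.Extra.SuzLocal

open Cfsg Module Cfsg.Lib.Linear.Orth Cfsg.Lib.Extra.Wide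
open scoped Matrix

universe u

variable {G : Type u} [Group G] {ι : Type} [Fintype ι] [DecidableEq ι] {D : Data G ι} [Finite G]

namespace Cfg

variable {x x' h t q1 q2 y1 y2 : G} {v u r1 r2 : ι → ZMod 2}
  (K : Cfg D x x' h t q1 q2 y1 y2 v u r1 r2) (M : Model D)
include K

theorem odd_mem {g : G} (hgx : Commute g x) {n : ℕ} (hn : Odd n) (hgn : g ^ n = 1) : g ∈ K.Kgrp := by
  have hgg : g * g ∈ K.Kgrp := by
    refine K.mem_K.2 ⟨hgx.mul_left hgx, mul_inv_eq_iff_eq_mul.1 ?_⟩
    rcases K.V_normal hgx with e | e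
    · rw [show g * g * x' * (g * g)⁻¹ = g * (g * x' * g⁻¹) * g⁻¹ by group, e, e]
    · calc g * g * x' * (g * g)⁻¹ = g * (g * x' * g⁻¹) * g⁻¹ := by group
        _ = g * (x * x') * g⁻¹ := by rw [e]
        _ = g * x * g⁻¹ * (g * x' * g⁻¹) := by group
        _ = x' := by rw [e, hgx.eq, mul_inv_cancel_right, ← mul_assoc, K.x_sq, one_mul]
  obtain ⟨j, rfl⟩ := hn
  have : g = (g * g) ^ (j + 1) := by
    rw [← pow_two, ← pow_mul, show 2 * (j + 1) = 2 * j + 1 + 1 by ring, pow_succ, hgn, one_mul]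
  rw [this]; exact pow_mem hgg _

include M

theorem small_seven : ¬ 7 ^ 2 ∣ Nat.card G := by
  haveI : Fact (Nat.Prime 7) := ⟨by norm_num⟩
  obtain ⟨d, hdK, hd⟩ := K.exists_prime (Or.inr rfl)
  refine not_sq_dvd hd ?_
  rw [card_centralizer hd]
  rcases K.card_CQ hdK (Or.inr rfl) hd with e | e <;> rw [e] <;> norm_num

/-- No element of order five commutes with one of order seven. -/
theorem no_five_seven {e f : G} (he : orderOf e = 5) (hf : orderOf f = 7) (hef : Commute e f) :
    False := by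
  haveI : Fact (Nat.Prime 2) := ⟨Nat.prime_two⟩
  haveI : Fact (Nat.Prime 5) := ⟨by norm_num⟩
  haveI : Fact (Nat.Prime 7) := ⟨by norm_num⟩
  have hdvd : ∀ {d y : G}, orderOf y = 7 → Commute y d →
      7 ∣ Nat.card ↥(Subgroup.centralizer ({d} : Set G)) := fun {d y} hy hyd => by
    rw [← hy]
    exact Subgroup.orderOf_dvd_natCard _ (Subgroup.mem_centralizer_singleton_iff.2 hyd.eq)
  set C := Subgroup.centralizer ({e} : Set G) with hCdef
  by_cases hev : 2 ∣ Nat.card C
  · obtain ⟨⟨a, haC⟩, ha⟩ := exists_prime_orderOf_dvd_card' (G := C) 2 hev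
    rw [Subgroup.orderOf_mk] at ha
    have hae : Commute a e := Subgroup.mem_centralizer_singleton_iff.1 haC
    by_cases hcl : D.Cl a
    · have h7 := hdvd hf hef.symm
      rw [K.card_b M he hcl hae.symm] at h7
      norm_num at h7
    · obtain ⟨g, hg⟩ := D.exists_mem_centralizer ha
      have ha2 : a * a = 1 := by rw [← pow_two, ← ha, pow_orderOf_eq_one]
      obtain ⟨g2, -, hg2⟩ := to_pair K.coord.six K.fr D.cl_z (b := g * a * g⁻¹)
        (by rw [show g * a * g⁻¹ * (g * a * g⁻¹) = g * (a * a) * g⁻¹ by group, ha2]; group)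
        (fun h => by rw [conj_eq_one_iff] at h; rw [h, orderOf_one] at ha; norm_num at ha)
        (fun h => hcl (by simpa [mul_assoc] using h.conj D g⁻¹)) hg.symm
      set m := g2 * g with hm
      have hma : m * a * m⁻¹ = x := by rw [← hg2, hm]; group
      have hex : Commute (m * e * m⁻¹) x := hma ▸ (Commute.conj_iff m).2 hae.symm
      have he1 : orderOf (m * e * m⁻¹) = 5 := by
        rw [show m * e * m⁻¹ = MulAut.conj m e from rfl, MulEquiv.orderOf_eq, he]
      have heK := K.odd_mem hex (n := 5) ⟨2, rfl⟩ (by rw [← he1, pow_orderOf_eq_one])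
      have h7 := hdvd (y := m * f * m⁻¹)
        (by rw [show m * f * m⁻¹ = MulAut.conj m f from rfl, MulEquiv.orderOf_eq, hf])
        ((Commute.conj_iff m).2 hef.symm)
      rw [(K.card_c M heK he1).2] at h7
      norm_num at h7
  · haveI : Group.IsSolvable C :=
      Cfsg.Agent.S0205.result (Nat.not_even_iff_odd.1 fun h => hev (even_iff_two_dvd.1 h))
    obtain ⟨S, hS⟩ := (IsPGroup.of_card (n := 1) (by rw [Nat.card_zpowers, he, pow_one]) :
      IsPGroup 5 (Subgroup.zpowers e)).exists_le_sylow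
    have hS25 := K.card_sylow_five M S
    haveI := IsPGroup.isMulCommutative_of_card_eq_prime_sq (p := 5) (G := (S : Subgroup G))
      (by rw [hS25]; norm_num)
    have hSC : (S : Subgroup G) ≤ C := fun a ha =>
      Subgroup.mem_centralizer_singleton_iff.2 (congrArg Subtype.val
        (IsMulCommutative.is_comm.comm (⟨a, ha⟩ : (S : Subgroup G)) ⟨e, hS (Subgroup.mem_zpowers e)⟩))
    obtain ⟨k, hk⟩ : 175 ∣ Nat.card C := by
      have h5 := Subgroup.card_dvd_of_le hSC
      rw [hS25] at h5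
      exact Nat.Coprime.mul_dvd_of_dvd_of_dvd (show Nat.Coprime 25 7 by norm_num) h5
        (hdvd hf hef.symm)
    have hdG : 175 * k ∣ Nat.card G := hk ▸ C.card_subgroup_dvd_card
    have h5k : ¬ 5 ∣ k := fun hd => by
      have h3 : 5 ^ 3 ∣ Nat.card G := ((show (5 ^ 3 : ℕ) ∣ 875 by norm_num).trans
        (mul_dvd_mul_left 175 hd)).trans hdG
      have h4 := pow_dvd_pow 5
        (((show Nat.Prime 5 by norm_num).pow_dvd_iff_le_factorization Nat.card_pos.ne').1 h3)
      rw [← S.card_eq_multiplicity, hS25] at h4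
      norm_num at h4
    have h7k : ¬ 7 ∣ k := fun hd => K.small_seven M
      (((show (7 ^ 2 : ℕ) ∣ 1225 by norm_num).trans (mul_dvd_mul_left 175 hd)).trans hdG)
    have hcop : (175 : ℕ).Coprime k := by
      rw [show (175 : ℕ) = 5 ^ 2 * 7 by norm_num]
      exact Nat.Coprime.mul_left
        (((Nat.Prime.coprime_iff_not_dvd (by norm_num)).2 h5k).pow_left 2)
        ((Nat.Prime.coprime_iff_not_dvd (by norm_num)).2 h7k)
    obtain ⟨H, hH⟩ := Cfsg.Lib.Solv.hall_exists hk hcop
    -- the subgroup of order 175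
    obtain ⟨P⟩ : Nonempty (Sylow 7 H) := inferInstance
    have hP : Nat.card (P : Subgroup H) = 7 := by
      rw [P.card_eq_multiplicity, hH, show (175 : ℕ) = 7 ^ 1 * 25 by norm_num,
        Nat.factorization_mul (by norm_num) (by norm_num), Finsupp.add_apply,
        Nat.factorization_eq_zero_of_not_dvd (show ¬ 7 ∣ 25 by norm_num),
        Nat.Prime.factorization_pow (by norm_num), Finsupp.single_eq_same]
      norm_num
    haveI : Subsingleton (Sylow 7 H) := by
      refine (Nat.card_eq_one_iff_unique.1 ?_).1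
      have hidx := (P : Subgroup H).index_mul_card
      rw [hP, hH] at hidx
      have hd := P.card_dvd_index
      rw [show (P : Subgroup H).index = 25 by omega] at hd
      have hmod := card_sylow_modEq_one 7 H
      unfold Nat.ModEq at hmod
      obtain ⟨i, hi, hi'⟩ := (Nat.dvd_prime_pow (p := 5) (m := 2) (by norm_num)).1 hd
      interval_cases i <;> simp_all
    haveI := P.normal_of_subsingleton
    obtain ⟨⟨f', hfP⟩, hf'⟩ := exists_prime_orderOf_dvd_card' (G := (P : Subgroup H)) 7 (by rw [hP])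
    rw [Subgroup.orderOf_mk] at hf'
    obtain ⟨T⟩ : Nonempty (Sylow 5 H) := inferInstance
    have hT : Nat.card (T : Subgroup H) = 25 := by
      rw [T.card_eq_multiplicity, hH, show (175 : ℕ) = 5 ^ 2 * 7 by norm_num,
        Nat.factorization_mul (by norm_num) (by norm_num), Finsupp.add_apply,
        Nat.factorization_eq_zero_of_not_dvd (show ¬ 5 ∣ 7 by norm_num),
        Nat.Prime.factorization_pow (by norm_num), Finsupp.single_eq_same]
      norm_num
    let ψ : H →* G := C.subtype.comp H.subtype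
    have hψ : Function.Injective ψ := C.subtype_injective.comp H.subtype_injective
    have hT' : Nat.card ((T : Subgroup H).map ψ) = 25 := by
      rw [Subgroup.card_map_of_injective hψ, hT]
    have hTS : Nat.card ((T : Subgroup H).map ψ) = 5 ^ (Nat.card G).factorization 5 := by
      rw [hT', ← hS25, S.card_eq_multiplicity]
    obtain ⟨c, hcK, hc⟩ := K.exists_prime (Or.inl rfl)
    obtain ⟨g, hg⟩ := Cfsg.Lib.Sig.exists_conj_le_sylow (Sylow.ofCard _ hTS)
      (IsPGroup.of_card (n := 1) (by rw [Nat.card_zpowers, hc, pow_one]) :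
        IsPGroup 5 (Subgroup.zpowers c))
    obtain ⟨c', -, hc'⟩ : g * c * g⁻¹ ∈ (T : Subgroup H).map ψ :=
      hg ⟨c, Subgroup.mem_zpowers c, rfl⟩
    have hPz : (P : Subgroup H) = Subgroup.zpowers f' := (Subgroup.eq_of_le_of_card_ge
      (Subgroup.zpowers_le.2 hfP) (by rw [hP, Nat.card_zpowers, hf'])).symm
    have hcomm : Commute c' f' := by
      refine commute_of_normalizes hf' (show Nat.Coprime 5 (7 - 1) by norm_num) (hψ ?_) ?_
      · rw [map_pow, hc', map_one, conj_pow,
          show c ^ 5 = 1 by rw [← hc, pow_orderOf_eq_one]]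
        group
      · rw [← hPz]
        exact (inferInstance : (P : Subgroup H).Normal).conj_mem f' hfP c'
    have hcomm' : Commute (g⁻¹ * ψ f' * g) c := by
      have h1 := hcomm.symm.map ψ
      rw [hc'] at h1
      exact commute_unconj g h1
    have h7 := hdvd (y := g⁻¹ * ψ f' * g) (by
      rw [show g⁻¹ * ψ f' * g = MulAut.conj g⁻¹ (ψ f') by rw [MulAut.conj_apply, inv_inv],
        MulEquiv.orderOf_eq, orderOf_injective ψ hψ, hf']) hcomm'
    rw [(K.card_c M hcK hc).2] at h7
    norm_num at h7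

theorem card_CQ_seven {d : G} (hdK : d ∈ K.Kgrp) (hd : orderOf d = 7) : Nat.card (CQ d) = 12 := by
  haveI : Fact (Nat.Prime 5) := ⟨by norm_num⟩
  refine (K.card_CQ hdK (Or.inr rfl) hd).resolve_right fun h60 => ?_
  obtain ⟨y, hy⟩ := exists_prime_orderOf_dvd_card' (G := CQ d) 5 (by rw [h60]; norm_num)
  obtain ⟨g, hg, hgy, hg5⟩ := exists_lift hd (show Nat.Coprime 5 7 by norm_num)
    (show y ^ 5 = 1 by rw [← hy, pow_orderOf_eq_one])
  refine K.no_five_seven M (orderOf_eq_prime hg5 fun e => ?_) hd hg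
  rw [← hgy, (cmk_one hg).2 ⟨0, by rw [e, zpow_zero]⟩, orderOf_one] at hy
  norm_num at hy

/-- The centralizer of a Sylow 7-subgroup. -/
theorem cent_seven {d : G} (hdK : d ∈ K.Kgrp) (hd : orderOf d = 7) :
    Nonempty (↥(Subgroup.centralizer ({d} : Set G)) ≃*
      Multiplicative (ZMod 7) × alternatingGroup (Fin 4)) := by
  haveI : Fact (Nat.Prime 7) := ⟨by norm_num⟩
  have h12 := K.card_CQ_seven M hdK hd
  have H := K.fourCent hdK (Or.inr rfl) hd
  obtain ⟨eA⟩ := Cfsg.Agent.S0228.result h12 fun y hy hc => by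
    have hcomm : ∀ w, Commute y w := fun w => (Subgroup.mem_center_iff.1 hc w).symm
    have hyV := H.cent y (hcomm _)
    have ha1 : ∀ {a : CQ d}, orderOf a = 2 → a ≠ 1 := fun h e => by
      rw [e, orderOf_one] at h; norm_num at h
    rcases hyV with e | e | e | e
    · exact ha1 hy e
    · have h1 := H.cycle1
      rw [← e, ← (hcomm _).eq, mul_inv_cancel_right, e] at h1
      exact H.ne h1
    · have h1 := H.cycle2
      rw [← e, ← (hcomm _).eq, mul_inv_cancel_right] at h1
      exact ha1 H.ha (mul_eq_right.1 h1.symm)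
    · have h1 := H.g_a2
      rw [← e, ← (hcomm _).eq, mul_inv_cancel_right, e] at h1
      exact ha1 H.hb (mul_eq_left.1 h1)
  set C := Subgroup.centralizer ({d} : Set G) with hC
  have hN : Nat.card (selfGrp d) = 7 := by
    rw [selfGrp, Nat.card_zpowers, ← Subgroup.orderOf_coe]; exact hd
  obtain ⟨W, hW⟩ := Subgroup.exists_right_complement'_of_coprime (N := selfGrp d) (by
    rw [hN, Subgroup.index_eq_card, show Nat.card (↥C ⧸ selfGrp d) = 12 from h12]; norm_num)
  let eW : CQ d ≃* W := hW.symm.QuotientMulEquiv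
  haveI : IsCyclic (selfGrp d) := isCyclic_of_prime_card hN
  let eN : selfGrp d ≃* Multiplicative (ZMod 7) := mulEquivOfCyclicCardEq (by
    rw [hN, Nat.card_congr Multiplicative.toAdd, Nat.card_zmod])
  let f : selfGrp d × W →* C := (selfGrp d).subtype.noncommCoprod W.subtype fun p q => by
    obtain ⟨i, hi⟩ := Subgroup.mem_zpowers_iff.1 p.2
    show Commute (p : C) (q : C)
    rw [← hi]
    refine (Commute.zpow_left ?_ i)
    exact Subtype.ext (Subgroup.mem_centralizer_singleton_iff.1 (q : C).2).symm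
  let eC : selfGrp d × W ≃* C := MulEquiv.ofBijective f hW
  exact ⟨eC.symm.trans (eN.prodCongr (eW.symm.trans eA))⟩

/-- The normalizer of a Sylow 7-subgroup. -/
theorem card_norm_seven {d : G} (hdK : d ∈ K.Kgrp) (hd : orderOf d = 7) :
    Nat.card ↥(Subgroup.normalizer (Subgroup.zpowers d : Set G)) = 504 := by
  classical
  haveI : Fact (Nat.Prime 7) := ⟨by norm_num⟩
  haveI : Fact (Nat.Prime 3) := ⟨by norm_num⟩
  set N := Subgroup.normalizer (Subgroup.zpowers d : Set G) with hN
  let ψ := (Subgroup.zpowers d).normalizerMonoidHom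
  have hker : ψ.ker = (Subgroup.centralizer ({d} : Set G)).subgroupOf N := by
    rw [Subgroup.normalizerMonoidHom_ker]
    ext a
    rw [Subgroup.mem_subgroupOf, Subgroup.mem_subgroupOf, Subgroup.mem_centralizer_iff,
      Subgroup.mem_centralizer_singleton_iff]
    refine ⟨fun h => (h d (Subgroup.mem_zpowers d)).symm, fun h b hb => ?_⟩
    obtain ⟨i, rfl⟩ := Subgroup.mem_zpowers_iff.1 hb
    exact ((show Commute (a : G) d from h).zpow_right i).eq.symm
  have hCN : Subgroup.centralizer ({d} : Set G) ≤ N := fun a ha =>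
    Subgroup.mem_normalizer_fintype fun b hb => by
      obtain ⟨i, rfl⟩ := Subgroup.mem_zpowers_iff.1 hb
      show a * d ^ i * a⁻¹ ∈ Subgroup.zpowers d
      rw [((show Commute a d from Subgroup.mem_centralizer_singleton_iff.1 ha).zpow_right i).eq,
        mul_inv_cancel_right]
      exact zpow_mem (Subgroup.mem_zpowers d) i
  haveI : IsCyclic (Subgroup.zpowers d) := inferInstance
  have h6 : Nat.card ψ.range ∣ 6 := by
    refine (Subgroup.card_subgroup_dvd_card _).trans (dvd_of_eq ?_)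
    rw [IsCyclic.card_mulAut, Nat.card_zpowers, hd]
    decide
  have hmemN : ∀ {a : G}, a * d * a⁻¹ ∈ Subgroup.zpowers d → a ∈ N := fun {a} ha =>
    Subgroup.mem_normalizer_fintype fun b hb => by
      obtain ⟨i, rfl⟩ := Subgroup.mem_zpowers_iff.1 hb
      show a * d ^ i * a⁻¹ ∈ Subgroup.zpowers d
      rw [← conj_zpow]; exact zpow_mem ha i
  have hcard : Nat.card N = Nat.card ψ.range * 84 := by
    rw [Subgroup.card_eq_card_quotient_mul_card_subgroup ψ.ker,
      Nat.card_congr (QuotientGroup.quotientKerEquivRange ψ).toEquiv, hker,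
      Nat.card_congr (Subgroup.subgroupOfEquivOfLe hCN).toEquiv, card_centralizer hd,
      K.card_CQ_seven M hdK hd]
  -- an element of order three modulo the centralizer
  have hLd := K.lmk_order hdK (Or.inr rfl) hd
  have h21 := K.lfour.card_normalizer (Or.inr rfl) hLd
  rw [if_neg (by norm_num)] at h21
  obtain ⟨⟨a, haN⟩, ha⟩ := exists_prime_orderOf_dvd_card'
    (G := ↥(Subgroup.normalizer (Subgroup.zpowers (K.Lmk ⟨d, hdK⟩) : Set K.Lq))) 3
    (by rw [h21]; norm_num)
  rw [Subgroup.orderOf_mk] at ha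
  obtain ⟨⟨g, hgK⟩, rfl⟩ := QuotientGroup.mk'_surjective _ a
  change orderOf (K.Lmk ⟨g, hgK⟩) = 3 at ha
  obtain ⟨hdx, hdx'⟩ := K.mem_K.1 hdK
  have hgd : g * d * g⁻¹ ∈ Subgroup.zpowers d := by
    obtain ⟨i, hi⟩ := Subgroup.mem_zpowers_iff.1
      ((Subgroup.mem_normalizer_iff.1 haN (K.Lmk ⟨d, hdK⟩)).1 (Subgroup.mem_zpowers _))
    change K.Lmk ⟨d, hdK⟩ ^ i = K.Lmk ⟨g, hgK⟩ * K.Lmk ⟨d, hdK⟩ * (K.Lmk ⟨g, hgK⟩)⁻¹ at hi
    have hV : K.InV ((d ^ i)⁻¹ * (g * d * g⁻¹)) := K.lmk_one.1
      (show K.Lmk ((⟨d, hdK⟩ ^ i)⁻¹ * (⟨g, hgK⟩ * ⟨d, hdK⟩ * (⟨g, hgK⟩ : ↥K.Kgrp)⁻¹)) = 1 by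
        rw [map_mul, map_inv, map_zpow, hi, map_mul, map_mul, map_inv, inv_mul_cancel])
    set w := (d ^ i)⁻¹ * (g * d * g⁻¹) with hw
    have hc : Commute (d ^ i) w := (K.V_comm hV (hdx.zpow_left i) (hdx'.zpow_left i)).symm
    have e : g * d * g⁻¹ = d ^ i * w := by rw [hw]; group
    have h7 : (d ^ i * w) ^ 7 = 1 := by
      rw [← e, conj_pow, ← hd, pow_orderOf_eq_one]; group
    rw [hc.mul_pow, show (d ^ i) ^ 7 = 1 by
      rw [← zpow_natCast, ← zpow_mul, mul_comm, zpow_mul, zpow_natCast, ← hd, pow_orderOf_eq_one,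
        one_zpow], one_mul,
      show w ^ 7 = w * w * (w * w) * (w * w) * w by simp [pow_succ, mul_assoc], K.V_sq hV,
      one_mul, one_mul, one_mul] at h7
    rw [e, h7, mul_one]
    exact zpow_mem (Subgroup.mem_zpowers d) i
  set a3 : N := ⟨g, hmemN hgd⟩ with ha3
  have hout : ψ a3 ≠ 1 := fun e => by
    have hm : a3 ∈ ψ.ker := e
    rw [hker, Subgroup.mem_subgroupOf, Subgroup.mem_centralizer_singleton_iff] at hm
    have hcomm := (show Commute (⟨g, hgK⟩ : ↥K.Kgrp) ⟨d, hdK⟩ from Subtype.ext hm).map K.Lmk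
    have := K.lfour.cent_prime (Or.inr rfl) hLd hcomm
    have h1 := Subgroup.orderOf_dvd_natCard _ this
    rw [Nat.card_zpowers, hLd, ha] at h1
    norm_num at h1
  have h3 : orderOf (ψ a3) = 3 := by
    refine orderOf_eq_prime ?_ hout
    refine (show a3 ^ 3 ∈ ψ.ker from ?_) |> fun h => by rw [← map_pow]; exact h
    rw [hker, Subgroup.mem_subgroupOf, Subgroup.mem_centralizer_singleton_iff]
    show g ^ 3 * d = d * g ^ 3
    have hV : K.InV (g ^ 3) := K.lmk_one.1
      (show K.Lmk ((⟨g, hgK⟩ : ↥K.Kgrp) ^ 3) = 1 by rw [map_pow]; exact ha ▸ pow_orderOf_eq_one _)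
    exact (K.V_comm hV hdx hdx').eq
  -- an element outside `K`
  obtain ⟨n, hnz, hnx, hnt⟩ := K.exists_n
  have hn1 : n * d * n⁻¹ ∈ K.Kgrp := K.K_conj hnx hdK
  obtain ⟨k, i, hki⟩ := conj_zpowers (G := ↥K.Kgrp) (p := 7) (a := ⟨n * d * n⁻¹, hn1⟩) (b := ⟨d, hdK⟩)
    (by rw [Subgroup.orderOf_mk, show n * d * n⁻¹ = MulAut.conj n d from rfl, MulEquiv.orderOf_eq, hd])
    (by rw [Subgroup.orderOf_mk, hd]) (by rw [K.card_K]; norm_num)
  have hki' : (k : G) * (n * d * n⁻¹) * (k : G)⁻¹ = d ^ i := congrArg Subtype.val hki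
  have hkd : (k : G) * n * d * ((k : G) * n)⁻¹ ∈ Subgroup.zpowers d := by
    rw [show (k : G) * n * d * ((k : G) * n)⁻¹ = (k : G) * (n * d * n⁻¹) * (k : G)⁻¹ by group, hki']
    exact zpow_mem (Subgroup.mem_zpowers d) i
  set a2 : N := ⟨(k : G) * n, hmemN hkd⟩ with ha2
  have hne3 : Nat.card ψ.range ≠ 3 := fun e3 => by
    have hz : Subgroup.zpowers (ψ a3) = ψ.range := Subgroup.eq_of_le_of_card_ge
      (Subgroup.zpowers_le.2 ⟨a3, rfl⟩) (by rw [e3, Nat.card_zpowers, h3])
    have hm : ψ a2 ∈ Subgroup.zpowers (ψ a3) := hz ▸ ⟨a2, rfl⟩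
    obtain ⟨j, hj⟩ := Subgroup.mem_zpowers_iff.1 hm
    have hm2 : (a3 ^ j)⁻¹ * a2 ∈ ψ.ker := by
      rw [MonoidHom.mem_ker, map_mul, map_inv, map_zpow, hj, inv_mul_cancel]
    rw [hker, Subgroup.mem_subgroupOf, Subgroup.mem_centralizer_singleton_iff] at hm2
    set c := (g ^ j)⁻¹ * ((k : G) * n) with hc
    have hcx : Commute c x :=
      (((K.mem_K.1 hgK).1.zpow_left j).inv_left).mul_left ((K.mem_K.1 k.2).1.mul_left hnx)
    obtain ⟨w, hw, l, hwl⟩ := K.cent_prime hdK (Or.inr hd) hcx hm2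
    refine K.n_not_K hnz hnx hnt ?_
    have hcK : c ∈ K.Kgrp := hwl ▸ mul_mem (K.V_le hw) (zpow_mem hdK l)
    have := mul_mem (inv_mem k.2) (mul_mem (zpow_mem hgK j) hcK)
    rwa [hc, mul_inv_cancel_left, inv_mul_cancel_left] at this
  have h33 : 3 ∣ Nat.card ψ.range := by
    rw [← h3]; exact Subgroup.orderOf_dvd_natCard _ ⟨a3, rfl⟩
  have : Nat.card ψ.range = 6 := by
    obtain ⟨m, hm⟩ := h33
    rw [hm] at h6 hne3 ⊢
    have hle := Nat.le_of_dvd (by norm_num) h6
    obtain rfl | rfl | rfl : m = 0 ∨ m = 1 ∨ m = 2 := by omega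
    · simp at h6
    · exact absurd rfl hne3
    · rfl
  rw [hcard, this]

/-- The Sylow 7-subgroups. -/
theorem seven (B : Sylow 7 G) :
    Nonempty (↥(Subgroup.centralizer ((B : Subgroup G) : Set G)) ≃*
        Multiplicative (ZMod 7) × alternatingGroup (Fin 4)) ∧
      Nat.card ↥(Subgroup.normalizer ((B : Subgroup G) : Set G)) = 504 := by
  haveI : Fact (Nat.Prime 7) := ⟨by norm_num⟩
  obtain ⟨d, hdK, hd⟩ := K.exists_prime (Or.inr rfl)
  obtain ⟨S, hS⟩ := (IsPGroup.of_card (n := 1) (by rw [Nat.card_zpowers, hd, pow_one]) :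
    IsPGroup 7 (Subgroup.zpowers d)).exists_le_sylow
  have hS' : (S : Subgroup G) = Subgroup.zpowers d := by
    refine (Subgroup.eq_of_le_of_card_ge hS ?_).symm
    rw [Nat.card_zpowers, hd, S.card_eq_multiplicity]
    refine (Nat.pow_le_pow_right (by norm_num) (?_ : _ ≤ 1)).trans (pow_one 7).le
    by_contra hc
    exact K.small_seven M ((pow_dvd_pow 7 (show 2 ≤ _ by omega)).trans (Nat.ordProj_dvd _ _))
  obtain ⟨g, hg⟩ := MulAction.exists_smul_eq G S B
  constructor
  · obtain ⟨e⟩ := K.cent_seven M hdK hd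
    have hB : Subgroup.centralizer ((B : Subgroup G) : Set G) =
        (Subgroup.centralizer ({d} : Set G)).map (MulAut.conj g).toMonoidHom := by
      have hm : ∀ b, b ∈ (B : Subgroup G) ↔ g⁻¹ * b * g ∈ Subgroup.zpowers d := fun b => by
        rw [← hS', ← mem_map_conj, ← hg]
        rfl
      ext a
      rw [mem_map_conj, Subgroup.mem_centralizer_singleton_iff, Subgroup.mem_centralizer_iff]
      constructor
      · intro h
        have h1 : Commute (g * d * g⁻¹) a := h (g * d * g⁻¹) ((hm _).2 (by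
          rw [show g⁻¹ * (g * d * g⁻¹) * g = d by group]; exact Subgroup.mem_zpowers d))
        exact (commute_unconj g h1.symm).eq
      · intro h b hb
        obtain ⟨i, hi⟩ := Subgroup.mem_zpowers_iff.1 ((hm b).1 hb)
        have hb' : b = g * d ^ i * g⁻¹ := by rw [hi]; group
        rw [hb']
        exact ((commute_conj g ((show Commute (g⁻¹ * a * g) d from h).zpow_right i)).symm).eq
    rw [hB]
    exact ⟨((Subgroup.centralizer ({d} : Set G)).equivMapOfInjective _
      (MulAut.conj g).injective).symm.trans e⟩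
  · have h1 := Sylow.card_eq_index_normalizer B
    have h2 := Sylow.card_eq_index_normalizer S
    have h3 := (Subgroup.normalizer ((B : Subgroup G) : Set G)).index_mul_card
    have h4 := (Subgroup.normalizer ((S : Subgroup G) : Set G)).index_mul_card
    rw [show ((S : Subgroup G) : Set G) = (Subgroup.zpowers d : Set G) from congrArg SetLike.coe hS',
      K.card_norm_seven M hdK hd] at h4
    rw [show ((S : Sylow 7 G) : Set G) = (Subgroup.zpowers d : Set G) from congrArg SetLike.coe hS'] at h2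
    change Nat.card (Sylow 7 G) = (Subgroup.normalizer ((B : Subgroup G) : Set G)).index at h1
    rw [← h1] at h3
    rw [← h2, ← h3] at h4
    exact (Nat.eq_of_mul_eq_mul_left Nat.card_pos h4).symm

end Cfg

end Cfsg.Lib.Extra.SuzLocal
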