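import Cfsg.Agent.Lib.Extra.SuzLocal.Order
import Cfsg.Agent.Lib.Extra.SuzLocal.Seven
import Cfsg.Agent.Lib.Extra.SuzLocal.FiveQuot
import Cfsg.Agent.Lib.Extra.SuzLocal.FiveMat

/-!
# The normalizer of a Sylow 5-subgroup

An element `c` of order five of `K` and its partner `b` generate a Sylow 5-subgroup whose
normalizer is `25 : (4 × Sym 3)`; it has two orbits on the six subgroups of order five.
-/

set_option autoImplicit false
set_option linter.style.haveILetI false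
set_option linter.unusedSectionVars false

namespace Cfsg.Lib.Extra.SuzLocal

open Cfsg Module Cfsg.Lib.Linear.Orth Cfsg.Lib.Extra.Wide FiveMat
open scoped Matrix

universe u

variable {G : Type u} [Group G] {ι : Type} [Fintype ι] [DecidableEq ι] {D : Data G ι} [Finite G]

/-- The pair of commuting elements of order five and what is known about it. -/
structure Pair5 (D : Data G ι) (c b w : G) : Prop where
  hc : orderOf c = 5
  hb : orderOf b = 5
  bc : Commute b c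
  cl : D.Cl w
  bw : Commute b w
  inv : w * c * w⁻¹ = c⁻¹
  no_cl : ∀ a, D.Cl a → ¬ Commute a c
  card_q : Nat.card (CQ c) = 60
  four : ∃ a b g : CQ c, FourCent a b g
  out : ∃ (n : G) (i : ℕ), ((i : ZMod 5) = 2 ∨ (i : ZMod 5) = 3) ∧ n * c * n⁻¹ = c ^ i
  sylow : ∀ T : Sylow 5 G, Nat.card (T : Subgroup G) = 25
  order : ∃ s : ℕ, s % 5 = 4 ∧ Nat.card G = 25 * 41803776 * s

theorem Cfg.exists_pair5 {x x' h t q1 q2 y1 y2 : G} {v u r1 r2 : ι → ZMod 2}
    (K : Cfg D x x' h t q1 q2 y1 y2 v u r1 r2) (M : Model D) : ∃ c b w, Pair5 D c b w := by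
  haveI : Fact (Nat.Prime 5) := ⟨by norm_num⟩
  obtain ⟨c, hcK, hc⟩ := K.exists_prime (p := 5) (Or.inl rfl)
  obtain ⟨b, w, hb, hbc, hw, hbw, hwx, hwc⟩ := K.exists_partner M hcK hc
  refine ⟨c, b, w, hc, hb, hbc, hw, hbw, hwc, fun a ha => K.no_cl hcK (Or.inl rfl) hc ha,
    (K.card_c M hcK hc).1, ⟨_, _, _, K.fourCent hcK (Or.inl rfl) hc⟩, ?_, K.card_sylow_five M,
    K.card_G M⟩
  obtain ⟨n, hnz, hnx, hnt⟩ := K.exists_n
  have hnK := K.n_not_K hnz hnx hnt
  have hn1 : n * c * n⁻¹ ∈ K.Kgrp := K.K_conj hnx hcK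
  obtain ⟨k, i, hki⟩ := conj_zpowers (G := ↥K.Kgrp) (p := 5) (a := ⟨n * c * n⁻¹, hn1⟩) (b := ⟨c, hcK⟩)
    (by rw [Subgroup.orderOf_mk, show n * c * n⁻¹ = MulAut.conj n c from rfl, MulEquiv.orderOf_eq, hc])
    (by rw [Subgroup.orderOf_mk, hc]) (by rw [K.card_K]; norm_num)
  have hki' : (k : G) * (n * c * n⁻¹) * (k : G)⁻¹ = c ^ i := congrArg Subtype.val hki
  set m := (k : G) * n with hm
  have hmc : m * c * m⁻¹ = c ^ i := by rw [hm, ← hki']; group
  have hmx : Commute m x := (K.mem_K.1 k.2).1.mul_left hnx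
  have hmK : m ∉ K.Kgrp := fun h => hnK (by
    have := mul_mem (inv_mem k.2) h
    rwa [hm, inv_mul_cancel_left] at this)
  have hin : ∀ {g}, Commute g x → Commute g c → g ∈ K.Kgrp := fun hgx hgc => by
    obtain ⟨a, ha, j, rfl⟩ := K.cent_prime hcK (Or.inl hc) hgx hgc
    exact mul_mem (K.V_le ha) (zpow_mem hcK j)
  refine ⟨m, ((i : ZMod 5)).val, ?_, ?_⟩
  · rw [ZMod.natCast_zmod_val]
    have e0 : (i : ZMod 5) ≠ 0 := fun e => by
      rw [ZMod.intCast_zmod_eq_zero_iff_dvd] at e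
      have e1 : c ^ i = 1 := orderOf_dvd_iff_zpow_eq_one.1 (by rw [hc]; exact e)
      rw [e1, conj_eq_one_iff] at hmc
      rw [hmc, orderOf_one] at hc
      norm_num at hc
    have e1 : (i : ZMod 5) ≠ 1 := fun e => hmK (hin hmx (mul_inv_eq_iff_eq_mul.1 (by
      rw [hmc]
      conv_rhs => rw [← zpow_one c]
      rw [zpow_eq_zpow_iff_modEq, hc]
      exact (ZMod.intCast_eq_intCast_iff i 1 5).1 (by push_cast; exact e))))
    have e4 : (i : ZMod 5) ≠ -1 := fun e => by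
      have hci : c ^ i = c⁻¹ := by
        rw [← zpow_neg_one, zpow_eq_zpow_iff_modEq, hc]
        exact (ZMod.intCast_eq_intCast_iff i (-1) 5).1 (by push_cast; exact e)
      have h1 : Commute (w * m) c := mul_inv_eq_iff_eq_mul.1 (by
        rw [show w * m * c * (w * m)⁻¹ = w * (m * c * m⁻¹) * w⁻¹ by group, hmc, hci,
          show w * c⁻¹ * w⁻¹ = (w * c * w⁻¹)⁻¹ by group, hwc, inv_inv])
      have h2 := mul_mem (inv_mem (K.cl_K hw hwx)) (hin (hwx.mul_left hmx) h1)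
      rw [inv_mul_cancel_left] at h2
      exact hmK h2
    exact unit_cases _ e0 e1 e4
  · rw [hmc, ← zpow_natCast, zpow_eq_zpow_iff_modEq, hc]
    exact (ZMod.intCast_eq_intCast_iff i _ 5).1 (by push_cast; rw [ZMod.natCast_zmod_val])

namespace Pair5

variable {c b w : G} (P : Pair5 D c b w)

/-- The element with given coordinates. -/
def lam (_P : Pair5 D c b w) (v : V5) : G := c ^ v.1.val * b ^ v.2.val

include P

theorem pow_val {d : G} (hd : orderOf d = 5) (a a' : ZMod 5) :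
    d ^ (a + a').val = d ^ a.val * d ^ a'.val := by
  rw [← pow_add, pow_eq_pow_iff_modEq, hd, ZMod.val_add]
  exact Nat.mod_modEq _ _

theorem lam_add (v v' : V5) : P.lam (v + v') = P.lam v * P.lam v' := by
  simp only [lam, Prod.fst_add, Prod.snd_add]
  rw [P.pow_val P.hc, P.pow_val P.hb, (P.bc.pow_pow v.2.val v'.1.val).symm.mul_mul_mul_comm]

theorem lam_zero : P.lam (0, 0) = 1 := by simp [lam]

theorem lam_c : P.lam (1, 0) = c := by
  simp only [lam]
  rw [ZMod.val_zero, pow_zero, mul_one, ZMod.val_one, pow_one]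

theorem lam_b : P.lam (0, 1) = b := by
  simp only [lam]
  rw [ZMod.val_zero, pow_zero, one_mul, ZMod.val_one, pow_one]

theorem lam_pow (v : V5) (k : ℕ) : P.lam v ^ k = P.lam ((k : ZMod 5) * v.1, (k : ZMod 5) * v.2) := by
  induction k with
  | zero => simp [P.lam_zero]
  | succ k ih =>
    rw [pow_succ, ih, ← P.lam_add]
    refine congrArg P.lam ?_
    refine Prod.ext ?_ ?_ <;> simp only [Prod.fst_add, Prod.snd_add] <;> push_cast <;> ring

theorem lam_one {v : V5} (h : P.lam v = 1) : v = (0, 0) := by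
  have hpow : ∀ {d : G}, orderOf d = 5 → ∀ a : ZMod 5, d ^ a.val = 1 → a = 0 := fun {d} hd a e => by
    have h5 := orderOf_dvd_of_pow_eq_one e
    rw [hd] at h5
    exact (ZMod.val_eq_zero _).1 (Nat.eq_zero_of_dvd_of_lt h5 (ZMod.val_lt a))
  simp only [lam] at h
  have e1 : b ^ v.2.val = (c ^ v.1.val)⁻¹ := eq_inv_of_mul_eq_one_right h
  have e2 : w * c ^ v.1.val * w⁻¹ = c ^ v.1.val := by
    refine inv_injective ?_
    rw [show (w * c ^ v.1.val * w⁻¹)⁻¹ = w * (c ^ v.1.val)⁻¹ * w⁻¹ by group, ← e1,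
      ((P.bw.symm).pow_right _).eq, mul_inv_cancel_right]
  rw [← conj_pow, P.inv, inv_pow] at e2
  have hc1 : c ^ v.1.val = 1 := by
    have := eq_one_of_sq P.hc ⟨2, rfl⟩ (i := (v.1.val : ℤ)) (by
      rw [zpow_natCast]; nth_rewrite 1 [← e2]; exact inv_mul_cancel _)
    rwa [zpow_natCast] at this
  rw [hc1, inv_one] at e1
  exact Prod.ext (hpow P.hc _ hc1) (hpow P.hb _ e1)

theorem lam_inj {v v' : V5} (h : P.lam v = P.lam v') : v = v' := by
  have h1 := P.lam_one (v := v + -v') (by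
    rw [P.lam_add, h, ← P.lam_add, add_neg_cancel]
    exact P.lam_zero)
  exact eq_of_sub_eq_zero (by rw [sub_eq_add_neg]; exact h1)

omit P in
/-- The homomorphism onto the Sylow subgroup. -/
def lamHom (P : Pair5 D c b w) : Multiplicative V5 →* G :=
  MonoidHom.mk' (fun v => P.lam (Multiplicative.toAdd v)) fun _ _ => P.lam_add _ _

omit P in
/-- The Sylow subgroup. -/
def sub (P : Pair5 D c b w) : Subgroup G := P.lamHom.range

theorem mem_sub {g : G} : g ∈ P.sub ↔ ∃ v, P.lam v = g := Iff.rfl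

theorem lam_mem (v : V5) : P.lam v ∈ P.sub := ⟨Multiplicative.ofAdd v, rfl⟩

theorem c_mem : c ∈ P.sub := by have := P.lam_mem (1, 0); rwa [P.lam_c] at this

theorem b_mem : b ∈ P.sub := by have := P.lam_mem (0, 1); rwa [P.lam_b] at this

theorem card_sub : Nat.card ↥P.sub = 25 := by
  have hi : Function.Injective P.lamHom := fun v v' h => P.lam_inj h
  rw [sub, ← Nat.card_congr (MonoidHom.ofInjective hi).toEquiv,
    Nat.card_congr Multiplicative.toAdd, Nat.card_prod, Nat.card_zmod]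

theorem fact_five : (Nat.card G).factorization 5 = 2 := by
  haveI : Fact (Nat.Prime 5) := ⟨by norm_num⟩
  obtain ⟨T⟩ : Nonempty (Sylow 5 G) := inferInstance
  have h := T.card_eq_multiplicity
  rw [P.sylow T] at h
  exact Nat.pow_right_injective (le_refl 2 |>.trans (by norm_num : 2 ≤ 5))
    (show 5 ^ (Nat.card G).factorization 5 = 5 ^ 2 by rw [← h])

omit P in
/-- The Sylow subgroup, as one. -/
noncomputable def syl (P : Pair5 D c b w) : Sylow 5 G :=
  haveI : Fact (Nat.Prime 5) := ⟨by norm_num⟩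
  Sylow.ofCard P.sub (by rw [P.card_sub, P.fact_five]; norm_num)

theorem coe_syl : (P.syl : Subgroup G) = P.sub := rfl

omit P in
/-- The normalizer. -/
def nrm (P : Pair5 D c b w) : Subgroup G := Subgroup.normalizer (P.sub : Set G)

omit P in
/-- `n` acts by the matrix `p`. -/
def Acts (P : Pair5 D c b w) (n : G) (p : M5) : Prop :=
  n * c * n⁻¹ = P.lam p.1 ∧ n * b * n⁻¹ = P.lam p.2

theorem acts_lam {n : G} {p : M5} (h : P.Acts n p) (v : V5) :
    n * P.lam v * n⁻¹ = P.lam (app p v) := by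
  show n * (c ^ v.1.val * b ^ v.2.val) * n⁻¹ = _
  rw [show n * (c ^ v.1.val * b ^ v.2.val) * n⁻¹ = n * c ^ v.1.val * n⁻¹ * (n * b ^ v.2.val * n⁻¹) by
    group, ← conj_pow, ← conj_pow, h.1, h.2, P.lam_pow, P.lam_pow, ← P.lam_add,
    ZMod.natCast_zmod_val, ZMod.natCast_zmod_val]
  rfl

theorem acts_mul {m n : G} {p q : M5} (hm : P.Acts m p) (hn : P.Acts n q) :
    P.Acts (m * n) (mul5 p q) := by
  refine ⟨?_, ?_⟩
  · rw [show m * n * c * (m * n)⁻¹ = m * (n * c * n⁻¹) * m⁻¹ by group, hn.1, P.acts_lam hm]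
    rfl
  · rw [show m * n * b * (m * n)⁻¹ = m * (n * b * n⁻¹) * m⁻¹ by group, hn.2, P.acts_lam hm]
    rfl

theorem acts_unique {n : G} {p q : M5} (hp : P.Acts n p) (hq : P.Acts n q) : p = q :=
  Prod.ext (P.lam_inj (hp.1.symm.trans hq.1)) (P.lam_inj (hp.2.symm.trans hq.2))

theorem nrm_acts {n : G} (hn : n ∈ P.nrm) : ∃ p, P.Acts n p := by
  obtain ⟨v1, h1⟩ := P.mem_sub.1 ((Subgroup.mem_normalizer_iff.1 hn c).1 P.c_mem)
  obtain ⟨v2, h2⟩ := P.mem_sub.1 ((Subgroup.mem_normalizer_iff.1 hn b).1 P.b_mem)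
  exact ⟨(v1, v2), h1.symm, h2.symm⟩

theorem acts_nrm {n : G} {p : M5} (h : P.Acts n p) : n ∈ P.nrm :=
  Subgroup.mem_normalizer_fintype fun d hd => by
    obtain ⟨v, rfl⟩ := P.mem_sub.1 hd
    rw [P.acts_lam h]
    exact P.lam_mem _

theorem sub_comm {g : G} (hg : g ∈ P.sub) : Commute g c ∧ Commute g b := by
  obtain ⟨v, rfl⟩ := P.mem_sub.1 hg
  exact ⟨((Commute.refl c).pow_left _).mul_left (P.bc.pow_left _),
    (P.bc.symm.pow_left _).mul_left ((Commute.refl b).pow_left _)⟩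

theorem order_y : orderOf (cmk P.bc) = 5 := by
  haveI : Fact (Nat.Prime 5) := ⟨by norm_num⟩
  refine orderOf_eq_prime ?_ fun e => ?_
  · rw [cmk_pow]
    exact (cmk_one _).2 ⟨0, by rw [← P.hb, pow_orderOf_eq_one, zpow_zero]⟩
  · obtain ⟨i, hi⟩ := (cmk_one _).1 e
    have e2 : w * c ^ i * w⁻¹ = c ^ i := by
      rw [← hi, P.bw.symm.eq, mul_inv_cancel_right]
    rw [← conj_zpow, P.inv, inv_zpow] at e2
    have hb1 := eq_one_of_sq P.hc ⟨2, rfl⟩ (i := i) (by nth_rewrite 1 [← e2]; exact inv_mul_cancel _)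
    rw [← hi] at hb1
    have := P.hb
    rw [hb1, orderOf_one] at this
    norm_num at this

theorem y_mem {g : G} (hg : Commute g c) : g ∈ P.sub ↔ cmk hg ∈ Subgroup.zpowers (cmk P.bc) := by
  constructor
  · intro h
    obtain ⟨v, rfl⟩ := P.mem_sub.1 h
    have e : cmk hg = cmk P.bc ^ v.2.val := by
      rw [cmk_pow, cmk_eq]
      refine ⟨-(v.1.val : ℤ), ?_⟩
      show b ^ v.2.val = c ^ v.1.val * b ^ v.2.val * c ^ (-(v.1.val : ℤ))
      rw [(P.bc.symm.pow_pow v.1.val v.2.val).eq, zpow_neg, zpow_natCast, mul_inv_cancel_right]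
    rw [e]
    exact pow_mem (Subgroup.mem_zpowers _) _
  · intro h
    obtain ⟨j, hj⟩ := mem_powers_iff_mem_zpowers.2 h
    change cmk P.bc ^ j = cmk hg at hj
    rw [cmk_pow, cmk_eq] at hj
    obtain ⟨i, rfl⟩ := hj
    exact mul_mem (pow_mem P.b_mem _) (zpow_mem P.c_mem _)

/-- The Sylow subgroup is self-centralizing. -/
theorem cent_sub {g : G} (hgc : Commute g c) (hgb : Commute g b) : g ∈ P.sub := by
  obtain ⟨a', b', g', H⟩ := P.four
  rw [P.y_mem hgc]
  exact H.five_cent P.card_q P.order_y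
    (show cmk hgc * cmk P.bc = cmk P.bc * cmk hgc from
      congrArg (QuotientGroup.mk' _) (Subtype.ext hgb.eq))

theorem acts_one {n : G} : P.Acts n ((1, 0), (0, 1)) ↔ n ∈ P.sub := by
  constructor
  · rintro ⟨h1, h2⟩
    simp only [P.lam_c, P.lam_b] at h1 h2
    exact P.cent_sub (mul_inv_eq_iff_eq_mul.1 h1) (mul_inv_eq_iff_eq_mul.1 h2)
  · intro hn
    obtain ⟨h1, h2⟩ := P.sub_comm hn
    exact ⟨by rw [h1.eq, mul_inv_cancel_right, P.lam_c], by rw [h2.eq, mul_inv_cancel_right, P.lam_b]⟩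

/-- An element fixing `c` and inverting `b`. -/
theorem exists_tau : ∃ τ, P.Acts τ ((1, 0), (0, 4)) := by
  obtain ⟨a', b', g', H⟩ := P.four
  obtain ⟨y, hy2, hy⟩ := H.five_inverter P.card_q P.order_y
  obtain ⟨τ, hτc, rfl, -⟩ := exists_lift P.hc (show Nat.Coprime 2 5 by norm_num) hy2
  have hm : Commute (τ * b * τ⁻¹) c := (hτc.mul_left P.bc).mul_left hτc.inv_left
  have e : cmk P.bc.inv_left = cmk hm := hy.symm
  obtain ⟨i, hi⟩ := (cmk_eq _ _).1 e
  have hτi : τ * c ^ i * τ⁻¹ = c ^ i := by rw [(hτc.zpow_right i).eq, mul_inv_cancel_right]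
  set σ := w * τ * w⁻¹ with hσ
  have hσc : Commute σ c := by
    have h1 : Commute σ c⁻¹ := P.inv ▸ (Commute.conj_iff w).2 hτc
    simpa using h1.inv_right
  have hwb : w⁻¹ * b * w = b := by rw [mul_assoc, P.bw.eq, inv_mul_cancel_left]
  have hσb : σ * b * σ⁻¹ = b⁻¹ * (c ^ i)⁻¹ := by
    rw [hσ, show w * τ * w⁻¹ * b * (w * τ * w⁻¹)⁻¹ = w * (τ * (w⁻¹ * b * w) * τ⁻¹) * w⁻¹ by group,
      hwb, hi, show w * (b⁻¹ * c ^ i) * w⁻¹ = (w * b⁻¹ * w⁻¹) * (w * c ^ i * w⁻¹) by group,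
      ← conj_zpow, P.inv, inv_zpow, P.bw.inv_left.symm.eq, mul_inv_cancel_right]
  have hg : Commute (τ * σ) c := hτc.mul_left hσc
  have hgb : τ * σ * b * (τ * σ)⁻¹ = (c ^ i)⁻¹ * b * (c ^ i)⁻¹ := by
    rw [show τ * σ * b * (τ * σ)⁻¹ = τ * (σ * b * σ⁻¹) * τ⁻¹ by group, hσb,
      show τ * (b⁻¹ * (c ^ i)⁻¹) * τ⁻¹ = (τ * b * τ⁻¹)⁻¹ * (τ * c ^ i * τ⁻¹)⁻¹ by group, hτi, hi]
    group
  have hcomm : Commute (cmk hg) (cmk P.bc) := by
    refine mul_inv_eq_iff_eq_mul.1 ?_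
    rw [cmk_mul, cmk_inv, cmk_mul, cmk_eq]
    refine ⟨i + i, ?_⟩
    rw [hgb, zpow_add, show (c ^ i)⁻¹ * b * (c ^ i)⁻¹ * (c ^ i * c ^ i) = (c ^ i)⁻¹ * (b * c ^ i) by
      group, (P.bc.zpow_right i).eq, inv_mul_cancel_left]
  have hgs := (P.sub_comm ((P.y_mem hg).2 (H.five_cent P.card_q P.order_y hcomm))).2
  rw [hgs.eq, mul_inv_cancel_right] at hgb
  have h1 : c ^ i = 1 := eq_one_of_sq P.hc ⟨2, rfl⟩ (by
    have h3 : b * 1 = b * ((c ^ i)⁻¹ * (c ^ i)⁻¹) := by
      rw [mul_one]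
      nth_rewrite 1 [hgb]
      rw [((P.bc.zpow_right i).inv_right).symm.eq, mul_assoc]
    have := mul_left_cancel h3
    rw [← mul_inv_rev, eq_comm, inv_eq_one] at this
    exact this)
  refine ⟨τ, ?_, ?_⟩
  · rw [hτc.eq, mul_inv_cancel_right]; exact P.lam_c.symm
  · rw [hi, h1, mul_one, inv_eq_of_mul_eq_one_right]
    show b * P.lam (0, 4) = 1
    conv_lhs => arg 1; rw [← P.lam_b]
    rw [← P.lam_add]
    exact P.lam_zero

theorem card_fix :
    Nat.card ↥(Subgroup.centralizer ({c} : Set G) ⊓ P.nrm) = 50 := by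
  haveI : Fact (Nat.Prime 5) := ⟨by norm_num⟩
  obtain ⟨a', b', g', H⟩ := P.four
  set C := Subgroup.centralizer ({c} : Set G) with hC
  have hSC : P.sub ≤ C := fun g hg => Subgroup.mem_centralizer_singleton_iff.2 (P.sub_comm hg).1.eq
  have h1 : P.sub.subgroupOf C = (Subgroup.zpowers (cmk P.bc)).comap (QuotientGroup.mk' (selfGrp c)) := by
    ext ⟨g, hg⟩
    exact P.y_mem (Subgroup.mem_centralizer_singleton_iff.1 hg)
  have h2 : (Subgroup.normalizer ((Subgroup.zpowers (cmk P.bc)) : Set (CQ c))).comap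
      (QuotientGroup.mk' (selfGrp c)) = P.nrm.subgroupOf C := by
    rw [Subgroup.comap_normalizer_eq_of_surjective _ (QuotientGroup.mk'_surjective _), ← h1]
    ext ⟨g, hg⟩
    rw [Subgroup.mem_subgroupOf]
    refine ⟨fun hn => Subgroup.mem_normalizer_fintype fun d hd => ?_, fun hn => ?_⟩
    · exact (Subgroup.mem_normalizer_iff.1 hn ⟨d, hSC hd⟩).1 hd
    · exact Subgroup.mem_normalizer_iff.2 fun d => Subgroup.mem_normalizer_iff.1 hn (d : G)
  have h3 := congrArg Subgroup.index h2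
  rw [Subgroup.index_comap_of_surjective _ (QuotientGroup.mk'_surjective _),
    (H.five_normalizer P.card_q P.order_y).2] at h3
  have h4 := (P.nrm.subgroupOf C).index_mul_card
  rw [← h3, card_centralizer P.hc, P.card_q] at h4
  rw [inf_comm, ← Nat.card_congr (Subgroup.subgroupOfEquivOfLe inf_le_right).toEquiv,
    Subgroup.inf_subgroupOf_right]
  omega

/-- An element of the normalizer raising `c` to a power. -/
theorem exists_scale : ∃ n ∈ P.nrm, ∃ i : ZMod 5, (i = 2 ∨ i = 3) ∧ n * c * n⁻¹ = P.lam (i, 0) := by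
  haveI : Fact (Nat.Prime 5) := ⟨by norm_num⟩
  obtain ⟨n, i, hi, hn⟩ := P.out
  set C := Subgroup.centralizer ({c} : Set G) with hC
  have hSC : P.sub ≤ C := fun g hg => Subgroup.mem_centralizer_singleton_iff.2 (P.sub_comm hg).1.eq
  obtain ⟨j, hj⟩ : ∃ j : ℕ, c = (c ^ i) ^ j := by
    obtain ⟨j, hj⟩ := unit_inv _ hi
    refine ⟨j.val, ?_⟩
    conv_lhs => rw [← pow_one c]
    rw [← pow_mul, pow_eq_pow_iff_modEq, P.hc, ← ZMod.natCast_eq_natCast_iff]
    push_cast
    rw [ZMod.natCast_zmod_val, hj]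
  let f : ↥P.sub →* ↥C := MonoidHom.codRestrict
    ((MulAut.conj n).toMonoidHom.comp P.sub.subtype) C fun d => by
      refine Subgroup.mem_centralizer_singleton_iff.2 ?_
      show n * d * n⁻¹ * c = c * (n * d * n⁻¹)
      have h1 := (Commute.conj_iff n).2 (P.sub_comm d.2).1
      rw [hn] at h1
      have h2 := h1.pow_right j
      rw [← hj] at h2
      exact h2.eq
  have hf : IsPGroup 5 f.range :=
    (IsPGroup.of_card (n := 2) (by rw [P.card_sub]; norm_num) : IsPGroup 5 ↥P.sub).of_surjective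
      f.rangeRestrict f.rangeRestrict_surjective
  let T : Sylow 5 C := Sylow.ofCard (P.sub.subgroupOf C) (by
    rw [Nat.card_congr (Subgroup.subgroupOfEquivOfLe hSC).toEquiv, P.card_sub,
      card_centralizer P.hc, P.card_q, show (5 * 60 : ℕ) = 5 ^ 2 * 12 by norm_num,
      Nat.factorization_mul (by norm_num) (by norm_num), Finsupp.add_apply,
      Nat.factorization_eq_zero_of_not_dvd (show ¬ 5 ∣ 12 by norm_num),
      Nat.Prime.factorization_pow (by norm_num), Finsupp.single_eq_same, add_zero]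
    norm_num)
  obtain ⟨g, hg⟩ := Cfsg.Lib.Sig.exists_conj_le_sylow T hf
  have hgc : Commute (g : G) c := Subgroup.mem_centralizer_singleton_iff.1 g.2
  refine ⟨(g : G) * n, ?_, (i : ZMod 5), hi, ?_⟩
  · refine Subgroup.mem_normalizer_fintype fun d hd => ?_
    have h1 := hg ⟨f ⟨d, hd⟩, ⟨_, rfl⟩, rfl⟩
    change (g : G) * (n * d * n⁻¹) * (g : G)⁻¹ ∈ P.sub at h1
    show (g : G) * n * d * ((g : G) * n)⁻¹ ∈ P.sub
    rwa [show (g : G) * n * d * ((g : G) * n)⁻¹ = (g : G) * (n * d * n⁻¹) * (g : G)⁻¹ by group]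
  · have h2 := P.lam_pow (1, 0) i
    rw [P.lam_c, mul_one, mul_zero] at h2
    rw [show (g : G) * n * c * ((g : G) * n)⁻¹ = (g : G) * (n * c * n⁻¹) * (g : G)⁻¹ by group, hn,
      (hgc.pow_right i).eq, mul_inv_cancel_right, h2]

omit P in
/-- `v` is the image of `c` under the normalizer. -/
def Mov (P : Pair5 D c b w) (v : V5) : Prop := ∃ n ∈ P.nrm, n * c * n⁻¹ = P.lam v

theorem mov_base : P.Mov (1, 0) :=
  ⟨1, one_mem _, by rw [P.lam_c]; group⟩

/-- No power of `b` is conjugate to `c`. -/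
theorem not_conj {g : G} {k : ℕ} (h : g * c * g⁻¹ = b ^ k) : False := by
  refine P.no_cl _ (P.cl.conj D g⁻¹) ((Commute.conj_iff g).1 ?_)
  rw [h, show g * (g⁻¹ * w * g⁻¹⁻¹) * g⁻¹ = w by group]
  exact P.bw.symm.pow_right k

theorem mov_ne {v : V5} (h : P.Mov v) : v.1 ≠ 0 := fun e => by
  obtain ⟨n, -, hn⟩ := h
  refine P.not_conj (g := n) (k := v.2.val) ?_
  rw [hn]
  show c ^ v.1.val * b ^ v.2.val = _
  rw [e, ZMod.val_zero, pow_zero, one_mul]

theorem mov_neg {v : V5} (h : P.Mov v) : P.Mov (v.1, -v.2) := by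
  obtain ⟨τ, hτ⟩ := P.exists_tau
  obtain ⟨n, hnN, hn⟩ := h
  refine ⟨τ * n, mul_mem (P.acts_nrm hτ) hnN, ?_⟩
  rw [show τ * n * c * (τ * n)⁻¹ = τ * (n * c * n⁻¹) * τ⁻¹ by group, hn, P.acts_lam hτ]
  refine congrArg P.lam (Prod.ext ?_ ?_) <;> simp only [app]
  · ring
  · rw [show (4 : ZMod 5) = -1 by decide]; ring

theorem mov_scale {v : V5} (h : P.Mov v) {a : ZMod 5} (ha : a ≠ 0) : P.Mov (a * v.1, a * v.2) := by
  obtain ⟨m, hmN, i, hi, hm⟩ := P.exists_scale
  have step : ∀ {v : V5}, P.Mov v → P.Mov (i * v.1, i * v.2) := fun {v} ⟨n, hnN, hn⟩ => by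
    refine ⟨n * m, mul_mem hnN hmN, ?_⟩
    have h2 := P.lam_pow (1, 0) i.val
    rw [P.lam_c, ZMod.natCast_zmod_val, mul_one, mul_zero] at h2
    rw [show n * m * c * (n * m)⁻¹ = n * (m * c * m⁻¹) * n⁻¹ by group, hm, ← h2, ← conj_pow, hn,
      P.lam_pow, ZMod.natCast_zmod_val]
  obtain ⟨k, rfl⟩ := unit_pow i a hi ha
  generalize (k : ℕ) = k'
  clear ha
  induction k' with
  | zero => simpa using h
  | succ k' ih =>
    have := step ih
    rwa [show i ^ (k' + 1) * v.1 = i * (i ^ k' * v.1) by ring,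
      show i ^ (k' + 1) * v.2 = i * (i ^ k' * v.2) by ring]

theorem mov_slope {v : V5} : P.Mov v ↔ v.1 ≠ 0 ∧ P.Mov (1, v.2 * v.1 ^ 3) := by
  refine ⟨fun h => ⟨P.mov_ne h, ?_⟩, fun ⟨h0, h⟩ => ?_⟩
  · obtain ⟨h1, -⟩ := normalize v (P.mov_ne h)
    have := P.mov_scale h (pow_ne_zero 3 (P.mov_ne h))
    rwa [h1, mul_comm _ v.2] at this
  · obtain ⟨-, h2⟩ := normalize v h0
    have := P.mov_scale h h0
    rwa [mul_one, h2] at this

/-- The orbit of `c` and the order of the normalizer. -/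
theorem orbit : Nat.card ↥P.nrm = 600 ∧
    ((∀ v, P.Mov v ↔ v ∈ oset {0, 1, 4}) ∨ (∀ v, P.Mov v ↔ v ∈ oset {0, 2, 3})) := by
  classical
  haveI : Fact (Nat.Prime 5) := ⟨by norm_num⟩
  set f : Finset (ZMod 5) := Finset.univ.filter fun k => P.Mov (1, k) with hf
  have hmov : ∀ v, P.Mov v ↔ v ∈ oset f := fun v => by
    rw [mem_oset, hf, Finset.mem_filter, P.mov_slope]
    simp
  let e : {v : V5 // v ∈ oset f} → {g : G // ∃ n ∈ P.nrm, n * c * n⁻¹ = g} :=
    fun v => ⟨P.lam v.1, (hmov v.1).2 v.2⟩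
  have he : Function.Bijective e := by
    refine ⟨fun v v' h => Subtype.ext (P.lam_inj (congrArg Subtype.val h)), fun ⟨g, n, hnN, hn⟩ => ?_⟩
    obtain ⟨p, hp⟩ := P.nrm_acts hnN
    exact ⟨⟨p.1, (hmov _).1 ⟨n, hnN, hp.1⟩⟩, Subtype.ext (hp.1.symm.trans hn)⟩
  have hN : (oset f).card * 50 = Nat.card ↥P.nrm := by
    rw [← card_orbit P.nrm c (P := fun g => ∃ n ∈ P.nrm, n * c * n⁻¹ = g) fun _ => Iff.rfl,
      P.card_fix, ← Nat.card_eq_of_bijective e he, Nat.card_eq_finsetCard]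
  obtain ⟨s, hs, hG⟩ := P.order
  have h5 : Nat.card (Sylow 5 G) = P.nrm.index := P.syl.card_eq_index_normalizer
  have hmod := card_sylow_modEq_one 5 G
  rw [h5] at hmod
  have hmul := P.nrm.index_mul_card
  rw [← hN, hG] at hmul
  have hk : 2 * (oset f).card % 5 = 4 := by
    have e1 : P.nrm.index * (2 * (oset f).card) = 41803776 * s :=
      Nat.eq_of_mul_eq_mul_left (show 0 < 25 by norm_num) (by linarith)
    have e2 : 1 * (2 * (oset f).card) ≡ 1 * 4 [MOD 5] :=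
      ((hmod.mul_right _).symm.trans (by rw [e1])).trans
        ((show 41803776 ≡ 1 [MOD 5] by decide).mul (show s ≡ 4 [MOD 5] from hs))
    simpa [Nat.ModEq] using e2
  obtain ⟨h12, hor⟩ := slopes f (Finset.mem_filter.2 ⟨Finset.mem_univ _, P.mov_base⟩)
    (fun k hk => Finset.mem_filter.2 ⟨Finset.mem_univ _, P.mov_neg (Finset.mem_filter.1 hk).2⟩) hk
  refine ⟨by rw [← hN, h12], ?_⟩
  rcases hor with e | e <;> rw [e] at hmov
  exacts [Or.inl hmov, Or.inr hmov]

theorem square : Pair5 D c (b ^ 2) w := by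
  refine ⟨P.hc, ?_, P.bc.pow_left 2, P.cl, P.bw.pow_left 2, P.inv, P.no_cl, P.card_q, P.four, P.out,
    P.sylow, P.order⟩
  rw [Nat.Coprime.orderOf_pow (by rw [P.hb]; norm_num), P.hb]

theorem exists_good : ∃ b', ∃ P' : Pair5 D c b' w, ∀ v, P'.Mov v ↔ v ∈ oset {0, 1, 4} := by
  obtain ⟨-, h | h⟩ := P.orbit
  · exact ⟨b, P, h⟩
  refine ⟨b ^ 2, P.square, ?_⟩
  have key : ∀ v, P.square.lam v = P.lam (v.1, 2 * v.2) := fun v => by
    show c ^ v.1.val * (b ^ 2) ^ v.2.val = c ^ v.1.val * b ^ (2 * v.2).val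
    rw [← pow_mul, mul_right_inj, pow_eq_pow_iff_modEq, P.hb, ← ZMod.natCast_eq_natCast_iff]
    push_cast
    rw [ZMod.natCast_zmod_val, ZMod.natCast_zmod_val]
  have hsub : P.square.sub = P.sub := by
    refine Subgroup.eq_of_le_of_card_ge ?_ (by rw [P.card_sub, P.square.card_sub])
    rintro _ ⟨v, rfl⟩
    exact ⟨Multiplicative.ofAdd ((Multiplicative.toAdd v).1, 2 * (Multiplicative.toAdd v).2),
      (key _).symm⟩
  obtain ⟨n, hnN, hn⟩ := (h (1, 2)).2 (by decide)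
  have h1 : P.square.Mov (1, 1) :=
    ⟨n, by rwa [nrm, hsub], by rw [hn, key]; rfl⟩
  rcases P.square.orbit.2 with h' | h'
  · exact h'
  · exact absurd ((h' (1, 1)).1 h1) (by decide)

variable (hgood : ∀ v, P.Mov v ↔ v ∈ oset {0, 1, 4})
include hgood

theorem acts_rep {n : G} (hn : n ∈ P.nrm) : ∃ q : P24, P.Acts n (rep q) := by
  obtain ⟨p, hp⟩ := P.nrm_acts hn
  have himg : ∀ v, v ∈ oset {0, 1, 4} → app p v ∈ oset {0, 1, 4} := fun v hv => by
    rw [← hgood] at hv ⊢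
    obtain ⟨m, hmN, hm⟩ := hv
    refine ⟨n * m, mul_mem hn hmN, ?_⟩
    rw [show n * m * c * (n * m)⁻¹ = n * (m * c * m⁻¹) * n⁻¹ by group, hm, P.acts_lam hp]
  have hker : ∀ v, app p v = (0, 0) → v = (0, 0) := fun v hv => by
    have h1 := P.acts_lam hp v
    rw [hv, P.lam_zero, conj_eq_one_iff] at h1
    exact P.lam_one h1
  obtain ⟨q, rfl⟩ := rep_surj p ((app_basis p).1 ▸ himg _ (by decide)) (himg _ (by decide))
    (himg _ (by decide)) hker
  exact ⟨q, hp⟩

omit hgood in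
/-- The matrix of an element of the normalizer. -/
noncomputable def toP24 (P : Pair5 D c b w) (hgood : ∀ v, P.Mov v ↔ v ∈ oset {0, 1, 4}) :
    ↥P.nrm →* P24 :=
  MonoidHom.mk' (fun n => Classical.choose (P.acts_rep hgood n.2)) fun m n => rep_inj _ _
    (P.acts_unique (Classical.choose_spec (P.acts_rep hgood (m * n).2)) (by
      rw [rep_mul]
      exact P.acts_mul (Classical.choose_spec (P.acts_rep hgood m.2))
        (Classical.choose_spec (P.acts_rep hgood n.2))))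

theorem toP24_spec (n : ↥P.nrm) : P.Acts n (rep (P.toP24 hgood n)) :=
  Classical.choose_spec (P.acts_rep hgood n.2)

theorem toP24_ker : (P.toP24 hgood).ker = P.sub.subgroupOf P.nrm := by
  ext n
  rw [MonoidHom.mem_ker, Subgroup.mem_subgroupOf, ← P.acts_one, ← rep_one]
  exact ⟨fun e => e ▸ P.toP24_spec hgood n,
    fun h => rep_inj _ _ (P.acts_unique (P.toP24_spec hgood n) h)⟩

theorem toP24_surj : Function.Surjective (P.toP24 hgood) := by
  rw [← MonoidHom.range_eq_top]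
  refine Subgroup.eq_top_of_card_eq _ ?_
  have h := Subgroup.card_eq_card_quotient_mul_card_subgroup (P.toP24 hgood).ker
  rw [Nat.card_congr (QuotientGroup.quotientKerEquivRange (P.toP24 hgood)).toEquiv,
    P.toP24_ker hgood, Nat.card_congr (Subgroup.subgroupOfEquivOfLe
      (show P.sub ≤ P.nrm from Subgroup.le_normalizer)).toEquiv, P.card_sub, P.orbit.1] at h
  rw [show Nat.card P24 = 24 by
    rw [Nat.card_prod, Nat.card_congr Multiplicative.toAdd, Nat.card_zmod, Nat.card_perm, Nat.card_eq_fintype_card,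
      Fintype.card_fin]; rfl]
  omega

/-- Every element of order five is conjugate to a power of `c` or `b`. -/
theorem fusion {d : G} (hd : orderOf d = 5) :
    ∃ (g : G) (k : ℕ), ¬ 5 ∣ k ∧ (g * d * g⁻¹ = c ^ k ∨ g * d * g⁻¹ = b ^ k) := by
  haveI : Fact (Nat.Prime 5) := ⟨by norm_num⟩
  obtain ⟨g, hg⟩ := Cfsg.Lib.Sig.exists_conj_le_sylow P.syl
    (IsPGroup.of_card (n := 1) (by rw [Nat.card_zpowers, hd, pow_one]) :
      IsPGroup 5 (Subgroup.zpowers d))
  obtain ⟨v, hv⟩ := P.mem_sub.1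
    (show g * d * g⁻¹ ∈ P.sub from hg ⟨d, Subgroup.mem_zpowers d, rfl⟩)
  have hv0 : v ≠ (0, 0) := fun e => by
    rw [e, P.lam_zero, eq_comm, conj_eq_one_iff] at hv
    rw [hv, orderOf_one] at hd
    norm_num at hd
  obtain ⟨q, i, hqi⟩ := rep_reach v hv0
  obtain ⟨n, hn⟩ := P.toP24_surj hgood q
  have hact := hn ▸ P.toP24_spec hgood n
  have hne : i ≠ 0 := fun e => hv0 (by
    subst e
    rcases hqi with e | e <;> rw [← e] <;> simp [app])
  refine ⟨(n : G)⁻¹ * g, i.val, fun h5 => hne ((ZMod.val_eq_zero i).1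
    (Nat.eq_zero_of_dvd_of_lt h5 (ZMod.val_lt i))), ?_⟩
  have e : (n : G)⁻¹ * g * d * ((n : G)⁻¹ * g)⁻¹ = (n : G)⁻¹ * P.lam v * n := by rw [hv]; group
  rcases hqi with e1 | e1
  · left
    rw [e, ← e1, ← P.acts_lam hact]
    show (n : G)⁻¹ * (n * (c ^ i.val * b ^ (0 : ZMod 5).val) * (n : G)⁻¹) * n = _
    rw [ZMod.val_zero, pow_zero, mul_one]; group
  · right
    rw [e, ← e1, ← P.acts_lam hact]
    show (n : G)⁻¹ * (n * (c ^ (0 : ZMod 5).val * b ^ i.val) * (n : G)⁻¹) * n = _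
    rw [ZMod.val_zero, pow_zero, one_mul]; group

/-- The statement for any Sylow 5-subgroup. -/
theorem five (T : Sylow 5 G) :
    (∃ A B : Subgroup G, Nat.card A = 5 ∧ Nat.card B = 5 ∧
        (∀ g : G, A.map (MulAut.conj g).toMonoidHom ≠ B) ∧
        ∀ C : Subgroup G, Nat.card C = 5 → ∃ g : G, C.map (MulAut.conj g).toMonoidHom = A ∨
          C.map (MulAut.conj g).toMonoidHom = B) ∧
      Nat.card (T : Subgroup G) = 25 ∧
      Nat.card ↥(Subgroup.normalizer ((T : Subgroup G) : Set G)) = 600 ∧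
      Nonempty (↥(Subgroup.normalizer ((T : Subgroup G) : Set G)) ⧸
        (T : Subgroup G).subgroupOf (Subgroup.normalizer ((T : Subgroup G) : Set G)) ≃*
        Multiplicative (ZMod 4) × Equiv.Perm (Fin 3)) := by
  haveI : Fact (Nat.Prime 5) := ⟨by norm_num⟩
  refine ⟨⟨Subgroup.zpowers c, Subgroup.zpowers b, by rw [Nat.card_zpowers, P.hc],
    by rw [Nat.card_zpowers, P.hb], fun g hg => ?_, fun C hC => ?_⟩, P.sylow T, ?_⟩
  · have h : g * c * g⁻¹ ∈ Subgroup.zpowers b := hg ▸ ⟨c, Subgroup.mem_zpowers c, rfl⟩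
    obtain ⟨k, hk⟩ := mem_powers_iff_mem_zpowers.2 h
    exact P.not_conj (g := g) (k := k) hk.symm
  · haveI : IsCyclic C := isCyclic_of_prime_card hC
    obtain ⟨⟨d, hdC⟩, hd'⟩ := IsCyclic.exists_generator (α := C)
    have hdo : orderOf d = 5 := by
      rw [← hC, ← orderOf_eq_card_of_forall_mem_zpowers hd', Subgroup.orderOf_mk]
    obtain ⟨g, k, hk, h⟩ := P.fusion hgood hdo
    have hmap : ∀ {a : G}, orderOf a = 5 → g * d * g⁻¹ = a ^ k →
        C.map (MulAut.conj g).toMonoidHom = Subgroup.zpowers a := fun {a} ha e => by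
      have hle : Subgroup.zpowers (g * d * g⁻¹) ≤ C.map (MulAut.conj g).toMonoidHom :=
        Subgroup.zpowers_le.2 ⟨d, hdC, rfl⟩
      have ho : orderOf (g * d * g⁻¹) = 5 := by
        rw [show g * d * g⁻¹ = MulAut.conj g d from rfl, MulEquiv.orderOf_eq, hdo]
      rw [← Subgroup.eq_of_le_of_card_ge hle (by
        rw [Cfsg.Lib.Sig.card_map_conj, hC, Nat.card_zpowers, ho]), e]
      refine Subgroup.eq_of_le_of_card_ge (Subgroup.zpowers_le.2 (pow_mem (Subgroup.mem_zpowers a) k)) ?_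
      rw [Nat.card_zpowers, Nat.card_zpowers, ha, Nat.Coprime.orderOf_pow (by
        rw [ha]; exact (Nat.Prime.coprime_iff_not_dvd (by norm_num)).2 hk), ha]
    exact ⟨g, h.imp (hmap P.hc) (hmap P.hb)⟩
  obtain ⟨g, hg⟩ := MulAction.exists_smul_eq G P.syl T
  have hT : (T : Subgroup G) = P.sub.map (MulAut.conj g).toMonoidHom := by rw [← hg]; rfl
  have hN : Subgroup.normalizer ((T : Subgroup G) : Set G) =
      P.nrm.map (MulAut.conj g).toMonoidHom := by
    rw [hT]; exact (Cfsg.Lib.Sig.map_conj_normalizer P.sub g).symm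
  refine ⟨by rw [hN, Cfsg.Lib.Sig.card_map_conj, P.orbit.1], ?_⟩
  let e : ↥P.nrm ≃* ↥(Subgroup.normalizer ((T : Subgroup G) : Set G)) :=
    (P.nrm.equivMapOfInjective (MulAut.conj g).toMonoidHom (MulAut.conj g).injective).trans
      (MulEquiv.subgroupCongr hN.symm)
  let f : ↥(Subgroup.normalizer ((T : Subgroup G) : Set G)) →* P24 :=
    (P.toP24 hgood).comp e.symm.toMonoidHom
  have hf : f.ker = (T : Subgroup G).subgroupOf (Subgroup.normalizer ((T : Subgroup G) : Set G)) := by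
    ext m
    obtain ⟨n, rfl⟩ := e.surjective m
    rw [MonoidHom.mem_ker, Subgroup.mem_subgroupOf]
    show P.toP24 hgood (e.symm (e n)) = 1 ↔ MulAut.conj g (n : G) ∈ (T : Subgroup G)
    rw [e.symm_apply_apply, ← MonoidHom.mem_ker, P.toP24_ker hgood, Subgroup.mem_subgroupOf, hT]
    exact (Subgroup.mem_map_iff_mem (MulAut.conj g).injective).symm
  exact ⟨(QuotientGroup.quotientMulEquivOfEq hf.symm).trans
    (QuotientGroup.quotientKerEquivOfSurjective f ((P.toP24_surj hgood).comp e.symm.surjective))⟩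

end Pair5

end Cfsg.Lib.Extra.SuzLocal
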