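import Cfsg.Agent.Lib.Extra.SuzLocal.Centre
import Cfsg.Agent.Lib.ZStar.Main
import Cfsg.Agent.Lib.Invol.Isolated
import Cfsg.Agent.Lib.Sig.Small
import Mathlib.GroupTheory.FixedPointFree

/-!
# The four-group is normal in the centralizer of the second class

The centralizer `S` of `z` and `x` is a Sylow 2-subgroup of `C(x)`, the image of `x'` is isolated
modulo `x`, and the odd core is trivial, so `Z*` makes the image central.
-/

set_option autoImplicit false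
set_option linter.style.haveILetI false
set_option linter.unusedSectionVars false

namespace Cfsg.Lib.Extra.SuzLocal

open Cfsg Module Cfsg.Lib.Linear.Orth Cfsg.Lib.Extra.Wide
open scoped Matrix

variable {G : Type*} [Group G] {ι : Type} [Fintype ι] [DecidableEq ι] {D : Data G ι} [Finite G]

/-- An element of two-power order permuting three elements fixes one of them. -/
theorem two_perm {g a b c : G} (hab : a ≠ b) (hac : a ≠ c) (hbc : b ≠ c) {k : ℕ}
    (hg : g ^ 2 ^ k = 1)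
    (himg : ∀ s, (s = a ∨ s = b ∨ s = c) → (g * s * g⁻¹ = a ∨ g * s * g⁻¹ = b ∨ g * s * g⁻¹ = c)) :
    Commute g a ∨ Commute g b ∨ Commute g c := by
  have inj : ∀ {s s'}, g * s * g⁻¹ = g * s' * g⁻¹ → s = s' := fun e =>
    mul_left_cancel (mul_right_cancel e)
  have fix : ∀ {s}, g * s * g⁻¹ = s → Commute g s := fun e => mul_inv_eq_iff_eq_mul.1 e
  have three : ∀ {a b c}, g * a * g⁻¹ = b → g * b * g⁻¹ = c → g * c * g⁻¹ = a → Commute g a := by
    intro a b c ea eb ec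
    have hc3 : Commute (g ^ 3) a := mul_inv_eq_iff_eq_mul.1 (by
      calc g ^ 3 * a * (g ^ 3)⁻¹ = g * (g * (g * a * g⁻¹) * g⁻¹) * g⁻¹ := by
            rw [pow_three]; group
        _ = a := by rw [ea, eb, ec])
    have hcop : (3 : ℕ).Coprime (orderOf g) := by
      obtain ⟨j, -, hj⟩ := (Nat.dvd_prime_pow Nat.prime_two).1 (orderOf_dvd_of_pow_eq_one hg)
      rw [hj]; exact Nat.Coprime.pow_right j (by norm_num)
    obtain ⟨m, hm⟩ := exists_pow_eq_self_of_coprime hcop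
    rw [← hm]; exact hc3.pow_left m
  rcases himg a (Or.inl rfl) with ea | ea | ea
  · exact Or.inl (fix ea)
  · rcases himg b (Or.inr (Or.inl rfl)) with eb | eb | eb
    · rcases himg c (Or.inr (Or.inr rfl)) with ec | ec | ec
      · exact absurd (inj (eb.trans ec.symm)) hbc
      · exact absurd (inj (ea.trans ec.symm)) hac
      · exact Or.inr (Or.inr (fix ec))
    · exact Or.inr (Or.inl (fix eb))
    · rcases himg c (Or.inr (Or.inr rfl)) with ec | ec | ec
      · exact Or.inl (three ea eb ec)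
      · exact absurd (inj (ea.trans ec.symm)) hac
      · exact Or.inr (Or.inr (fix ec))
  · rcases himg b (Or.inr (Or.inl rfl)) with eb | eb | eb
    · rcases himg c (Or.inr (Or.inr rfl)) with ec | ec | ec
      · exact absurd (inj (eb.trans ec.symm)) hbc
      · exact Or.inl (three ea ec eb)
      · exact Or.inr (Or.inr (fix ec))
    · exact Or.inr (Or.inl (fix eb))
    · exact absurd (inj (ea.trans eb.symm)) hab

namespace Cfg

variable {x x' h t q1 q2 y1 y2 : G} {v u r1 r2 : ι → ZMod 2}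
  (K : Cfg D x x' h t q1 q2 y1 y2 v u r1 r2)

/-- The centralizer of `z`, `t` and `x`. -/
def Mgrp (_K : Cfg D x x' h t q1 q2 y1 y2 v u r1 r2) : Subgroup G :=
  Subgroup.centralizer ({D.z} : Set G) ⊓ Subgroup.centralizer ({t} : Set G) ⊓
    Subgroup.centralizer ({x} : Set G)

/-- The centralizer of `z` and `x`. -/
def Sgrp (_K : Cfg D x x' h t q1 q2 y1 y2 v u r1 r2) : Subgroup G :=
  Subgroup.centralizer ({D.z} : Set G) ⊓ Subgroup.centralizer ({x} : Set G)

include K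

theorem mem_M {c : G} : c ∈ K.Mgrp ↔ K.InM c := by
  simp only [Mgrp, Subgroup.mem_inf, Subgroup.mem_centralizer_singleton_iff, InM, Commute,
    SemiconjBy, and_assoc]

theorem mem_S {c : G} : c ∈ K.Sgrp ↔ Commute c D.z ∧ Commute c x := by
  simp only [Sgrp, Subgroup.mem_inf, Subgroup.mem_centralizer_singleton_iff, Commute, SemiconjBy]

theorem card_M : Nat.card ↥K.Mgrp = 256 := by
  let f : (ZMod 2 × ZMod 2) × (ZMod 2 × ZMod 2) × (ZMod 2 × ZMod 2) × (ZMod 2 × ZMod 2) → ↥K.Mgrp :=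
    fun e => ⟨D.zt t e.1.1 e.1.2 * (pick x e.2.1.1 * pick x' e.2.1.2) *
      elm q1 q2 y1 y2 e.2.2.1.1 e.2.2.1.2 e.2.2.2.1 e.2.2.2.2,
      K.mem_M.2 (K.M_mul (K.M_mul (K.A_M (K.pt.zt_A _ _)) (K.V_M (K.vp_mem _ _))) (K.el_M _ _ _ _))⟩
  have hf : Function.Bijective f := by
    refine ⟨?_, ?_⟩
    · rintro ⟨⟨a, b⟩, ⟨i', j'⟩, ⟨i, j⟩, k, l⟩ ⟨⟨a', b'⟩, ⟨m', n'⟩, ⟨m, n⟩, o, r⟩ e
      obtain ⟨h0, rfl, rfl, rfl, rfl, rfl, rfl⟩ :=
        K.inj (K.pt.zt_A a b) (K.pt.zt_A a' b') (congrArg Subtype.val e)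
      have h1 : D.zt t (a + a') (b + b') = 1 := by
        rw [← K.pt.zt_add, h0, K.pt.zt_add, bit_self, bit_self]; simp [Data.zt]
      obtain ⟨e1, e2⟩ := K.pt.zt_eq_one h1
      rw [bits_eq _ _ e1, bits_eq _ _ e2]
    · rintro ⟨c, hc⟩
      obtain ⟨a, i', j', i, j, k, l, ha, rfl⟩ := K.M_decomp (K.mem_M.1 hc)
      obtain ⟨a0, b0, rfl⟩ := K.pt.inA_zt ha
      exact ⟨⟨(a0, b0), (i', j'), (i, j), k, l⟩, rfl⟩
  rw [← Nat.card_eq_of_bijective f hf]
  simp [Nat.card_prod, Nat.card_zmod]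

theorem exists_n : ∃ n, Commute n D.z ∧ Commute n x ∧ n * t * n⁻¹ = D.z * t :=
  K.fr.exists_swap (Or.inl (by rw [frame_qv K.coord.six K.fr]; exact one_ne_zero)) K.x_not_cl

theorem s_cases {n c : G} (hnz : Commute n D.z) (hnx : Commute n x) (hnt : n * t * n⁻¹ = D.z * t)
    (hcz : Commute c D.z) (hcx : Commute c x) : K.InM c ∨ K.InM (n⁻¹ * c) := by
  rcases K.t_cases hcz hcx with e | e
  · exact Or.inl ⟨hcz, e, hcx⟩
  · refine Or.inr ⟨hnz.inv_left.mul_left hcz, mul_inv_eq_iff_eq_mul.1 ?_, hnx.inv_left.mul_left hcx⟩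
    calc n⁻¹ * c * t * (n⁻¹ * c)⁻¹ = n⁻¹ * (c * t * c⁻¹) * n := by group
      _ = n⁻¹ * (n * t * n⁻¹) * n := by rw [e, hnt]
      _ = t := by group

/-- Normalizing the centralizer of the pair. -/
def Nm (_K : Cfg D x x' h t q1 q2 y1 y2 v u r1 r2) (g : G) : Prop :=
  ∀ c, _K.InM c ↔ _K.InM (g * c * g⁻¹)

theorem nm_of {g a : G} (hg : Commute g x) (ha : a = D.z ∨ a = t ∨ a = D.z * t)
    (hga : g * a * g⁻¹ = D.z ∨ g * a * g⁻¹ = t ∨ g * a * g⁻¹ = D.z * t) : K.Nm g := by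
  intro c
  refine ⟨(K.move hg ha hga).2.2 c, fun hc => ?_⟩
  have := (K.move (g := g⁻¹) (a := g * a * g⁻¹) hg.inv_left hga
    (by rw [show g⁻¹ * (g * a * g⁻¹) * g⁻¹⁻¹ = a by group]; exact ha)).2.2 _ hc
  rwa [show g⁻¹ * (g * c * g⁻¹) * g⁻¹⁻¹ = c by group] at this

theorem z_of_central {y : G} (hy : K.InM y) (hc : ∀ c, K.InM c → Commute y c) : K.InZ y := by
  obtain ⟨m1, m2, -, -⟩ := K.q_M
  obtain ⟨b, i', j', i, j, k, l, hb, he⟩ := K.M_decomp hy
  exact K.Z_of_el hb he ((K.el_comm_q i j k l).1 (K.el_commute_of hb he m1 (hc _ m1)))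
    ((K.el_comm_q i j k l).2 (K.el_commute_of hb he m2 (hc _ m2)))

theorem nm_A {g a : G} (hg : K.Nm g) (ha : a = D.z ∨ a = t ∨ a = D.z * t) :
    g * a * g⁻¹ = D.z ∨ g * a * g⁻¹ = t ∨ g * a * g⁻¹ = D.z * t := by
  refine K.cl_Z (K.z_of_central ((hg a).1 (K.A_M (Or.inr ha))) fun c hc => ?_) ((K.A_cl ha).conj D g)
  have h1 : K.InM (g⁻¹ * c * g) := by
    rw [hg, show g * (g⁻¹ * c * g) * g⁻¹ = c by group]; exact hc
  exact (commute_conj g (K.A_comm (Or.inr ha) h1.1 h1.2.1).symm).symm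

theorem n_x' {n : G} (hnz : Commute n D.z) (hnx : Commute n x) (hnt : n * t * n⁻¹ = D.z * t) :
    n * x' * n⁻¹ = x * x' := by
  obtain ⟨⟨a, ha, he⟩, -⟩ := K.swap_facts hnz hnx hnt
  have hz : n * D.z * n⁻¹ = D.z := by rw [hnz.eq, mul_inv_cancel_right]
  have hV := K.V_invariant hnx (K.nm_of hnx (Or.inl rfl) (Or.inl hz)) (y := x') (Or.inr (Or.inr (Or.inl rfl)))
  rw [he] at hV ⊢
  obtain ⟨h1, h2, h3⟩ := K.ax_not_cl (Or.inl rfl : D.InA t (1 : G))
  rw [one_mul] at h1 h2 h3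
  have hkey : ∀ b, K.InV b → a = b → a = 1 := fun b hb e => by
    refine by_contra fun hne => ?_
    have hcl := K.A_cl (ha.resolve_left hne)
    rw [e] at hcl hne
    rcases hb with e' | e' | e' | e' <;> rw [e'] at hcl hne
    exacts [hne rfl, h1 hcl, h2 hcl, h3 hcl]
  suffices a = 1 by rw [this, one_mul]
  rcases hV with e | e | e | e
  · exact hkey _ (Or.inr (Or.inr (Or.inr rfl))) ((eq_inv_of_mul_eq_one_left e).trans
      (inv_eq_of_mul_eq_one_right (K.V_sq (Or.inr (Or.inr (Or.inr rfl))))))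
  · refine hkey x' (Or.inr (Or.inr (Or.inl rfl))) ?_
    have e' : a = x * (x * x')⁻¹ := eq_mul_inv_of_mul_eq e
    rw [e', inv_eq_of_mul_eq_one_right (K.V_sq (Or.inr (Or.inr (Or.inr rfl)))), ← mul_assoc, K.x_sq,
      one_mul]
  · refine hkey x (Or.inr (Or.inl rfl)) ?_
    have e' : a = x' * (x * x')⁻¹ := eq_mul_inv_of_mul_eq e
    rw [e', inv_eq_of_mul_eq_one_right (K.V_sq (Or.inr (Or.inr (Or.inr rfl)))), K.xx'.eq, ← mul_assoc,
      K.x'_sq, one_mul]
  · exact mul_eq_right.1 e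

theorem card_S : Nat.card ↥K.Sgrp = 512 := by
  obtain ⟨n, hnz, hnx, hnt⟩ := K.exists_n
  have hnM : ¬ K.InM n := fun h => by
    rw [h.2.1.eq, mul_inv_cancel_right] at hnt
    exact D.ctx.ne_one (mul_eq_right.1 hnt.symm)
  let f : ZMod 2 × ↥K.Mgrp → ↥K.Sgrp := fun e => ⟨pick n e.1 * e.2,
    K.mem_S.2 ⟨(pick_comm hnz e.1).mul_left (K.mem_M.1 e.2.2).1,
      (pick_comm hnx e.1).mul_left (K.mem_M.1 e.2.2).2.2⟩⟩
  have hf : Function.Bijective f := by
    refine ⟨?_, ?_⟩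
    · rintro ⟨i, m, hm⟩ ⟨j, m', hm'⟩ e
      have e' : pick n i * m = pick n j * m' := congrArg Subtype.val e
      rcases bit i with rfl | rfl <;> rcases bit j with rfl | rfl <;>
        simp only [pick_zero, pick_one, one_mul, mul_right_inj] at e'
      · subst e'; rfl
      · refine absurd ?_ hnM
        rw [show n = m * m'⁻¹ by rw [e']; group]
        exact K.M_mul (K.mem_M.1 hm) (K.M_inv (K.mem_M.1 hm'))
      · refine absurd ?_ hnM
        rw [show n = m' * m⁻¹ by rw [← e']; group]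
        exact K.M_mul (K.mem_M.1 hm') (K.M_inv (K.mem_M.1 hm))
      · subst e'; rfl
    · rintro ⟨c, hc⟩
      obtain ⟨h1, h2⟩ := K.mem_S.1 hc
      rcases K.s_cases hnz hnx hnt h1 h2 with hM | hM
      · exact ⟨(0, ⟨c, K.mem_M.2 hM⟩), Subtype.ext (by simp [f])⟩
      · exact ⟨(1, ⟨n⁻¹ * c, K.mem_M.2 hM⟩), Subtype.ext (by simp [f])⟩
  rw [← Nat.card_eq_of_bijective f hf, Nat.card_prod, Nat.card_zmod, K.card_M]

theorem S_two : IsPGroup 2 ↥K.Sgrp := IsPGroup.of_card (n := 9) (by rw [K.card_S]; norm_num)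

theorem M_two : IsPGroup 2 ↥K.Mgrp := IsPGroup.of_card (n := 8) (by rw [K.card_M]; norm_num)

theorem M_le : K.Mgrp ≤ Subgroup.centralizer ({x} : Set G) ⊓ Subgroup.centralizer ({x'} : Set G) :=
  fun c hc => ⟨Subgroup.mem_centralizer_singleton_iff.2 (K.mem_M.1 hc).2.2.eq,
    Subgroup.mem_centralizer_singleton_iff.2 (K.M_x' (K.mem_M.1 hc)).eq⟩

/-- The centralizer of the pair is maximal among the 2-groups of `C(x) ∩ C(x')`. -/
theorem max_M {P : Subgroup G} (hP : IsPGroup 2 P) (hle : K.Mgrp ≤ P)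
    (hPx : P ≤ Subgroup.centralizer ({x} : Set G) ⊓ Subgroup.centralizer ({x'} : Set G)) :
    P = K.Mgrp := by
  haveI : Fact (Nat.Prime 2) := ⟨Nat.prime_two⟩
  by_contra hne
  haveI := hP.isNilpotent
  have hlt : K.Mgrp.subgroupOf P < ⊤ := lt_top_iff_ne_top.2 fun h => hne
    (le_antisymm (Subgroup.subgroupOf_eq_top.1 h) hle)
  obtain ⟨g, hg, hgn⟩ := SetLike.exists_of_lt (Group.normalizerCondition_of_isNilpotent _ hlt)
  refine hgn (Subgroup.mem_subgroupOf.2 (K.mem_M.2 ?_))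
  have hgx : Commute (g : G) x := Subgroup.mem_centralizer_singleton_iff.1 (hPx g.2).1
  have hgx' : Commute (g : G) x' := Subgroup.mem_centralizer_singleton_iff.1 (hPx g.2).2
  obtain ⟨g, hgP⟩ := g
  have hnm : K.Nm g := fun c => by
    constructor
    · intro hc
      exact K.mem_M.1 ((Subgroup.mem_normalizer_iff.1 hg ⟨c, hle (K.mem_M.2 hc)⟩).1 (K.mem_M.2 hc))
    · intro hc
      have h1 : g⁻¹ * (g * c * g⁻¹) * g ∈ K.Mgrp :=
        (Subgroup.mem_normalizer_iff''.1 hg ⟨g * c * g⁻¹, hle (K.mem_M.2 hc)⟩).1 (K.mem_M.2 hc)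
      rw [show g⁻¹ * (g * c * g⁻¹) * g = c by group] at h1
      exact K.mem_M.1 h1
  obtain ⟨k, hk⟩ := hP ⟨g, hgP⟩
  have hk' : g ^ 2 ^ k = 1 := congrArg Subtype.val hk
  obtain ⟨a, ha, hga⟩ : ∃ a, (a = D.z ∨ a = t ∨ a = D.z * t) ∧ Commute g a := by
    rcases two_perm K.pt.ne_z.symm (fun e => K.pt.ne_one (left_eq_mul.1 e))
      (fun e => D.ctx.ne_one (right_eq_mul.1 e)) hk' (fun s hs => K.nm_A hnm hs) with e | e | e
    exacts [⟨_, Or.inl rfl, e⟩, ⟨_, Or.inr (Or.inl rfl), e⟩, ⟨_, Or.inr (Or.inr rfl), e⟩]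
  obtain ⟨e, hea, hex⟩ := to_pair K.coord.six K.fr (K.A_cl ha) K.x_sq K.fr.ne_one K.x_not_cl
    (K.A_comm (Or.inr ha) K.xz K.xt)
  have hex' : Commute e x := mul_inv_eq_iff_eq_mul.1 hex
  have henm := K.nm_of hex' ha (Or.inl hea)
  set g' := e * g * e⁻¹ with hg'
  have hg'z : Commute g' D.z := by rw [← hea]; exact (Commute.conj_iff e).2 hga
  have hg'x : Commute g' x := (hex'.mul_left hgx).mul_left hex'.inv_left
  have hg'c : Commute g' (e * x' * e⁻¹) := (Commute.conj_iff e).2 hgx'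
  have hg'x' : Commute g' x' := by
    obtain ⟨-, h2, h3⟩ := K.ax_not_cl (Or.inl rfl : D.InA t (1 : G))
    have hne1 : x' ≠ 1 := fun he => K.fr.ne_one (by
      rwa [← K.conj1, conj_eq_one_iff] at he)
    rcases K.V_invariant hex' henm (y := x') (Or.inr (Or.inr (Or.inl rfl))) with hc | hc | hc | hc
    · exact absurd (conj_eq_one_iff.1 hc) hne1
    · exfalso
      have hxx : x' = x := mul_left_cancel (mul_right_cancel (hc.trans hex.symm))
      have h2' := K.conj2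
      rw [hxx, K.x_sq] at h2'
      exact K.fr.ne_one (conj_eq_one_iff.1 h2')
    · rwa [hc] at hg'c
    · rw [hc] at hg'c
      have := hg'x.inv_right.mul_right hg'c
      rwa [← mul_assoc, inv_mul_cancel, one_mul] at this
  obtain ⟨n, hnz, hnx, hnt⟩ := K.exists_n
  rcases K.s_cases hnz hnx hnt hg'z hg'x with hM | hM
  · refine (henm g).2 ?_
    exact hM
  · exfalso
    have h1 := K.n_x' hnz hnx hnt
    have h2 : Commute (n⁻¹ * g') x' := K.M_x' hM
    have h3 : Commute n x' := by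
      have := hg'x'.mul_left h2.inv_left
      rwa [show g' * (n⁻¹ * g')⁻¹ = n by group] at this
    rw [h3.eq, mul_inv_cancel_right] at h1
    exact K.fr.ne_one (mul_eq_right.1 h1.symm)

theorem conj_into {P : Subgroup G} (hP : IsPGroup 2 P)
    (hPx : P ≤ Subgroup.centralizer ({x} : Set G) ⊓ Subgroup.centralizer ({x'} : Set G)) :
    ∃ d, Commute d x ∧ Commute d x' ∧ ∀ c ∈ P, K.InM (d * c * d⁻¹) := by
  haveI : Fact (Nat.Prime 2) := ⟨Nat.prime_two⟩
  set T := Subgroup.centralizer ({x} : Set G) ⊓ Subgroup.centralizer ({x'} : Set G)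
  obtain ⟨S0, hS0⟩ := (K.M_two.of_equiv (Subgroup.subgroupOfEquivOfLe K.M_le).symm).exists_le_sylow
  have hS : (S0 : Subgroup T).map T.subtype = K.Mgrp :=
    K.max_M (S0.2.map _) (fun c hc => ⟨⟨c, K.M_le hc⟩, hS0 hc, rfl⟩) (Subgroup.map_subtype_le _)
  obtain ⟨d, hd⟩ := Cfsg.Lib.Sig.exists_conj_le_sylow S0
    (hP.of_equiv (Subgroup.subgroupOfEquivOfLe hPx).symm)
  refine ⟨d, Subgroup.mem_centralizer_singleton_iff.1 d.2.1,
    Subgroup.mem_centralizer_singleton_iff.1 d.2.2, fun c hc => K.mem_M.1 ?_⟩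
  rw [← hS]
  exact ⟨d * ⟨c, hPx hc⟩ * d⁻¹, hd ⟨⟨c, hPx hc⟩, hc, rfl⟩, rfl⟩

/-- A conjugate of `x'` in `C(x)` centralizing `z` lies in the four-group. -/
theorem isolation {g : G} (hgx : Commute g x) (hgz : Commute (g * x' * g⁻¹) D.z) :
    K.InV (g * x' * g⁻¹) := by
  set y := g * x' * g⁻¹ with hy
  have hw : Commute (g⁻¹ * D.z * g) x' := commute_unconj g hgz.symm
  have hwx : Commute (g⁻¹ * D.z * g) x := (hgx.inv_left.mul_left K.xz.symm).mul_left hgx
  obtain ⟨e, hex, hex', heM⟩ := K.conj_into (P := Subgroup.zpowers (g⁻¹ * D.z * g))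
    (IsPGroup.of_card (n := 1) (by
      rw [Nat.card_zpowers, pow_one]
      refine orderOf_eq_prime ?_ fun e => D.ctx.ne_one ?_
      · rw [pow_two, show g⁻¹ * D.z * g * (g⁻¹ * D.z * g) = g⁻¹ * (D.z * D.z) * g by group,
          D.ctx.sq_z]; simp
      · calc D.z = g * (g⁻¹ * D.z * g) * g⁻¹ := by group
          _ = 1 := by rw [e]; group))
    ((Subgroup.zpowers_le).2 ⟨Subgroup.mem_centralizer_singleton_iff.2 hwx.eq,
      Subgroup.mem_centralizer_singleton_iff.2 hw.eq⟩)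
  set m := e * (g⁻¹ * D.z * g) * e⁻¹ with hm
  have hmM : K.InM m := heM _ (Subgroup.mem_zpowers _)
  have hmcl : D.Cl m := by
    have h1 := D.cl_z.conj D g⁻¹
    rw [inv_inv] at h1
    exact h1.conj D e
  set g2 := g * e⁻¹ with hg2
  have hg2x : Commute g2 x := hgx.mul_left hex.inv_left
  have hg2m : g2 * m * g2⁻¹ = D.z := by rw [hg2, hm]; group
  have hg2y : g2 * x' * g2⁻¹ = y := by
    rw [hy, hg2, show g * e⁻¹ * x' * (g * e⁻¹)⁻¹ = g * (e⁻¹ * x' * e) * g⁻¹ by group,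
      show e⁻¹ * x' * e = x' by rw [mul_assoc, ← hex'.eq, ← mul_assoc, inv_mul_cancel, one_mul]]
  have hzc := zc_conj hg2x hmcl ((K.V_iff.1 (Or.inr (Or.inr (Or.inl rfl)) : K.InV x')).2 m hmM hmcl)
  rw [hg2m, hg2y] at hzc
  have hyZ := (K.zc_A (Or.inl rfl)).1 hzc
  -- carry the centralizer of the pair back
  obtain ⟨d, hdx, hdx', hdM⟩ := K.conj_into (P := K.Mgrp.map (MulAut.conj g2⁻¹).toMonoidHom)
    (K.M_two.map _) (by
      rintro _ ⟨c, hc, rfl⟩
      have hc' := K.mem_M.1 hc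
      refine ⟨Subgroup.mem_centralizer_singleton_iff.2 ?_, Subgroup.mem_centralizer_singleton_iff.2 ?_⟩
      · exact ((hg2x.inv_left.mul_left hc'.2.2).mul_left hg2x.inv_left.inv_left).eq
      · show g2⁻¹ * c * g2⁻¹⁻¹ * x' = x' * (g2⁻¹ * c * g2⁻¹⁻¹)
        rw [inv_inv]
        exact (commute_unconj g2 (hg2y ▸ (K.Z_comm hyZ hc').symm : Commute c (g2 * x' * g2⁻¹))).eq)
  set g3 := d * g2⁻¹ with hg3
  have h3x : Commute g3 x := hdx.mul_left hg2x.inv_left
  have hto : ∀ c, K.InM c → K.InM (g3 * c * g3⁻¹) := fun c hc => by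
    have := hdM _ ⟨c, K.mem_M.2 hc, rfl⟩
    rw [hg3]
    convert this using 1
    show d * g2⁻¹ * c * (d * g2⁻¹)⁻¹ = d * (g2⁻¹ * c * g2⁻¹⁻¹) * d⁻¹
    group
  have hnm : K.Nm g3 := fun c => ⟨hto c, fun hc => by
    have hle : K.Mgrp.map (MulAut.conj g3).toMonoidHom ≤ K.Mgrp := by
      rintro _ ⟨b, hb, rfl⟩
      exact K.mem_M.2 (hto b (K.mem_M.1 hb))
    have heq := Subgroup.eq_of_le_of_card_ge hle
      (by rw [Subgroup.card_map_of_injective (MulAut.conj g3).injective])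
    obtain ⟨b, hb, hbe⟩ := heq.ge (K.mem_M.2 hc)
    have : b = c := mul_left_cancel (mul_right_cancel (show g3 * b * g3⁻¹ = g3 * c * g3⁻¹ from hbe))
    exact this ▸ K.mem_M.1 hb⟩
  have h3y : g3⁻¹ * x' * g3 = y := by
    rw [hg3, show (d * g2⁻¹)⁻¹ * x' * (d * g2⁻¹) = g2 * (d⁻¹ * x' * d) * g2⁻¹ by group,
      show d⁻¹ * x' * d = x' by rw [mul_assoc, ← hdx'.eq, ← mul_assoc, inv_mul_cancel, one_mul], hg2y]
  have := K.V_invariant h3x.inv_left (g := g3⁻¹) (fun c => by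
      rw [hnm (g3⁻¹ * c * g3⁻¹⁻¹), show g3 * (g3⁻¹ * c * g3⁻¹⁻¹) * g3⁻¹ = c by group])
    (y := x') (Or.inr (Or.inr (Or.inl rfl)))
  rwa [inv_inv, h3y] at this

theorem max_S {P : Subgroup G} (hP : IsPGroup 2 P) (hle : K.Sgrp ≤ P)
    (hPx : P ≤ Subgroup.centralizer ({x} : Set G)) : P = K.Sgrp := by
  obtain ⟨S0, hS0, hS0x, hS0z, -, -, hmax⟩ :=
    K.fr.exists_sylow (Or.inl (by rw [frame_qv K.coord.six K.fr]; exact one_ne_zero))
  have hS0S : S0 ≤ K.Sgrp := le_inf hS0z hS0x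
  have e : K.Sgrp = S0 := hmax _ K.S_two hS0S inf_le_right
  rw [hmax P hP (hS0S.trans hle) hPx, e]

theorem sylow_commute {g : G} (hgx : Commute g x) {k : ℕ} (hg : g ^ 2 ^ k = 1) :
    ∃ d, Commute d x ∧ Commute (d * g * d⁻¹) D.z := by
  haveI : Fact (Nat.Prime 2) := ⟨Nat.prime_two⟩
  set H := Subgroup.centralizer ({x} : Set G)
  have hSH : K.Sgrp ≤ H := inf_le_right
  obtain ⟨S0, hS0⟩ := (K.S_two.of_equiv (Subgroup.subgroupOfEquivOfLe hSH).symm).exists_le_sylow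
  have hS : (S0 : Subgroup H).map H.subtype = K.Sgrp :=
    K.max_S (S0.2.map _) (fun c hc => ⟨⟨c, hSH hc⟩, hS0 hc, rfl⟩) (Subgroup.map_subtype_le _)
  let g' : H := ⟨g, Subgroup.mem_centralizer_singleton_iff.2 hgx.eq⟩
  have hP : IsPGroup 2 (Subgroup.zpowers g') := fun ⟨a, ha⟩ => by
    obtain ⟨i, rfl⟩ := Subgroup.mem_zpowers_iff.1 ha
    refine ⟨k, Subtype.ext (Subtype.ext ?_)⟩
    show (g ^ i) ^ 2 ^ k = 1
    rw [← zpow_natCast, ← zpow_mul, mul_comm, zpow_mul, zpow_natCast, hg, one_zpow]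
  obtain ⟨d, hd⟩ := Cfsg.Lib.Sig.exists_conj_le_sylow S0 hP
  refine ⟨d, Subgroup.mem_centralizer_singleton_iff.1 d.2, (K.mem_S.1 ?_).1⟩
  rw [← hS]
  exact ⟨d * g' * d⁻¹, hd ⟨g', Subgroup.mem_zpowers _, rfl⟩, rfl⟩

theorem A_two {a g : G} (ha : a = D.z ∨ a = t ∨ a = D.z * t) (hga : Commute g a) (hgx : Commute g x) :
    ∃ k, g ^ 2 ^ k = 1 := by
  obtain ⟨e, hea, hex⟩ := to_pair K.coord.six K.fr (K.A_cl ha) K.x_sq K.fr.ne_one K.x_not_cl
    (K.A_comm (Or.inr ha) K.xz K.xt)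
  have hex' : Commute e x := mul_inv_eq_iff_eq_mul.1 hex
  obtain ⟨k, hk⟩ := K.S_two ⟨e * g * e⁻¹, K.mem_S.2 ⟨by rw [← hea]; exact (Commute.conj_iff e).2 hga,
    (hex'.mul_left hgx).mul_left hex'.inv_left⟩⟩
  refine ⟨k, ?_⟩
  have hk' : (e * g * e⁻¹) ^ 2 ^ k = 1 := congrArg Subtype.val hk
  rwa [conj_pow, conj_eq_one_iff] at hk'

/-- The four-group is normal in `C(x)`. -/
theorem V_normal {g : G} (hgx : Commute g x) :
    g * x' * g⁻¹ = x' ∨ g * x' * g⁻¹ = x * x' := by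
  classical
  haveI : Fact (Nat.Prime 2) := ⟨Nat.prime_two⟩
  set H := Subgroup.centralizer ({x} : Set G)
  have hmem : ∀ {c : G}, Commute c x → c ∈ H := fun hc => Subgroup.mem_centralizer_singleton_iff.2 hc.eq
  have hcomm : ∀ c : H, Commute (c : G) x := fun c => Subgroup.mem_centralizer_singleton_iff.1 c.2
  let xH : H := ⟨x, hmem (Commute.refl x)⟩
  let N : Subgroup H := Subgroup.zpowers xH
  have hN : ∀ c : H, c ∈ N ↔ (c : G) = 1 ∨ (c : G) = x := by
    intro c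
    constructor
    · intro hc
      obtain ⟨i, rfl⟩ := Subgroup.mem_zpowers_iff.1 hc
      show (x ^ i : G) = 1 ∨ (x ^ i : G) = x
      rw [← zpow_mod_orderOf x i, K.fr.orderOf]
      rcases Int.emod_two_eq i with e | e <;> simp [e]
    · rintro (e | e)
      · rw [show c = 1 from Subtype.ext e]; exact one_mem _
      · rw [show c = xH from Subtype.ext e]; exact Subgroup.mem_zpowers _
  haveI : N.Normal := ⟨fun c hc d => (hN _).2 (by
    show (d : G) * c * (d : G)⁻¹ = 1 ∨ (d : G) * c * (d : G)⁻¹ = x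
    rcases (hN c).1 hc with e | e <;> rw [e]
    · left; group
    · right; rw [(hcomm d).eq, mul_inv_cancel_right])⟩
  let π := QuotientGroup.mk' N
  let x'H : H := ⟨x', hmem K.xx'.symm⟩
  have hker : ∀ {c : H}, π c = 1 → (c : G) = 1 ∨ (c : G) = x := fun hc =>
    (hN _).1 ((QuotientGroup.eq_one_iff _).1 hc)
  have hne : ¬ D.Cl x' ∧ x' ≠ x ∧ x' ≠ 1 := by
    obtain ⟨-, h2, -⟩ := K.ax_not_cl (Or.inl rfl : D.InA t (1 : G))
    rw [one_mul] at h2
    refine ⟨h2, fun e => ?_, fun e => ?_⟩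
    · have h2' := K.conj2
      rw [e, K.x_sq] at h2'
      exact K.fr.ne_one (conj_eq_one_iff.1 h2')
    · rw [← K.conj1, conj_eq_one_iff] at e
      exact K.fr.ne_one e
  have hord : orderOf (π x'H) = 2 := by
    refine orderOf_eq_prime ?_ fun e => (hker e).elim hne.2.2 hne.2.1
    rw [pow_two, ← map_mul, show x'H * x'H = 1 from Subtype.ext K.x'_sq, map_one]
  -- a Sylow subgroup of the quotient
  have hSH : K.Sgrp ≤ H := inf_le_right
  obtain ⟨S, hS⟩ :=
    (((K.S_two.of_equiv (Subgroup.subgroupOfEquivOfLe hSH).symm).map π)).exists_le_sylow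
  have hN2 : IsPGroup 2 N := IsPGroup.of_card (n := 1) (by
    rw [Nat.card_zpowers, pow_one, ← Subgroup.orderOf_coe]; exact K.fr.orderOf)
  have hpre : ∀ c : H, π c ∈ (S : Subgroup _) → Commute (c : G) D.z := by
    intro c hc
    have hP : IsPGroup 2 ((S : Subgroup _).comap π) :=
      S.2.comap_of_ker_isPGroup π (by rw [QuotientGroup.ker_mk']; exact hN2)
    have e := K.max_S (hP.map H.subtype)
      (fun s hs => ⟨⟨s, hSH hs⟩, hS ⟨⟨s, hSH hs⟩, hs, rfl⟩, rfl⟩) (Subgroup.map_subtype_le _)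
    have hm : (c : G) ∈ ((S : Subgroup _).comap π).map H.subtype := ⟨c, hc, rfl⟩
    rw [e] at hm
    exact (K.mem_S.1 hm).1
  have hiso : IsIsolatedInvolution (π x'H) := Cfsg.Lib.Invol.isolated_of_sylow S hord fun g hg => by
    obtain ⟨g, rfl⟩ := QuotientGroup.mk'_surjective N g
    rw [← map_inv, ← map_mul, ← map_mul] at hg ⊢
    have hyz := hpre _ hg
    rcases K.isolation (hcomm g) hyz with e | e | e | e
    · exact absurd (conj_eq_one_iff.1 e) hne.2.2
    · refine absurd (mul_left_cancel (mul_right_cancel (e.trans ?_))) hne.2.1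
      rw [(hcomm g).eq, mul_inv_cancel_right]
    · exact congrArg π (Subtype.ext e)
    · rw [show g * x'H * g⁻¹ = xH * x'H from Subtype.ext e, map_mul,
        show π xH = 1 from (QuotientGroup.eq_one_iff _).2 (Subgroup.mem_zpowers _), one_mul]
  -- the odd core is trivial
  have hO : Cfsg.oddCore (H ⧸ N) = ⊥ := by
    haveI : (Cfsg.oddCore (H ⧸ N)).Normal := by unfold Cfsg.oddCore; infer_instance
    have hodd := Cfsg.Lib.ZStar.odd_card_oddCore (G := H ⧸ N)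
    have hinv : ∀ (a : G) (ha : a = D.z ∨ a = t ∨ a = D.z * t), ∀ o ∈ Cfsg.oddCore (H ⧸ N),
        π ⟨a, hmem (K.A_comm (Or.inr ha) K.xz K.xt)⟩ * o *
          (π ⟨a, hmem (K.A_comm (Or.inr ha) K.xz K.xt)⟩)⁻¹ = o⁻¹ := by
      intro a ha o ho
      set aH : H := ⟨a, hmem (K.A_comm (Or.inr ha) K.xz K.xt)⟩
      let φ : Cfsg.oddCore (H ⧸ N) →* Cfsg.oddCore (H ⧸ N) :=
        (MulAut.conjNormal (π aH)).toMonoidHom
      have hφ : ∀ b, ((φ b : Cfsg.oddCore (H ⧸ N)) : H ⧸ N) = π aH * b * (π aH)⁻¹ := fun b =>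
        MulAut.conjNormal_apply _ _
      have ha2 : a * a = 1 := (K.A_cl ha).sq D
      have hinvol : Function.Involutive φ := fun b => Subtype.ext (by
        rw [hφ, hφ, show π aH * (π aH * (b : H ⧸ N) * (π aH)⁻¹) * (π aH)⁻¹ =
          π aH * π aH * b * (π aH * π aH)⁻¹ by group, ← map_mul,
          show aH * aH = 1 from Subtype.ext ha2, map_one]; simp)
      have hfree : MonoidHom.FixedPointFree φ := fun b hb => by
        obtain ⟨b, hbO⟩ := b
        obtain ⟨g, rfl⟩ := QuotientGroup.mk'_surjective N b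
        have e : π aH * π g * (π aH)⁻¹ = π g := by
          rw [← hφ ⟨π g, hbO⟩, hb]
        rw [mul_inv_eq_iff_eq_mul, ← map_mul, ← map_mul] at e
        have e' := hker (c := (g * aH)⁻¹ * (aH * g)) (by rw [map_mul, map_inv, ← e, inv_mul_cancel])
        have hga : Commute (g : G) a := by
          rcases e' with e' | e'
          · exact inv_mul_eq_one.1 e'
          · exfalso
            have e2 : (g : G)⁻¹ * a * g = a * x := by
              calc (g : G)⁻¹ * a * g = a * ((g * a)⁻¹ * (a * g)) := by group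
                _ = a * x := by rw [show ((g : G) * a)⁻¹ * (a * g) = x from e']
            refine (K.ax_not_cl (Or.inr ha)).1 ?_
            rw [← e2]
            simpa using (K.A_cl ha).conj D (g : G)⁻¹
        obtain ⟨k, hk⟩ := K.A_two ha hga (hcomm g)
        have h1 : (π g) ^ 2 ^ k = 1 := by
          rw [← map_pow, show g ^ 2 ^ k = 1 from Subtype.ext hk, map_one]
        have hd : orderOf (π g) ∣ 2 ^ k := orderOf_dvd_of_pow_eq_one h1
        have ho2 : orderOf (π g) ∣ Nat.card (Cfsg.oddCore (H ⧸ N)) := by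
          rw [← Subgroup.orderOf_mk (π g) hbO]; exact orderOf_dvd_natCard _
        have h1' : orderOf (π g) = 1 := Nat.eq_one_of_dvd_coprimes
          (Nat.Coprime.pow_left k (Nat.coprime_two_left.2 hodd)) hd ho2
        exact Subtype.ext (orderOf_eq_one_iff.1 h1')
      have := congrFun (hfree.coe_eq_inv_of_involutive hinvol) ⟨o, ho⟩
      exact (hφ ⟨o, ho⟩).symm.trans (congrArg Subtype.val this)
    refine (Subgroup.eq_bot_iff_forall _).2 fun o ho => ?_
    have hz := hinv D.z (Or.inl rfl) o ho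
    have ht' := hinv t (Or.inr (Or.inl rfl)) o⁻¹ (inv_mem ho)
    have hzt := hinv (D.z * t) (Or.inr (Or.inr rfl)) o ho
    rw [show (⟨D.z * t, hmem (K.A_comm (Or.inr (Or.inr (Or.inr rfl))) K.xz K.xt)⟩ : H) =
      ⟨t, hmem (K.A_comm (Or.inr (Or.inr (Or.inl rfl))) K.xz K.xt)⟩ *
        ⟨D.z, hmem (K.A_comm (Or.inr (Or.inl rfl)) K.xz K.xt)⟩ from Subtype.ext K.pt.comm_zt.eq,
      map_mul] at hzt
    generalize π (⟨D.z, _⟩ : H) = a at hz hzt
    generalize π (⟨t, _⟩ : H) = b at ht' hzt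
    rw [inv_inv] at ht'
    have e : o = o⁻¹ := by
      rw [← hzt, show b * a * o * (b * a)⁻¹ = b * (a * o * a⁻¹) * b⁻¹ by group, hz, ht']
    have h2 : o ^ 2 = 1 := by rw [pow_two]; nth_rewrite 1 [e]; exact inv_mul_cancel o
    have ho2 : orderOf o ∣ Nat.card (Cfsg.oddCore (H ⧸ N)) := by
      rw [← Subgroup.orderOf_mk o ho]; exact orderOf_dvd_natCard _
    exact orderOf_eq_one_iff.1 (Nat.eq_one_of_dvd_coprimes (Nat.coprime_two_left.2 hodd)
      (orderOf_dvd_of_pow_eq_one h2) ho2)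
  have hc := Subgroup.mem_center_iff.1 (Cfsg.Lib.ZStar.mem_center_of_isolated hO hiso)
    (π ⟨g, hmem hgx⟩)
  rw [← map_mul, ← map_mul] at hc
  have e' := hker (c := (x'H * ⟨g, hmem hgx⟩)⁻¹ * (⟨g, hmem hgx⟩ * x'H)) (by
    rw [map_mul, map_inv, hc, inv_mul_cancel])
  rcases e' with e' | e'
  · left
    have : g * x' = x' * g := (inv_mul_eq_one.1 e').symm
    rw [this, mul_inv_cancel_right]
  · right
    have e2 : g * x' = x' * g * x := by
      calc g * x' = x' * g * ((x' * g)⁻¹ * (g * x')) := by group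
        _ = x' * g * x := by rw [show (x' * g)⁻¹ * (g * x') = x from e']
    rw [e2, mul_assoc x' g x, hgx.eq, ← mul_assoc, ← K.xx'.eq, mul_inv_cancel_right]

end Cfg

end Cfsg.Lib.Extra.SuzLocal
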