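import Cfsg.Agent.Lib.Extra.SuzLocal.Kern
import Cfsg.Agent.Lib.CIT.Main
import Cfsg.Agent.Lib.CIT.Classify
import Cfsg.Agent.Lib.CIT.NonSolvIndex
import Cfsg.Agent.Lib.CIT.TICount
import Cfsg.Agent.Lib.Solv.KW.Basic
import Cfsg.Agent.Lib.Concrete.MTwentyOne
import Cfsg.Agent.S0820

/-!
# The centralizer of the second class

`C(x)` has the centralizer `K` of the four-group with index two, and `K` modulo the four-group is
`PSL(3, 4)`, recognised by its 2-group centralizers of involutions.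
-/

set_option autoImplicit false
set_option linter.style.haveILetI false
set_option linter.unusedSectionVars false

namespace Cfsg.Lib.Extra.SuzLocal

open Cfsg Module Cfsg.Lib.Linear.Orth Cfsg.Lib.Extra.Wide
open scoped Matrix

/-- A CIT group with two commuting involutions has trivial odd core. -/
theorem oddCore_bot_of_four {X : Type*} [Group X] [Finite X]
    (hX : CIT.IsCIT X) {a b : X} (ha : orderOf a = 2) (hb : orderOf b = 2) (hab : Commute a b)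
    (hne : a ≠ b) : Cfsg.oddCore X = ⊥ := by
  haveI : Fact (Nat.Prime 2) := ⟨Nat.prime_two⟩
  haveI : (Cfsg.oddCore X).Normal := by unfold Cfsg.oddCore; infer_instance
  have hodd := Cfsg.Lib.ZStar.odd_card_oddCore (G := X)
  have hinv : ∀ {c : X}, orderOf c = 2 → ∀ o ∈ Cfsg.oddCore X, c * o * c⁻¹ = o⁻¹ := by
    intro c hc o ho
    let φ : Cfsg.oddCore X →* Cfsg.oddCore X := (MulAut.conjNormal c).toMonoidHom
    have hφ : ∀ d, ((φ d : Cfsg.oddCore X) : X) = c * d * c⁻¹ := fun d => MulAut.conjNormal_apply _ _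
    have hcc : c * c = 1 := by rw [← pow_two, ← hc, pow_orderOf_eq_one]
    have hinvol : Function.Involutive φ := fun d => Subtype.ext (by
      rw [hφ, hφ, show c * (c * (d : X) * c⁻¹) * c⁻¹ = c * c * d * (c * c)⁻¹ by group, hcc]; simp)
    have hfree : MonoidHom.FixedPointFree φ := fun d hd => by
      have e : c * (d : X) * c⁻¹ = d := by rw [← hφ, hd]
      obtain ⟨k, hk⟩ := hX c hc ⟨(d : X), Subgroup.mem_centralizer_singleton_iff.2
        (mul_inv_eq_iff_eq_mul.1 e).symm⟩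
      have hk' : (d : X) ^ 2 ^ k = 1 := congrArg Subtype.val hk
      exact Subtype.ext (orderOf_eq_one_iff.1 (Nat.eq_one_of_dvd_coprimes
        (Nat.Coprime.pow_left k (Nat.coprime_two_left.2 hodd)) (orderOf_dvd_of_pow_eq_one hk')
        (Subgroup.orderOf_dvd_natCard _ d.2)))
    exact (hφ ⟨o, ho⟩).symm.trans
      (congrArg Subtype.val (congrFun (hfree.coe_eq_inv_of_involutive hinvol) ⟨o, ho⟩))
  have hab2 : orderOf (a * b) = 2 := orderOf_eq_prime (by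
    rw [hab.mul_pow, ← ha, pow_orderOf_eq_one, ha, ← hb, pow_orderOf_eq_one, one_mul]) fun e => hne (by
      have hbb : b * b = 1 := by rw [← pow_two, ← hb, pow_orderOf_eq_one]
      rw [eq_inv_of_mul_eq_one_left e, inv_eq_of_mul_eq_one_right hbb])
  refine (Subgroup.eq_bot_iff_forall _).2 fun o ho => ?_
  have e : o = o⁻¹ := by
    rw [← hinv hab2 o ho, show a * b * o * (a * b)⁻¹ = a * (b * o * b⁻¹) * a⁻¹ by group, hinv hb o ho,
      hinv ha _ (inv_mem ho), inv_inv]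
  have h2 : o ^ 2 = 1 := by rw [pow_two]; nth_rewrite 1 [e]; exact inv_mul_cancel o
  exact orderOf_eq_one_iff.1 (Nat.eq_one_of_dvd_coprimes (Nat.coprime_two_left.2 hodd)
    (orderOf_dvd_of_pow_eq_one h2) (Subgroup.orderOf_dvd_natCard _ ho))

/-- A dihedral 2-group of order at least eight has at most one central involution. -/
theorem dihedral_central {k : ℕ} (hk : 2 ≤ k) {a b : DihedralGroup (2 ^ k)}
    (ha : ∀ g, Commute a g) (hb : ∀ g, Commute b g) (ha1 : a ≠ 1) (hb1 : b ≠ 1) : a = b := by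
  haveI : NeZero (2 ^ k) := ⟨by positivity⟩
  have h4 : 4 ≤ 2 ^ k := by
    calc 4 = 2 ^ 2 := rfl
      _ ≤ 2 ^ k := Nat.pow_le_pow_right two_pos hk
  have key : ∀ {a : DihedralGroup (2 ^ k)}, (∀ g, Commute a g) → a ≠ 1 →
      ∃ i : ZMod (2 ^ k), a = DihedralGroup.r i ∧ i.val * 2 = 2 ^ k := by
    intro a ha ha1
    cases a with
    | r i =>
      refine ⟨i, rfl, ?_⟩
      have h := (ha (DihedralGroup.sr 0)).eq
      simp only [DihedralGroup.r_mul_sr, DihedralGroup.sr_mul_r, DihedralGroup.sr.injEq] at h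
      have h2 : i + i = 0 := by linear_combination -h
      have hne : i ≠ 0 := fun e => ha1 (by rw [e]; rfl)
      have hv : i.val ≠ 0 := fun e => hne (ZMod.val_eq_zero i |>.1 e)
      have := congrArg ZMod.val h2
      rw [ZMod.val_add, ZMod.val_zero] at this
      have hlt := ZMod.val_lt i
      obtain ⟨c, hc⟩ := Nat.dvd_of_mod_eq_zero this
      have : c = 1 := by
        rcases c with _ | _ | c
        · omega
        · rfl
        · exfalso; nlinarith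
      subst this
      omega
    | sr i =>
      exfalso
      have h := (ha (DihedralGroup.r 1)).eq
      simp only [DihedralGroup.r_mul_sr, DihedralGroup.sr_mul_r, DihedralGroup.sr.injEq] at h
      have h2 : ((2 : ℕ) : ZMod (2 ^ k)) = 0 := by push_cast; linear_combination h
      rw [ZMod.natCast_eq_zero_iff] at h2
      have := Nat.le_of_dvd two_pos h2
      omega
  obtain ⟨i, rfl, hi⟩ := key ha ha1
  obtain ⟨j, rfl, hj⟩ := key hb hb1
  rw [ZMod.val_injective _ (show i.val = j.val by omega)]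

universe u

variable {G : Type u} [Group G] {ι : Type} [Fintype ι] [DecidableEq ι] {D : Data G ι} [Finite G]

namespace Cfg

variable {x x' h t q1 q2 y1 y2 : G} {v u r1 r2 : ι → ZMod 2}
  (K : Cfg D x x' h t q1 q2 y1 y2 v u r1 r2)

/-- The centralizer of the four-group. -/
def Kgrp (_K : Cfg D x x' h t q1 q2 y1 y2 v u r1 r2) : Subgroup G :=
  Subgroup.centralizer ({x} : Set G) ⊓ Subgroup.centralizer ({x'} : Set G)

include K

theorem mem_K {c : G} : c ∈ K.Kgrp ↔ Commute c x ∧ Commute c x' := by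
  simp only [Kgrp, Subgroup.mem_inf, Subgroup.mem_centralizer_singleton_iff, Commute, SemiconjBy]

theorem V_mul {a b : G} (ha : K.InV a) (hb : K.InV b) : K.InV (a * b) := by
  have h1 := K.x_sq
  have h2 := K.x'_sq
  have h3 := K.xx'.eq
  have e1 : x * (x * x') = x' := by rw [← mul_assoc, h1, one_mul]
  have e2 : x' * (x * x') = x := by rw [h3, ← mul_assoc, h2, one_mul]
  have e3 : x * x' * x = x' := by rw [mul_assoc, ← h3, e1]
  have e4 : x * x' * x' = x := by rw [mul_assoc, h2, mul_one]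
  have e5 : x * x' * (x * x') = 1 := K.V_sq (Or.inr (Or.inr (Or.inr rfl)))
  rcases ha with rfl | rfl | rfl | rfl <;> rcases hb with rfl | rfl | rfl | rfl <;>
    simp only [one_mul, mul_one, h1, h2, ← h3, e1, e2, e3, e4, e5, InV, true_or, or_true]

theorem V_inv {a : G} (ha : K.InV a) : K.InV a⁻¹ := by
  rw [inv_eq_of_mul_eq_one_right (K.V_sq ha)]; exact ha

omit K in
/-- The four-group as a subgroup. -/
def Vgrp (K : Cfg D x x' h t q1 q2 y1 y2 v u r1 r2) : Subgroup G where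
  carrier := {a | K.InV a}
  one_mem' := Or.inl rfl
  mul_mem' := K.V_mul
  inv_mem' := K.V_inv

theorem A_inf_V {a : G} (ha : D.InA t a) (hV : K.InV a) : a = 1 := by
  refine by_contra fun hne => ?_
  obtain ⟨h1, h2, h3⟩ := K.ax_not_cl (Or.inl rfl : D.InA t (1 : G))
  rw [one_mul] at h1 h2 h3
  have hcl := K.A_cl (ha.resolve_left hne)
  rcases hV with e | e | e | e <;> rw [e] at hcl hne
  exacts [hne rfl, h1 hcl, h2 hcl, h3 hcl]

theorem el_sq_A (i j k l : ZMod 2) :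
    D.InA t (elm q1 q2 y1 y2 i j k l * elm q1 q2 y1 y2 i j k l) := by
  obtain ⟨hq, hqc⟩ := K.qi_facts i j
  obtain ⟨hy, hya, hyp⟩ := K.yi_facts k l
  simp only [elm]
  generalize pick q1 i * pick q2 j = q at hq hqc ⊢
  generalize pick y1 k * pick y2 l = y at hy hya ⊢
  obtain ⟨c, d, e⟩ : ∃ c d, q * y * (q * y) = D.zt t c d := by
    refine ⟨D.B (D.cls q) (k • r1 + l • r2) + D.qf (D.cls q),
      D.B (D.cls q) (k • r1 + l • r2) + D.qf (k • r1 + l • r2), ?_⟩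
    calc q * y * (q * y) = q * (y * q) * y := by group
      _ = D.zt t (D.B (D.cls q) (k • r1 + l • r2)) (D.B (D.cls q) (k • r1 + l • r2)) * (q * q) *
          (y * y) := by
        rw [K.pt.swap_pq_cq hq hy hyp hya, ← mul_assoc q,
          ← (K.pt.A_commute_cq (K.pt.zt_A _ _) hq).eq]
        group
      _ = _ := by rw [K.pt.sq_cq hq, K.pt.sq_pq hy hyp hya, K.pt.zt_add, K.pt.zt_add]; simp
  rw [e]; exact K.pt.zt_A _ _

theorem cl_K {w : G} (hw : D.Cl w) (hwx : Commute w x) : w ∈ K.Kgrp := by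
  refine K.mem_K.2 ⟨hwx, ?_⟩
  obtain ⟨g, hgw, hgx⟩ := to_pair K.coord.six K.fr hw K.x_sq K.fr.ne_one K.x_not_cl hwx
  refine (Commute.conj_iff g).1 ?_
  rw [hgw]
  rcases K.V_normal (mul_inv_eq_iff_eq_mul.1 hgx) with e | e <;> rw [e]
  exacts [K.x'z.symm, K.xz.symm.mul_right K.x'z.symm]

theorem n_not_K {n : G} (hnz : Commute n D.z) (hnx : Commute n x) (hnt : n * t * n⁻¹ = D.z * t) :
    n ∉ K.Kgrp := fun hK => by
  have e := K.n_x' hnz hnx hnt
  rw [(K.mem_K.1 hK).2.eq, mul_inv_cancel_right] at e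
  exact K.fr.ne_one (mul_eq_right.1 e.symm)

theorem index_two {n g : G} (hnz : Commute n D.z) (hnx : Commute n x)
    (hnt : n * t * n⁻¹ = D.z * t) (hgx : Commute g x) : g ∈ K.Kgrp ∨ n⁻¹ * g ∈ K.Kgrp := by
  rcases K.V_normal hgx with e | e
  · exact Or.inl (K.mem_K.2 ⟨hgx, mul_inv_eq_iff_eq_mul.1 e⟩)
  · refine Or.inr (K.mem_K.2 ⟨hnx.inv_left.mul_left hgx, mul_inv_eq_iff_eq_mul.1 ?_⟩)
    calc n⁻¹ * g * x' * (n⁻¹ * g)⁻¹ = n⁻¹ * (g * x' * g⁻¹) * n := by group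
      _ = n⁻¹ * (n * x' * n⁻¹) * n := by rw [e, K.n_x' hnz hnx hnt]
      _ = x' := by group

theorem card_H : Nat.card ↥(Subgroup.centralizer ({x} : Set G)) = 2 * Nat.card ↥K.Kgrp := by
  obtain ⟨n, hnz, hnx, hnt⟩ := K.exists_n
  have hn := K.n_not_K hnz hnx hnt
  let f : ZMod 2 × ↥K.Kgrp → ↥(Subgroup.centralizer ({x} : Set G)) := fun e => ⟨pick n e.1 * e.2,
    Subgroup.mem_centralizer_singleton_iff.2
      ((pick_comm hnx e.1).mul_left (K.mem_K.1 e.2.2).1).eq⟩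
  have hf : Function.Bijective f := by
    refine ⟨?_, ?_⟩
    · rintro ⟨i, m, hm⟩ ⟨j, m', hm'⟩ e
      have e' : pick n i * m = pick n j * m' := congrArg Subtype.val e
      rcases bit i with rfl | rfl <;> rcases bit j with rfl | rfl <;>
        simp only [pick_zero, pick_one, one_mul, mul_right_inj] at e'
      · subst e'; rfl
      · refine absurd ?_ hn
        rw [show n = m * m'⁻¹ by rw [e']; group]
        exact mul_mem hm (inv_mem hm')
      · refine absurd ?_ hn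
        rw [show n = m' * m⁻¹ by rw [← e']; group]
        exact mul_mem hm' (inv_mem hm)
      · subst e'; rfl
    · rintro ⟨c, hc⟩
      rcases K.index_two hnz hnx hnt (Subgroup.mem_centralizer_singleton_iff.1 hc) with hM | hM
      · exact ⟨(0, ⟨c, hM⟩), Subtype.ext (by simp [f])⟩
      · exact ⟨(1, ⟨n⁻¹ * c, hM⟩), Subtype.ext (by simp [f])⟩
  rw [← Nat.card_eq_of_bijective f hf, Nat.card_prod, Nat.card_zmod]

theorem V_le : K.Vgrp ≤ K.Kgrp := fun a ha =>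
  K.mem_K.2 ⟨(K.V_M ha).2.2, K.M_x' (K.V_M ha)⟩

theorem card_V : Nat.card ↥K.Vgrp = 4 := by
  let f : ZMod 2 × ZMod 2 → ↥K.Vgrp := fun e => ⟨pick x e.1 * pick x' e.2, K.vp_mem _ _⟩
  have hf : Function.Bijective f := by
    refine ⟨?_, ?_⟩
    · rintro ⟨i, j⟩ ⟨m, n⟩ e
      have e' : pick x i * pick x' j = pick x m * pick x' n := congrArg Subtype.val e
      obtain ⟨-, rfl, rfl, -⟩ := K.inj (a := 1) (b := 1) (i := 0) (j := 0) (k := 0) (l := 0)
        (m := 0) (n := 0) (o := 0) (r := 0) (i' := i) (j' := j) (m' := m) (n' := n) (Or.inl rfl)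
        (Or.inl rfl) (by rw [e'])
      rfl
    · rintro ⟨a, rfl | rfl | rfl | rfl⟩
      exacts [⟨(0, 0), Subtype.ext (by simp [f])⟩, ⟨(1, 0), Subtype.ext (by simp [f])⟩,
        ⟨(0, 1), Subtype.ext (by simp [f])⟩, ⟨(1, 1), Subtype.ext (by simp [f])⟩]
  rw [← Nat.card_eq_of_bijective f hf]
  simp [Nat.card_prod, Nat.card_zmod]

/-- An element of `C(x)` centralizing the four-group and moving the centre of the pair. -/
theorem exists_wild : ∃ s, s ∈ K.Kgrp ∧ ¬ K.Nm s := by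
  obtain ⟨m1, m2, -, -⟩ := K.q_M
  have hn12 : ¬ Commute q1 q2 := fun e => by
    have := (D.cls_comm q1 K.cq1.1 q2 K.cq2.1).1 e
    rw [K.cls1, K.cls2, K.coord.rr] at this
    exact one_ne_zero this
  obtain ⟨s, hs, hs2, hsz, hsx, hsx'⟩ := (show Tri D x x' h t q1 q2 from
    ⟨K.coord.six, ⟨v, u, K.fr⟩, K.cq1, K.cq2, (D.cls_sq q1 K.cq1.1).2 (by rw [K.cls1]; exact K.qr1),
      (D.cls_sq q2 K.cq2.1).2 (by rw [K.cls2]; exact K.qr2), hn12, K.q1x, K.q2x, K.hz, K.ht, K.hq1,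
      K.hq2, K.h3, K.conj1, K.conj2, K.xx'⟩).exists_mover_fixed
  have hcl1 : D.Cl q1 := D.cl_of_mem K.cq1.1 ((D.cls_sq q1 K.cq1.1).2 (by rw [K.cls1]; exact K.qr1))
    fun e => hn12 (e ▸ Commute.one_left _)
  refine ⟨s, K.mem_K.2 ⟨hsx, hsx'⟩, fun hN => ?_⟩
  have hq : Commute s q1 := ((D.ctx_Qof hcl1).central s hs).symm
  have h1 := D.Qof_conj D.cl_z s (show q1 ∈ D.Qof D.z by rw [D.Qof_self]; exact K.cq1.1)
  rw [hq.eq, mul_inv_cancel_right] at h1
  have hno : D.InA t q1 → False := fun hA' => hn12 (K.A_comm hA' m2.1 m2.2.1)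
  rcases K.nm_A hN (Or.inl rfl : D.z = D.z ∨ D.z = t ∨ D.z = D.z * t) with e | e | e <;> rw [e] at h1
  · exact hsz (mul_inv_eq_iff_eq_mul.1 e)
  · exact hno (K.pt.inter K.cq1.1 h1)
  · refine hno ?_
    have hez : D.z * (D.z * t) = t := by rw [← mul_assoc, D.ctx.sq_z, one_mul]
    rcases K.pt.z_mul.inter K.cq1.1 h1 with h | h | h | h
    exacts [Or.inl h, Or.inr (Or.inl h), Or.inr (Or.inr (Or.inr h)),
      Or.inr (Or.inr (Or.inl (h.trans hez)))]

theorem K_V_normal : (K.Vgrp.subgroupOf K.Kgrp).Normal := ⟨fun a ha g => by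
  have hg := K.mem_K.1 g.2
  show K.InV ((g : G) * a * (g : G)⁻¹)
  have hc : Commute (a : G) (g : G) := K.V_comm ha hg.1 hg.2
  rw [← hc.eq, mul_inv_cancel_right]
  exact ha⟩

/-- The centralizer of the four-group modulo it is `PSL(3, 4)`. -/
theorem lthree : ∃ (F : Type) (_ : Field F) (_ : Fintype F), Fintype.card F = 4 ∧
    haveI := K.K_V_normal
    Nonempty ((↥K.Kgrp ⧸ K.Vgrp.subgroupOf K.Kgrp) ≃* Matrix.ProjectiveSpecialLinearGroup (Fin 3) F) := by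
  classical
  haveI : Fact (Nat.Prime 2) := ⟨Nat.prime_two⟩
  haveI := K.K_V_normal
  set N := K.Vgrp.subgroupOf K.Kgrp
  let π := QuotientGroup.mk' N
  have hker : ∀ {c : ↥K.Kgrp}, π c = 1 ↔ K.InV (c : G) := fun {c} => QuotientGroup.eq_one_iff c
  have hMK : K.Mgrp ≤ K.Kgrp := K.M_le
  set Mb : Subgroup (↥K.Kgrp ⧸ N) := (K.Mgrp.subgroupOf K.Kgrp).map π with hMb
  have hzK : D.z ∈ K.Kgrp := K.cl_K D.cl_z K.xz.symm
  have htK : t ∈ K.Kgrp := K.cl_K K.pt.cl K.xt.symm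
  set zb := π ⟨D.z, hzK⟩ with hzb
  set tb := π ⟨t, htK⟩ with htb
  obtain ⟨n, hnz, hnx, hnt⟩ := K.exists_n
  have hword : ∀ {c : ↥K.Kgrp}, (c : G) ∈ K.Mgrp → π c ∈ Mb := fun {c} hc => ⟨c, hc, rfl⟩
  have hA : ∀ {a : G}, a = D.z ∨ a = t ∨ a = D.z * t → ∀ ha : a ∈ K.Kgrp,
      π ⟨a, ha⟩ ≠ 1 ∧ ∀ m ∈ Mb, Commute (π ⟨a, ha⟩) m := by
    intro a ha hak
    refine ⟨fun e => (K.A_cl ha).ne_one D (K.A_inf_V (Or.inr ha) (hker.1 e)), ?_⟩
    rintro _ ⟨c, hc, rfl⟩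
    have h := K.mem_M.1 (show (c : G) ∈ K.Mgrp from hc)
    exact (show Commute (⟨a, hak⟩ : ↥K.Kgrp) c from
      Subtype.ext (K.A_comm (Or.inr ha) h.1 h.2.1).eq).map π
  -- centralizer of the distinguished involution
  have hcz : ∀ y : ↥K.Kgrp ⧸ N, Commute y zb → y ∈ Mb := by
    intro y hy
    obtain ⟨g, rfl⟩ := QuotientGroup.mk'_surjective N y
    have hV : π ((g * ⟨D.z, hzK⟩ * g⁻¹) * (⟨D.z, hzK⟩ : ↥K.Kgrp)⁻¹) = 1 := by
      rw [map_mul, map_mul, map_mul, map_inv, map_inv, ← hzb, hy.eq, mul_inv_cancel_right,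
        mul_inv_cancel]
    have hV' : K.InV ((g : G) * D.z * (g : G)⁻¹ * D.z⁻¹) := hker.1 hV
    have hgx := (K.mem_K.1 g.2).1
    have hZ : K.InZ ((g : G) * D.z * (g : G)⁻¹) := by
      have e : (g : G) * D.z * (g : G)⁻¹ = D.z * ((g : G) * D.z * (g : G)⁻¹ * D.z⁻¹) := by
        have hc : Commute D.z ((g : G) * D.z * (g : G)⁻¹ * D.z⁻¹) := (K.V_M hV').1.symm
        rw [hc.eq]; group
      rw [e]
      rcases hV' with e' | e' | e' | e' <;> rw [e']
      exacts [⟨D.z, 0, 0, Or.inr (Or.inl rfl), by simp⟩, ⟨D.z, 1, 0, Or.inr (Or.inl rfl), by simp⟩,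
        ⟨D.z, 0, 1, Or.inr (Or.inl rfl), by simp⟩, ⟨D.z, 1, 1, Or.inr (Or.inl rfl), by simp⟩]
    have hgA := K.cl_Z hZ (D.cl_z.conj D (g : G))
    have hgz : Commute (g : G) D.z := by
      refine mul_inv_eq_iff_eq_mul.1 (mul_inv_eq_one.1 (K.A_inf_V ?_ hV'))
      obtain ⟨i, j, hij⟩ := K.pt.inA_zt (Or.inr hgA : D.InA t _)
      rw [hij, show D.z⁻¹ = D.zt t 1 0 by rw [D.ctx.inv_z]; simp [Data.zt], K.pt.zt_add]
      exact K.pt.zt_A _ _
    rcases K.s_cases hnz hnx hnt hgz hgx with hM | hM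
    · exact hword (K.mem_M.2 hM)
    · exfalso
      refine K.n_not_K hnz hnx hnt ?_
      have := mul_mem g.2 (inv_mem (hMK (K.mem_M.2 hM)))
      rwa [show (g : G) * (n⁻¹ * (g : G))⁻¹ = n by group] at this
  -- involutions
  have hinv : ∀ y : ↥K.Kgrp ⧸ N, orderOf y = 2 → ∃ g, g * zb * g⁻¹ = y := by
    intro y hy
    obtain ⟨c, rfl⟩ := QuotientGroup.mk'_surjective N y
    have hc2 : K.InV ((c : G) * c) := (hker (c := c * c)).1 (by
      rw [map_mul, ← pow_two, ← hy, pow_orderOf_eq_one])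
    have hP : IsPGroup 2 (Subgroup.zpowers (c : G)) := fun ⟨s, hs⟩ => by
      obtain ⟨i, rfl⟩ := Subgroup.mem_zpowers_iff.1 hs
      refine ⟨2, Subtype.ext ?_⟩
      show ((c : G) ^ i) ^ 2 ^ 2 = 1
      rw [← zpow_natCast, ← zpow_mul, mul_comm, zpow_mul, zpow_natCast,
        show (c : G) ^ 2 ^ 2 = (c : G) * c * ((c : G) * c) by
          rw [show (2 : ℕ) ^ 2 = 2 + 2 from rfl, pow_add, pow_two], K.V_sq hc2, one_zpow]
    obtain ⟨d, hdx, hdx', hdM⟩ := K.conj_into hP ((Subgroup.zpowers_le).2 c.2)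
    have hm := hdM _ (Subgroup.mem_zpowers _)
    set m := d * (c : G) * d⁻¹ with hmdef
    have hdK : d ∈ K.Kgrp := K.mem_K.2 ⟨hdx, hdx'⟩
    have hm2V : K.InV (m * m) := by
      rw [hmdef, show d * (c : G) * d⁻¹ * (d * c * d⁻¹) = d * (c * c) * d⁻¹ by group,
        (K.V_comm hc2 hdx hdx').symm.eq, mul_inv_cancel_right]
      exact hc2
    obtain ⟨a, i', j', i, j, k, l, ha, hme⟩ := K.M_decomp hm
    set V0 := pick x i' * pick x' j'
    have hV0 := K.vp_mem i' j'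
    have hcA : Commute a (elm q1 q2 y1 y2 i j k l) :=
      K.A_comm ha (K.el_M i j k l).1 (K.el_M i j k l).2.1
    have hcV : Commute V0 (elm q1 q2 y1 y2 i j k l) :=
      K.V_comm hV0 (K.el_comm i j k l).1 (K.el_comm i j k l).2
    have hAV : Commute a V0 := K.A_comm ha (K.V_M hV0).1 (K.V_M hV0).2.1
    have ha2 : a * a = 1 := by
      obtain ⟨i0, j0, rfl⟩ := K.pt.inA_zt ha
      rw [K.pt.zt_add, bit_self, bit_self]; simp [Data.zt]
    have hm2 : m * m = elm q1 q2 y1 y2 i j k l * elm q1 q2 y1 y2 i j k l := by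
      rw [hme, (hcA.mul_left hcV).symm.mul_mul_mul_comm, hAV.symm.mul_mul_mul_comm, ha2, K.V_sq hV0,
        one_mul, one_mul]
    have he2 : elm q1 q2 y1 y2 i j k l * elm q1 q2 y1 y2 i j k l = 1 :=
      K.A_inf_V (K.el_sq_A i j k l) (hm2 ▸ hm2V)
    set w := a * elm q1 q2 y1 y2 i j k l with hwdef
    have hmw : m = V0 * w := by rw [hme, hwdef, hAV.eq, mul_assoc]
    have hmK : m ∈ K.Kgrp := mul_mem (mul_mem hdK c.2) (inv_mem hdK)
    have hw1 : w ≠ 1 := fun e => by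
      have hmV : K.InV m := by rw [hmw, e, mul_one]; exact hV0
      have h1 : π c = 1 := hker.2 (by
        rw [show (c : G) = d⁻¹ * m * d by rw [hmdef]; group, mul_assoc,
          (K.V_comm hmV hdx hdx').eq, ← mul_assoc, inv_mul_cancel, one_mul]
        exact hmV)
      rw [h1, orderOf_one] at hy
      norm_num at hy
    have hwcl : D.Cl w := K.cl_el ha he2 hw1
    have hwM : K.InM w := K.M_mul (K.A_M ha) (K.el_M i j k l)
    obtain ⟨g, hgw, hgx⟩ := to_pair K.coord.six K.fr hwcl K.x_sq K.fr.ne_one K.x_not_cl hwM.2.2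
    obtain ⟨g', hg'K, hg'w⟩ : ∃ g', g' ∈ K.Kgrp ∧ g' * w * g'⁻¹ = D.z := by
      rcases K.index_two hnz hnx hnt (g := g) (mul_inv_eq_iff_eq_mul.1 hgx) with e | e
      · exact ⟨g, e, hgw⟩
      · refine ⟨_, e, ?_⟩
        rw [show n⁻¹ * g * w * (n⁻¹ * g)⁻¹ = n⁻¹ * (g * w * g⁻¹) * n by group, hgw, mul_assoc,
          ← hnz.eq, ← mul_assoc, inv_mul_cancel, one_mul]
    refine ⟨π (⟨g', hg'K⟩ * ⟨d, hdK⟩)⁻¹, ?_⟩
    rw [hzb, ← map_inv, ← map_mul, ← map_mul, QuotientGroup.mk'_eq_mk']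
    refine ⟨⟨V0, K.V_le hV0⟩, hV0, Subtype.ext ?_⟩
    show (g' * d)⁻¹ * D.z * (g' * d)⁻¹⁻¹ * V0 = (c : G)
    rw [inv_inv, show (c : G) = d⁻¹ * m * d by rw [hmdef]; group, hmw, ← hg'w,
      show (g' * d)⁻¹ * (g' * w * g'⁻¹) * (g' * d) * V0 = d⁻¹ * w * (d * V0) by group,
      ← (K.V_comm hV0 hdx hdx').eq, ← mul_assoc, mul_assoc d⁻¹ w V0,
      ← (K.V_comm hV0 hwM.2.2 (K.M_x' hwM)).eq]
  have hzb2 : orderOf zb = 2 := orderOf_eq_prime (by
    rw [hzb, ← map_pow, show (⟨D.z, hzK⟩ : ↥K.Kgrp) ^ 2 = 1 from Subtype.ext (by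
      show D.z ^ 2 = 1; rw [pow_two, D.ctx.sq_z]), map_one]) (hA (Or.inl rfl) hzK).1
  have htb2 : orderOf tb = 2 := orderOf_eq_prime (by
    rw [htb, ← map_pow, show (⟨t, htK⟩ : ↥K.Kgrp) ^ 2 = 1 from Subtype.ext (by
      show t ^ 2 = 1; rw [pow_two, K.pt.sq]), map_one]) (hA (Or.inr (Or.inl rfl)) htK).1
  have hztne : zb ≠ tb := fun e => by
    have e' : π ((⟨D.z, hzK⟩ : ↥K.Kgrp) * ⟨t, htK⟩) = 1 := by
      rw [map_mul, ← hzb, ← htb, e, ← pow_two, ← htb2, pow_orderOf_eq_one]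
    exact K.pt.z_mul.ne_one (K.A_inf_V (Or.inr (Or.inr (Or.inr rfl))) (hker.1 e'))
  have hMb64 : Nat.card ↥Mb = 64 := by
    let f := π.comp (Subgroup.inclusion hMK)
    have hr : f.range = Mb := by
      ext y
      constructor
      · rintro ⟨c, rfl⟩
        exact hword c.2
      · rintro ⟨c, hc, rfl⟩
        exact ⟨⟨(c : G), hc⟩, rfl⟩
    have hk : f.ker = K.Vgrp.subgroupOf K.Mgrp := by
      ext c
      exact hker (c := Subgroup.inclusion hMK c)
    have h := Subgroup.card_eq_card_quotient_mul_card_subgroup f.ker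
    rw [Nat.card_congr (QuotientGroup.quotientKerEquivRange f).toEquiv, hk, hr, K.card_M,
      Nat.card_congr (Subgroup.subgroupOfEquivOfLe (show K.Vgrp ≤ K.Mgrp from fun a ha =>
        K.mem_M.2 (K.V_M ha))).toEquiv, K.card_V] at h
    omega
  have hMb2 : IsPGroup 2 ↥Mb := IsPGroup.of_card (n := 6) (by rw [hMb64]; norm_num)
  have hzM : zb ∈ Mb := hword (K.mem_M.2 (K.A_M (Or.inr (Or.inl rfl))))
  have htM : tb ∈ Mb := hword (K.mem_M.2 (K.A_M (Or.inr (Or.inr (Or.inl rfl)))))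
  have hcit : CIT.IsCIT (↥K.Kgrp ⧸ N) := by
    intro y hy
    obtain ⟨g, rfl⟩ := hinv y hy
    refine (hMb2.map (MulAut.conj g).toMonoidHom).to_le fun a ha => ?_
    have ha' := Subgroup.mem_centralizer_singleton_iff.1 ha
    exact ⟨g⁻¹ * a * g, hcz _ (commute_unconj g ha'), show g * (g⁻¹ * a * g) * g⁻¹ = a by group⟩
  -- generators of the image
  have hgen : ∀ {T : Subgroup (↥K.Kgrp ⧸ N)}, (∀ y, orderOf y = 2 → y ∈ T) → Mb ≤ T := by
    intro T hT
    rintro _ ⟨c, hc, rfl⟩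
    obtain ⟨a, i', j', i, j, k, l, ha, he⟩ := K.M_decomp (K.mem_M.1 hc)
    obtain ⟨m1, m2, m3, m4⟩ := K.q_M
    have hone : ∀ {g : G} (hg : g ∈ K.Kgrp), g * g = 1 → π ⟨g, hg⟩ ∈ T := fun {g} hg h2 => by
      by_cases h1 : π ⟨g, hg⟩ = 1
      · rw [h1]; exact one_mem _
      · exact hT _ (orderOf_eq_prime (by
          rw [pow_two, ← map_mul, show (⟨g, hg⟩ : ↥K.Kgrp) * ⟨g, hg⟩ = 1 from Subtype.ext h2,
            map_one]) h1)
    have hpick : ∀ {g : G} (i : ZMod 2), g * g = 1 → pick g i * pick g i = 1 := fun {g} i h => by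
      rw [pick_add h, bit_self, pick_zero]
    have hq1 : q1 * q1 = 1 := (D.cls_sq q1 K.cq1.1).2 (by rw [K.cls1]; exact K.qr1)
    have hq2 : q2 * q2 = 1 := (D.cls_sq q2 K.cq2.1).2 (by rw [K.cls2]; exact K.qr2)
    have hy1 : y1 * y1 = 1 := (K.pt.third K.pq1 K.coord.pr K.act1).1 K.qr1
    have hy2 : y2 * y2 = 1 := (K.pt.third K.pq2 K.coord.pr' K.act2).1 K.qr2
    have ha2 : a * a = 1 := by
      obtain ⟨i0, j0, rfl⟩ := K.pt.inA_zt ha
      rw [K.pt.zt_add, bit_self, bit_self]; simp [Data.zt]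
    have hpM : ∀ {g : G} (i : ZMod 2), K.InM g → pick g i ∈ K.Kgrp := fun {g} i h => by
      rcases bit i with rfl | rfl
      · rw [pick_zero]; exact one_mem _
      · rw [pick_one]; exact hMK (K.mem_M.2 h)
    have hc' : c = ⟨a, hMK (K.mem_M.2 (K.A_M ha))⟩ * ⟨_, K.V_le (K.vp_mem i' j')⟩ *
        ((⟨_, hpM i m1⟩ : ↥K.Kgrp) * ⟨_, hpM j m2⟩ * (⟨_, hpM k m3⟩ * ⟨_, hpM l m4⟩)) :=
      Subtype.ext he
    rw [hc', map_mul, map_mul, map_mul, map_mul, map_mul]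
    exact mul_mem (mul_mem (hone _ ha2) (hone _ (K.V_sq (K.vp_mem i' j'))))
      (mul_mem (mul_mem (hone _ (hpick i hq1)) (hone _ (hpick j hq2)))
        (mul_mem (hone _ (hpick k hy1)) (hone _ (hpick l hy2))))
  -- solvability
  have hO := oddCore_bot_of_four hcit hzb2 htb2 ((hA (Or.inl rfl) hzK).2 _ htM) hztne
  obtain ⟨s, hsK, hsN⟩ := K.exists_wild
  have hMn : ∀ T : Subgroup (↥K.Kgrp ⧸ N), T.Normal → Mb ≤ T → IsPGroup 2 T → False := by
    intro T hT hle hT2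
    have hPK : (T.comap π).map K.Kgrp.subtype ≤ K.Kgrp := Subgroup.map_subtype_le _
    have hN2 : IsPGroup 2 N := (K.M_two.to_le (show K.Vgrp ≤ K.Mgrp from fun a ha =>
      K.mem_M.2 (K.V_M ha))).of_equiv (Subgroup.subgroupOfEquivOfLe K.V_le).symm
    have e := K.max_M ((hT2.comap_of_ker_isPGroup π
      (by rw [QuotientGroup.ker_mk']; exact hN2)).map K.Kgrp.subtype)
      (fun c hc => ⟨⟨c, hMK hc⟩, hle (hword hc), rfl⟩) hPK
    have hn : (T.comap π).Normal := hT.comap π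
    refine hsN fun c => ⟨fun hc => ?_, fun hc => ?_⟩
    · have h1 : (⟨c, hMK (K.mem_M.2 hc)⟩ : ↥K.Kgrp) ∈ T.comap π := hle (hword (K.mem_M.2 hc))
      exact K.mem_M.1 (e ▸ ⟨_, hn.conj_mem _ h1 ⟨s, hsK⟩, rfl⟩)
    · have h1 : (⟨_, hMK (K.mem_M.2 hc)⟩ : ↥K.Kgrp) ∈ T.comap π := hle (hword (K.mem_M.2 hc))
      have h2 := hn.conj_mem _ h1 (⟨s, hsK⟩ : ↥K.Kgrp)⁻¹
      have h3 : s⁻¹ * (s * c * s⁻¹) * s⁻¹⁻¹ ∈ K.Mgrp := e ▸ ⟨_, h2, rfl⟩
      rw [show s⁻¹ * (s * c * s⁻¹) * s⁻¹⁻¹ = c by group] at h3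
      exact K.mem_M.1 h3
  have hall : ∀ T : Subgroup (↥K.Kgrp ⧸ N), T.Normal → (∃ y ∈ T, orderOf y = 2) →
      ∀ y, orderOf y = 2 → y ∈ T := by
    intro T hT ⟨y, hy, hy2⟩ y' hy'
    obtain ⟨g, rfl⟩ := hinv y hy2
    obtain ⟨g', rfl⟩ := hinv y' hy'
    have h0 : zb ∈ T := by
      have := hT.conj_mem _ hy g⁻¹
      rwa [show g⁻¹ * (g * zb * g⁻¹) * g⁻¹⁻¹ = zb by group] at this
    exact hT.conj_mem _ h0 g'
  have hP : Cfsg.pCore 2 (↥K.Kgrp ⧸ N) = ⊥ := by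
    by_contra hne
    haveI : (Cfsg.pCore 2 (↥K.Kgrp ⧸ N)).Normal := inferInstance
    haveI : Nontrivial (Cfsg.pCore 2 (↥K.Kgrp ⧸ N)) := (Subgroup.nontrivial_iff_ne_bot _).2 hne
    have h2 := Cfsg.Lib.Core.pCore_isPGroup 2 (↥K.Kgrp ⧸ N)
    obtain ⟨m, hm⟩ := IsPGroup.iff_card.1 h2
    have hdvd : 2 ∣ Nat.card (Cfsg.pCore 2 (↥K.Kgrp ⧸ N)) := by
      rw [hm]
      refine dvd_pow_self 2 fun e => ?_
      have := Finite.one_lt_card (α := Cfsg.pCore 2 (↥K.Kgrp ⧸ N))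
      rw [hm, e, pow_zero] at this
      exact lt_irrefl 1 this
    obtain ⟨y, hy⟩ := exists_prime_orderOf_dvd_card' 2 hdvd
    exact hMn _ inferInstance
      (hgen (hall _ inferInstance ⟨y, y.2, by rw [Subgroup.orderOf_coe]; exact hy⟩)) h2
  have hns : ¬ Group.IsSolvable (↥K.Kgrp ⧸ N) := fun hs => by
    haveI := hs
    haveI : Nontrivial (↥K.Kgrp ⧸ N) := ⟨⟨zb, 1, (hA (Or.inl rfl) hzK).1⟩⟩
    obtain ⟨p, hp, hne⟩ := Cfsg.Lib.Solv.KW.exists_pCore_ne_bot (U := ↥K.Kgrp ⧸ N)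
    by_cases hp2 : p = 2
    · exact hne (hp2 ▸ hP)
    · haveI : Fact p.Prime := ⟨hp⟩
      obtain ⟨k, hk⟩ := IsPGroup.iff_card.1 (Cfsg.Lib.Core.pCore_isPGroup p (↥K.Kgrp ⧸ N))
      have hle : Cfsg.pCore p (↥K.Kgrp ⧸ N) ≤ Cfsg.oddCore (↥K.Kgrp ⧸ N) :=
        Cfsg.Lib.ZStar.le_oddCore inferInstance (by rw [hk]; exact (hp.odd_of_ne_two hp2).pow)
      rw [hO, le_bot_iff] at hle
      exact hne hle
  obtain ⟨T, hTn, hTs, hTna⟩ := CIT.NonSolv.exists_simple_normal hcit hns hP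
  haveI := hTs
  have hTcit := hcit.subgroup T
  have hTall : ∀ y, orderOf y = 2 → y ∈ T := by
    obtain ⟨⟨y, hyT⟩, hy⟩ := exists_prime_orderOf_dvd_card' (G := T) 2 (CIT.two_dvd_card hTna)
    exact hall T hTn ⟨y, hyT, by rw [← hy, Subgroup.orderOf_mk]⟩
  have hMT : Mb ≤ T := hgen hTall
  -- a Sylow subgroup of the simple group
  obtain ⟨S, hS⟩ := (hMb2.of_equiv (Subgroup.subgroupOfEquivOfLe hMT).symm).exists_le_sylow
  have hSM : (S : Subgroup T).map T.subtype = Mb := by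
    refine le_antisymm ?_ fun a ha => ⟨⟨a, hMT ha⟩, hS ha, rfl⟩
    intro a ha
    have h2 : IsPGroup 2 ((S : Subgroup T).map T.subtype) := S.2.map _
    have hN2 : IsPGroup 2 N := (K.M_two.to_le (show K.Vgrp ≤ K.Mgrp from fun a ha =>
      K.mem_M.2 (K.V_M ha))).of_equiv (Subgroup.subgroupOfEquivOfLe K.V_le).symm
    have e := K.max_M ((h2.comap_of_ker_isPGroup π
      (by rw [QuotientGroup.ker_mk']; exact hN2)).map K.Kgrp.subtype)
      (fun c hc => ⟨⟨c, hMK hc⟩, ⟨⟨_, hMT (hword hc)⟩, hS (hword hc), rfl⟩, rfl⟩)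
      (Subgroup.map_subtype_le _)
    obtain ⟨c, rfl⟩ := QuotientGroup.mk'_surjective N a
    exact hword (e ▸ ⟨c, ha, rfl⟩)
  have hS' : (S : Subgroup T) = Mb.subgroupOf T := by
    ext a
    rw [Subgroup.mem_subgroupOf, ← hSM]
    exact ⟨fun h => ⟨a, h, rfl⟩, fun ⟨b, hb, e⟩ => (Subtype.ext e : b = a) ▸ hb⟩
  rcases CIT.trichotomy (CIT.ffHolds fun Y _ _ H hD => CIT.exists_tiShape hD) (Nat.card T + 1) T hTna
    hTcit (Nat.lt_succ_self _) with htri | htri | htri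
  · exfalso
    obtain ⟨m1, m2, -, -⟩ := K.q_M
    set qb := π ⟨q1, hMK (K.mem_M.2 m1)⟩ with hqb
    set q2b := π ⟨q2, hMK (K.mem_M.2 m2)⟩ with hq2b
    have hqM : qb ∈ Mb := hword (K.mem_M.2 m1)
    have hnc : ¬ Commute qb q2b := fun e => by
      have hc : π ((⟨q1, hMK (K.mem_M.2 m1)⟩ : ↥K.Kgrp) * ⟨q2, hMK (K.mem_M.2 m2)⟩ *
          (⟨q1, hMK (K.mem_M.2 m1)⟩ : ↥K.Kgrp)⁻¹ * (⟨q2, hMK (K.mem_M.2 m2)⟩ : ↥K.Kgrp)⁻¹) = 1 := by
        rw [map_mul, map_mul, map_mul, map_inv, map_inv, ← hqb, ← hq2b, e.eq, mul_inv_cancel_right,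
          mul_inv_cancel]
      have hV : K.InV (q1 * q2 * q1⁻¹ * q2⁻¹) := hker.1 hc
      have h12 : q1 * q2 * q1⁻¹ = D.z * q2 := D.q_move K.cq1.1 K.cq2.1 (by
        rw [K.cls1, K.cls2, K.coord.rr])
      rw [h12, mul_inv_cancel_right] at hV
      exact D.ctx.ne_one (K.A_inf_V (Or.inr (Or.inl rfl)) hV)
    have hq1ne : qb ≠ 1 := fun e => hnc (by rw [e]; exact Commute.one_left _)
    have hq1o : orderOf qb = 2 := orderOf_eq_prime (by
      rw [hqb, ← map_pow, show (⟨q1, hMK (K.mem_M.2 m1)⟩ : ↥K.Kgrp) ^ 2 = 1 from Subtype.ext (by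
        show q1 ^ 2 = 1; rw [pow_two]; exact (D.cls_sq q1 K.cq1.1).2 (by rw [K.cls1]; exact K.qr1)),
        map_one]) hq1ne
    obtain ⟨g, hg⟩ := hinv qb hq1o
    -- the conjugate Sylow subgroup contains both involutions
    obtain ⟨P, hP'⟩ := ((hMb2.map (MulAut.conj g).toMonoidHom).of_equiv
      (Subgroup.subgroupOfEquivOfLe (H := Mb.map (MulAut.conj g).toMonoidHom) (K := T) (by
        rintro _ ⟨a, ha, rfl⟩
        exact hTn.conj_mem _ (hMT ha) g)).symm).exists_le_sylow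
    have hmemP : ∀ {a}, a ∈ Mb → ∀ h : g * a * g⁻¹ ∈ T, (⟨g * a * g⁻¹, h⟩ : T) ∈ (P : Subgroup T) :=
      fun {a} ha h => hP' ⟨a, ha, rfl⟩
    have hqT : qb ∈ T := hMT hqM
    have hne : P ≠ S := by
      intro e
      refine hnc ?_
      have hq2M : q2b ∈ Mb := hword (K.mem_M.2 m2)
      have hsub : Mb.map (MulAut.conj g).toMonoidHom ≤ Mb := by
        rintro _ ⟨a, ha, rfl⟩
        have hmT : g * a * g⁻¹ ∈ T := hTn.conj_mem _ (hMT ha) g
        have h1 := hmemP ha hmT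
        rw [e, hS'] at h1
        exact h1
      have heq := Subgroup.eq_of_le_of_card_ge hsub
        (le_of_eq (Nat.card_congr
          (Mb.equivMapOfInjective (MulAut.conj g).toMonoidHom (MulAut.conj g).injective).toEquiv))
      obtain ⟨a, ha, hae⟩ := heq.ge hq2M
      rw [← hg, ← hae]
      exact (Commute.conj_iff g).2 ((hA (Or.inl rfl) hzK).2 a ha)
    have h1 : (⟨qb, hqT⟩ : T) ∈ (P : Subgroup T) := by
      have := hmemP hzM (hg.symm ▸ hqT)
      simpa only [hg] using this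
    have h2 : (⟨qb, hqT⟩ : T) ∈ (S : Subgroup T) := hS hqM
    have := htri P S hne
    have h3 : (⟨qb, hqT⟩ : T) ∈ (P : Subgroup T) ⊓ (S : Subgroup T) := ⟨h1, h2⟩
    rw [this, Subgroup.mem_bot] at h3
    exact hq1ne (congrArg Subtype.val h3)
  · exfalso
    obtain ⟨k, hk, ⟨e⟩⟩ := htri S
    have hcent : ∀ {a : G} (_ha : a = D.z ∨ a = t ∨ a = D.z * t) (hak : a ∈ K.Kgrp)
        (hM : π ⟨a, hak⟩ ∈ Mb), ∀ b : (S : Subgroup T),
          Commute (⟨⟨_, hMT hM⟩, hS hM⟩ : (S : Subgroup T)) b := fun {a} ha hak hM b => by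
      have hb : ((b : T) : ↥K.Kgrp ⧸ N) ∈ Mb := by rw [← hSM]; exact ⟨b, b.2, rfl⟩
      exact Subtype.ext (Subtype.ext ((hA ha hak).2 _ hb).eq)
    have hne : ∀ {a : G} (_ha : a = D.z ∨ a = t ∨ a = D.z * t) (hak : a ∈ K.Kgrp)
        (hM : π ⟨a, hak⟩ ∈ Mb), e ⟨⟨_, hMT hM⟩, hS hM⟩ ≠ 1 := fun {a} ha hak hM h => by
      rw [e.map_eq_one_iff] at h
      exact (hA ha hak).1 (congrArg (fun w : (S : Subgroup T) => ((w : T) : ↥K.Kgrp ⧸ N)) h)
    have := dihedral_central hk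
      (a := e ⟨⟨_, hMT hzM⟩, hS hzM⟩) (b := e ⟨⟨_, hMT htM⟩, hS htM⟩)
      (fun g => by
        obtain ⟨b, rfl⟩ := e.surjective g
        exact (hcent (Or.inl rfl) hzK hzM b).map e.toMonoidHom)
      (fun g => by
        obtain ⟨b, rfl⟩ := e.surjective g
        exact (hcent (Or.inr (Or.inl rfl)) htK htM b).map e.toMonoidHom)
      (hne (Or.inl rfl) hzK hzM) (hne (Or.inr (Or.inl rfl)) htK htM)
    exact hztne (congrArg (fun w : (S : Subgroup T) => ((w : T) : ↥K.Kgrp ⧸ N)) (e.injective this))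
  · obtain ⟨F, i, j, hF, ⟨e⟩⟩ := htri
    have hTtop : T = ⊤ := by
      refine (Subgroup.eq_top_iff' T).2 fun g => ?_
      have hzT := hMT hzM
      have hgT : g * zb * g⁻¹ ∈ T := hTn.conj_mem _ hzT g
      have ho : ∀ {a} (ha : a ∈ T), orderOf a = 2 → orderOf (e ⟨a, ha⟩) = 2 := fun ha h => by
        rw [MulEquiv.orderOf_eq, Subgroup.orderOf_mk]; exact h
      obtain ⟨c, hc⟩ := isConj_iff.1 (Cfsg.Agent.S0820.result hF (e ⟨zb, hzT⟩) (e ⟨_, hgT⟩)
        (ho hzT hzb2) (ho hgT (by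
          rw [show g * zb * g⁻¹ = MulAut.conj g zb from rfl, MulEquiv.orderOf_eq, hzb2])))
      have hc' : (e.symm c : ↥K.Kgrp ⧸ N) * zb * (e.symm c : ↥K.Kgrp ⧸ N)⁻¹ = g * zb * g⁻¹ := by
        have := congrArg e.symm hc
        simp only [map_mul, map_inv, MulEquiv.symm_apply_apply] at this
        exact congrArg Subtype.val this
      have hm : Commute ((e.symm c : ↥K.Kgrp ⧸ N)⁻¹ * g) zb := mul_inv_eq_iff_eq_mul.1 (by
        calc (e.symm c : ↥K.Kgrp ⧸ N)⁻¹ * g * zb * ((e.symm c : ↥K.Kgrp ⧸ N)⁻¹ * g)⁻¹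
            = (e.symm c : ↥K.Kgrp ⧸ N)⁻¹ * (g * zb * g⁻¹) * (e.symm c : ↥K.Kgrp ⧸ N) := by group
          _ = zb := by rw [← hc']; group)
      have := mul_mem (e.symm c).2 (hMT (hcz _ hm))
      rwa [mul_inv_cancel_left] at this
    exact ⟨F, i, j, hF, ⟨(Subgroup.topEquiv.symm.trans
      ((MulEquiv.subgroupCongr hTtop).symm.trans e))⟩⟩

theorem card_K : Nat.card ↥K.Kgrp = 80640 := by
  obtain ⟨F, i, j, hF, ⟨e⟩⟩ := K.lthree
  haveI := K.K_V_normal
  rw [Subgroup.card_eq_card_quotient_mul_card_subgroup (K.Vgrp.subgroupOf K.Kgrp),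
    (Nat.card_congr e.toEquiv).trans (Cfsg.Lib.Concrete.MTwentyOne.card_psl34 F hF),
    Nat.card_congr (Subgroup.subgroupOfEquivOfLe K.V_le).toEquiv, K.card_V]

end Cfg

end Cfsg.Lib.Extra.SuzLocal
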