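import Cfsg.Agent.Lib.Extra.SuzLocal.Config

/-!
# The centralizer of a commuting pair

For a configuration the elements centralizing `z`, `t` and `x` have normal forms
`A · ⟨x, x'⟩ · q₁ⁱ q₂ʲ y₁ᵏ y₂ˡ`, and the centralizer of `z` and `x` is twice as large.
-/

set_option autoImplicit false
set_option linter.style.haveILetI false
set_option linter.unusedSectionVars false

namespace Cfsg.Lib.Extra.SuzLocal

open Cfsg Module Cfsg.Lib.Linear.Orth Cfsg.Lib.Extra.Wide
open scoped Matrix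

variable {G : Type*} [Group G] {ι : Type} [Fintype ι] [DecidableEq ι] {D : Data G ι} [Finite G]

/-- The products of the labelled involutions. -/
def elm (q1 q2 y1 y2 : G) (i j k l : ZMod 2) : G :=
  pick q1 i * pick q2 j * (pick y1 k * pick y2 l)

theorem pick_cq {t q : G} (hp : D.Point t) (hq : D.InCQ t q) (i : ZMod 2) :
    D.InCQ t (pick q i) ∧ D.cls (pick q i) = i • D.cls q := by
  rcases bit i with rfl | rfl
  · simpa [D.cls_one] using hp.cq_A (Or.inl rfl)
  · simpa using hq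

theorem pick_pq {t y : G} {r : ι → ZMod 2} (hp : D.Point t) (hy : D.InPQ t y)
    (hr : D.act y = sGL D.qf D.B (D.cls t) r) (i : ZMod 2) :
    D.InPQ t (pick y i) ∧ D.act (pick y i) = sGL D.qf D.B (D.cls t) (i • r) := by
  rcases bit i with rfl | rfl
  · refine ⟨by simpa using hp.pq_one, ?_⟩
    rw [pick_zero, D.act_one, zero_smul, ← siegel_zero D.space hp.cls_sing 0, zero_smul]
  · simpa using And.intro hy hr

theorem Coord.decomp {x t : G} {v u r r' : ι → ZMod 2} (C : Coord D x t v u r r') {w : ι → ZMod 2}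
    (hw : D.B (D.cls t) w = 0) : ∃ α : ZMod 2,
      w = α • D.cls t + D.B v w • u + D.B u w • v + D.B r' w • r + D.B r w • r' := by
  have hpu : D.B (D.cls t) u = 0 := C.frame.uperp
  have hpv : D.B (D.cls t) v = 0 := C.frame.vperp
  obtain ⟨α, hα⟩ := C.mem_line
    (β := w + (D.B v w • u + D.B u w • v + D.B r' w • r + D.B r w • r'))
    (by simp [hw, hpu, hpv, C.pr, C.pr'])
    (by simp [C.uv, B_self D.space, C.ur, C.ur', bit_self])
    (by simp [B_self D.space, D.space.symm v u, C.uv, C.vr, C.vr', bit_self])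
    (by simp [B_self D.space, D.space.symm r u, D.space.symm r v, C.ur, C.vr, C.rr, bit_self])
    (by simp [B_self D.space, D.space.symm r' u, D.space.symm r' v, C.ur', C.vr',
      D.space.symm r' r, C.rr, bit_self])
  refine ⟨α, ?_⟩
  rw [show α • D.cls t + D.B v w • u + D.B u w • v + D.B r' w • r + D.B r w • r' =
      α • D.cls t + (D.B v w • u + D.B u w • v + D.B r' w • r + D.B r w • r') by abel, ← hα,
    add_assoc, vadd_self, add_zero]

/-- No element of `Ω` fixing the point is a reflection on its quotient. -/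
theorem Coord.no_refl {x t : G} {v u r r' : ι → ZMod 2} (C : Coord D x t v u r r')
    {k : GL ι (ZMod 2)} (hk : k ∈ Cfsg.Geo.omegaGL D.qf) (hkp : k.val *ᵥ D.cls t = D.cls t)
    {β : ι → ZMod 2} (hβ : D.qf β = 1) (hpβ : D.B (D.cls t) β = 0)
    (h : ∀ w ∈ [u, v, r, r'], ∃ α : ZMod 2, (rGL D.qf β * k).val *ᵥ w = w + α • D.cls t) :
    False := by
  set p := D.cls t with hpdef
  set g := rGL D.qf β * k
  have hgp : g.val *ᵥ p = p := by
    rw [mul_act, hkp, rGL_apply D.space hβ, D.space.symm, hpβ, zero_smul, add_zero]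
  have hgiso : g ∈ isometryGroup (ZMod 2) D.qf :=
    mul_mem (rGL_mem' D.space hβ) (omegaGL_le_iso hk)
  obtain ⟨b, hb, hgb⟩ := exists_siegel D.space hgiso C.frame.pt.cls_sing C.frame.pt.cls_ne hgp
    fun w hw => by
      obtain ⟨α, hα⟩ := C.decomp hw
      obtain ⟨a1, h1⟩ := h u (by simp)
      obtain ⟨a2, h2⟩ := h v (by simp)
      obtain ⟨a3, h3⟩ := h r (by simp)
      obtain ⟨a4, h4⟩ := h r' (by simp)
      refine ⟨D.B v w * a1 + D.B u w * a2 + D.B r' w * a3 + D.B r w * a4, ?_⟩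
      conv_lhs => rw [hα]
      conv_rhs => arg 1; rw [hα]
      simp only [← hpdef, Matrix.mulVec_add, Matrix.mulVec_smul, hgp, h1, h2, h3, h4, smul_add, add_smul,
        mul_smul]
      abel
  have hgΩ : g ∈ Cfsg.Geo.omegaGL D.qf := by
    rw [hgb, Cfsg.Geo.omegaGL, Subgroup.map_subtype_commutator]
    exact sGL_mem_comm D.space (by have := D.six; omega) C.frame.pt.cls_sing hb
  have hrΩ : rGL D.qf β ∈ Cfsg.Geo.omegaGL D.qf := by
    have := mul_mem hgΩ (inv_mem hk)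
    rwa [mul_inv_cancel_right] at this
  obtain ⟨m, hm⟩ := (mem_omega_iff D.space (by have := D.six; omega) D.ev
    (rGL_mem' D.space hβ)).1 hrΩ
  obtain ⟨n, hn⟩ := D.ev
  have := fix_rGL_card D.space hβ
  omega

theorem qy_Qof {t q y : G} (hp : D.Point t) {r : ι → ZMod 2} (hr : D.B (D.cls t) r = 0)
    (hq : D.InCQ t q) (hqr : D.cls q = r) (hy : D.InPQ t y)
    (hyr : D.act y = sGL D.qf D.B (D.cls t) r) : q * y ∈ D.Qof (D.z * t) := by
  obtain ⟨-, -, w, hw, ⟨α, hα⟩, hwy, -⟩ := hp.third hy hr hyr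
  have hA := hp.inA_of_cls (mul_mem hq.1 (inv_mem hw.1)) (α := α) (by
    rw [D.cls_mul _ hq.1 _ (inv_mem hw.1), D.cls_inv hw.1, hqr, hα, ← add_assoc, vadd_self,
      zero_add])
  have hA' : q * w⁻¹ ∈ D.Qof (D.z * t) := by
    refine (hp.z_mul.inA_mem ?_).2
    have e : D.z * (D.z * t) = t := by rw [← mul_assoc, D.ctx.sq_z, one_mul]
    rcases hA with h | h | h | h
    exacts [Or.inl h, Or.inr (Or.inl h), Or.inr (Or.inr (Or.inr (h.trans e.symm))),
      Or.inr (Or.inr (Or.inl h))]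
  rw [show q * y = q * w⁻¹ * (w * y) by group]
  exact mul_mem hA' hwy

theorem el_cases : ∀ i j k l : ZMod 2, i * j = i * l + j * k → k * l = i * l + j * k →
    (k = 0 ∧ l = 0) ∨ (i = 0 ∧ j = 0) ∨ (i = 1 ∧ j = 0 ∧ k = 1 ∧ l = 0) ∨
      (i = 0 ∧ j = 1 ∧ k = 0 ∧ l = 1) := by decide

theorem q_cases : ∀ i j : ZMod 2, i * j = 0 → (i = 0 ∧ j = 0) ∨ (i = 1 ∧ j = 0) ∨ (i = 0 ∧ j = 1) := by
  decide

theorem bits_eq : ∀ a b : ZMod 2, a + b = 0 → a = b := by decide

namespace Cfg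

variable {x x' h t q1 q2 y1 y2 : G} {v u r1 r2 : ι → ZMod 2}
  (K : Cfg D x x' h t q1 q2 y1 y2 v u r1 r2)
include K

theorem pt : D.Point t := K.coord.frame.pt

theorem fr : D.Frame x t v u := K.coord.frame

theorem xz : Commute x D.z := K.fr.comm_z

theorem xt : Commute x t := K.fr.comm_t

theorem x_sq : x * x = 1 := K.fr.sq

theorem h_conj {a b : G} (ha : Commute h a) (hb : Commute a b) : Commute a (h * b * h⁻¹) :=
  (ha.symm.mul_right hb).mul_right ha.symm.inv_right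

theorem x'z : Commute x' D.z := (K.conj1 ▸ K.h_conj K.hz K.xz.symm : Commute D.z x').symm

theorem x't : Commute x' t := (K.conj1 ▸ K.h_conj K.ht K.xt.symm : Commute t x').symm

theorem q1x' : Commute q1 x' := K.conj1 ▸ K.h_conj K.hq1 K.q1x

theorem q2x' : Commute q2 x' := K.conj1 ▸ K.h_conj K.hq2 K.q2x

theorem y1x' : Commute y1 x' := K.conj1 ▸ K.h_conj K.hy1 K.y1x

theorem y2x' : Commute y2 x' := K.conj1 ▸ K.h_conj K.hy2 K.y2x

theorem x'_sq : x' * x' = 1 := by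
  rw [← K.conj1, show h * x * h⁻¹ * (h * x * h⁻¹) = h * (x * x) * h⁻¹ by group, K.x_sq]; simp

theorem x_not_cl : ¬ D.Cl x := K.fr.not_cl

theorem h_not_cl {a : G} (ha : ¬ D.Cl a) : ¬ D.Cl (h * a * h⁻¹) := fun e => ha (by
  simpa [mul_assoc] using e.conj D h⁻¹)

theorem h_A {a : G} (ha : D.InA t a) : h * a * h⁻¹ = a := by
  have hc : Commute h a := by
    rcases ha with e | e | e | e <;> rw [e]
    exacts [Commute.one_right h, K.hz, K.ht, K.hz.mul_right K.ht]
  rw [hc.eq, mul_inv_cancel_right]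

theorem ax_not_cl {a : G} (ha : D.InA t a) :
    ¬ D.Cl (a * x) ∧ ¬ D.Cl (a * x') ∧ ¬ D.Cl (a * (x * x')) := by
  have h1 : ¬ D.Cl (a * x) := by
    obtain ⟨d, -, hd⟩ := K.fr.shift ha
    exact fun e => K.x_not_cl (by simpa [← hd, mul_assoc] using e.conj D d⁻¹)
  have h2 : ¬ D.Cl (a * x') := by
    rw [show a * x' = h * (a * x) * h⁻¹ by
      rw [show h * (a * x) * h⁻¹ = h * a * h⁻¹ * (h * x * h⁻¹) by group, K.h_A ha, K.conj1]]
    exact K.h_not_cl h1
  refine ⟨h1, h2, ?_⟩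
  rw [show a * (x * x') = h * (a * x') * h⁻¹ by
    rw [show h * (a * x') * h⁻¹ = h * a * h⁻¹ * (h * x' * h⁻¹) by group, K.h_A ha, K.conj2]]
  exact K.h_not_cl h2

theorem w_facts : ∃ (w : ι → ZMod 2) (ε : ZMod 2), D.B (D.cls t) w = 0 ∧ D.B v w = 1 ∧
    D.B u w = ε ∧ D.B r1 w = 0 ∧ D.B r2 w = 0 ∧ D.qf w = 1 ∧
    D.act x' = sGL D.qf D.B (D.cls t) w := by
  obtain ⟨w, hw, hvw, hact⟩ := K.act'
  obtain ⟨a, y, hx', ha, hy, hyv⟩ := K.pt.decompose K.x'z K.x't hw hact
  have hq : ∀ {q r}, D.InCQ t q → D.cls q = r → Commute q x' → D.B r w = 0 := by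
    intro q r hq hr hc
    have e := K.pt.swap_mul hq K.pt.pq_one ha hy (v := 0) (map_zero _) hw
      (by rw [D.act_one, ← siegel_zero D.space K.pt.cls_sing 0, zero_smul]) hyv
    rw [mul_one, ← hx', hc.eq] at e
    have h2 := (K.pt.zt_eq_one (mul_eq_right.1 e.symm)).2
    rw [hr] at h2
    simpa using h2
  have h1 := hq K.cq1 K.cls1 K.q1x'
  have h2 := hq K.cq2 K.cls2 K.q2x'
  obtain ⟨α, hα⟩ := K.coord.decomp hw
  refine ⟨w, D.B u w, hw, hvw, rfl, h1, h2, ?_, hact⟩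
  rw [hα, hvw, h1, h2, zero_smul, add_zero, zero_smul, add_zero, D.space.add, D.space.add,
    D.space.smul, D.space.smul, D.space.smul, K.pt.cls_sing, K.fr.qu, frame_qv K.coord.six K.fr]
  generalize D.B u w = ε
  simp only [map_add, map_smul, LinearMap.add_apply, LinearMap.smul_apply, K.fr.uperp, K.fr.vperp,
    K.coord.uv, smul_eq_mul]
  rcases bit ε with rfl | rfl <;> simp [bit_self]

/-- The four-group of the second class. -/
def InV (_K : Cfg D x x' h t q1 q2 y1 y2 v u r1 r2) (a : G) : Prop :=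
  a = 1 ∨ a = x ∨ a = x' ∨ a = x * x'

/-- The elements centralizing `z`, `t` and `x`. -/
def InM (_K : Cfg D x x' h t q1 q2 y1 y2 v u r1 r2) (c : G) : Prop :=
  Commute c D.z ∧ Commute c t ∧ Commute c x

theorem vp_mem (i j : ZMod 2) : K.InV (pick x i * pick x' j) := by
  rcases bit i with rfl | rfl <;> rcases bit j with rfl | rfl <;> simp [InV]

theorem V_M {a : G} (ha : K.InV a) : K.InM a := by
  rcases ha with e | e | e | e <;> rw [e]
  exacts [⟨Commute.one_left _, Commute.one_left _, Commute.one_left _⟩,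
    ⟨K.xz, K.xt, Commute.refl x⟩, ⟨K.x'z, K.x't, K.xx'.symm⟩,
    ⟨K.xz.mul_left K.x'z, K.xt.mul_left K.x't, (Commute.refl x).mul_left K.xx'.symm⟩]

theorem V_sq {a : G} (ha : K.InV a) : a * a = 1 := by
  rcases ha with e | e | e | e <;> rw [e]
  · exact one_mul 1
  · exact K.x_sq
  · exact K.x'_sq
  · rw [K.xx'.symm.mul_mul_mul_comm, K.x_sq, K.x'_sq, one_mul]

theorem vp_act : ∃ (w : ι → ZMod 2), D.B (D.cls t) w = 0 ∧ D.B v w = 1 ∧ D.B r1 w = 0 ∧
    D.B r2 w = 0 ∧ D.qf w = 1 ∧ D.act x' = sGL D.qf D.B (D.cls t) w ∧ ∀ i j : ZMod 2,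
      D.act (pick x i * pick x' j) = sGL D.qf D.B (D.cls t) (i • v + j • w) ∧
        D.B (D.cls t) (i • v + j • w) = 0 := by
  obtain ⟨w, ε, hw, hvw, -, h1, h2, hQ, hact⟩ := K.w_facts
  refine ⟨w, hw, hvw, h1, h2, hQ, hact, fun i j => ⟨?_, ?_⟩⟩
  · have e1 : Commute (pick x i) D.z ∧ D.act (pick x i) = sGL D.qf D.B (D.cls t) (i • v) := by
      rcases bit i with rfl | rfl
      · refine ⟨by simp, ?_⟩
        rw [pick_zero, D.act_one, zero_smul, ← siegel_zero D.space K.pt.cls_sing 0, zero_smul]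
      · simpa using And.intro K.xz K.fr.act_eq
    have e2 : Commute (pick x' j) D.z ∧ D.act (pick x' j) = sGL D.qf D.B (D.cls t) (j • w) := by
      rcases bit j with rfl | rfl
      · refine ⟨by simp, ?_⟩
        rw [pick_zero, D.act_one, zero_smul, ← siegel_zero D.space K.pt.cls_sing 0, zero_smul]
      · simpa using And.intro K.x'z hact
    rw [D.act_mul _ _ e1.1 e2.1, e1.2, e2.2, sGL_mul D.space K.pt.cls_sing
      (by rw [map_smul, K.fr.vperp, smul_zero]) (by rw [map_smul, hw, smul_zero])]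
  · rw [map_add, map_smul, map_smul, K.fr.vperp, hw, smul_zero, smul_zero, add_zero]

theorem qi_facts (i j : ZMod 2) : D.InCQ t (pick q1 i * pick q2 j) ∧
    D.cls (pick q1 i * pick q2 j) = i • r1 + j • r2 := by
  obtain ⟨h1, e1⟩ := pick_cq K.pt K.cq1 i
  obtain ⟨h2, e2⟩ := pick_cq K.pt K.cq2 j
  exact ⟨⟨mul_mem h1.1 h2.1, h1.2.mul_left h2.2⟩,
    by rw [D.cls_mul _ h1.1 _ h2.1, e1, e2, K.cls1, K.cls2]⟩

theorem yi_facts (k l : ZMod 2) : D.InPQ t (pick y1 k * pick y2 l) ∧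
    D.act (pick y1 k * pick y2 l) = sGL D.qf D.B (D.cls t) (k • r1 + l • r2) ∧
    D.B (D.cls t) (k • r1 + l • r2) = 0 := by
  obtain ⟨h1, e1⟩ := pick_pq K.pt K.pq1 K.act1 k
  obtain ⟨h2, e2⟩ := pick_pq K.pt K.pq2 K.act2 l
  refine ⟨K.pt.pq_mul h1 h2, ?_, by simp [K.coord.pr, K.coord.pr']⟩
  rw [D.act_mul _ _ h1.2 h2.2, e1, e2, sGL_mul D.space K.pt.cls_sing
    (by simp [K.coord.pr]) (by simp [K.coord.pr'])]

theorem A_M {a : G} (ha : D.InA t a) : K.InM a := by
  rcases ha with e | e | e | e <;> rw [e]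
  exacts [⟨Commute.one_left _, Commute.one_left _, Commute.one_left _⟩,
    ⟨Commute.refl _, K.pt.comm_zt, K.xz.symm⟩, ⟨K.pt.comm_zt.symm, Commute.refl _, K.xt.symm⟩,
    ⟨(Commute.refl _).mul_left K.pt.comm_zt.symm, K.pt.comm_zt.mul_left (Commute.refl _),
      K.xz.symm.mul_left K.xt.symm⟩]

theorem M_mul {a b : G} (ha : K.InM a) (hb : K.InM b) : K.InM (a * b) :=
  ⟨ha.1.mul_left hb.1, ha.2.1.mul_left hb.2.1, ha.2.2.mul_left hb.2.2⟩

theorem M_inv {a : G} (ha : K.InM a) : K.InM a⁻¹ :=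
  ⟨ha.1.inv_left, ha.2.1.inv_left, ha.2.2.inv_left⟩

theorem el_comm (i j k l : ZMod 2) :
    Commute (elm q1 q2 y1 y2 i j k l) x ∧ Commute (elm q1 q2 y1 y2 i j k l) x' := by
  have hp : ∀ {q w : G} (i : ZMod 2), Commute q w → Commute (pick q i) w := fun i h => pick_comm h i
  exact ⟨((hp i K.q1x).mul_left (hp j K.q2x)).mul_left ((hp k K.y1x).mul_left (hp l K.y2x)),
    ((hp i K.q1x').mul_left (hp j K.q2x')).mul_left ((hp k K.y1x').mul_left (hp l K.y2x'))⟩

theorem el_M (i j k l : ZMod 2) : K.InM (elm q1 q2 y1 y2 i j k l) :=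
  ⟨(D.ctx.central _ (K.qi_facts i j).1.1).symm.mul_left (K.yi_facts k l).1.2,
    (K.qi_facts i j).1.2.mul_left (K.pt.pq_commute_t (K.yi_facts k l).1), (K.el_comm i j k l).1⟩

theorem el_act (i j k l : ZMod 2) :
    D.act (elm q1 q2 y1 y2 i j k l) = sGL D.qf D.B (D.cls t) (k • r1 + l • r2) := by
  show D.act (pick q1 i * pick q2 j * (pick y1 k * pick y2 l)) = _
  rw [D.act_mul _ _ (D.ctx.central _ (K.qi_facts i j).1.1).symm (K.yi_facts k l).1.2,
    D.act_q (K.qi_facts i j).1.1, one_mul, (K.yi_facts k l).2.1]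

theorem el_sq (i j k l : ZMod 2) :
    elm q1 q2 y1 y2 i j k l * elm q1 q2 y1 y2 i j k l = 1 ↔
      i * j = i * l + j * k ∧ k * l = i * l + j * k := by
  obtain ⟨hq, hqc⟩ := K.qi_facts i j
  obtain ⟨hy, hya, hyp⟩ := K.yi_facts k l
  refine (K.pt.sq_iff hq hy hyp hya).trans ?_
  rw [hqc]
  simp [D.space.add, D.space.smul, K.qr1, K.qr2, B_self D.space, D.space.symm r2 r1, K.coord.rr]
  constructor <;> rintro ⟨a, b⟩ <;> exact ⟨by linear_combination a, by linear_combination b⟩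

/-- An involution of the radical part is conjugate to `z`. -/
theorem cl_el {a : G} (ha : D.InA t a) {i j k l : ZMod 2}
    (h2 : elm q1 q2 y1 y2 i j k l * elm q1 q2 y1 y2 i j k l = 1)
    (h1 : a * elm q1 q2 y1 y2 i j k l ≠ 1) : D.Cl (a * elm q1 q2 y1 y2 i j k l) := by
  obtain ⟨e1, e2⟩ := (K.el_sq i j k l).1 h2
  have hsq : a * elm q1 q2 y1 y2 i j k l * (a * elm q1 q2 y1 y2 i j k l) = 1 := by
    have hc : Commute a (elm q1 q2 y1 y2 i j k l) :=
      K.pt.A_move a ha (K.qi_facts i j).1 (K.yi_facts k l).1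
    rw [hc.symm.mul_mul_mul_comm, h2, mul_one]
    obtain ⟨i', j', rfl⟩ := K.pt.inA_zt ha
    rw [K.pt.zt_add, bit_self, bit_self]; simp [Data.zt]
  rcases el_cases i j k l e1 e2 with ⟨rfl, rfl⟩ | ⟨rfl, rfl⟩ | ⟨rfl, rfl, rfl, rfl⟩ |
    ⟨rfl, rfl, rfl, rfl⟩
  · refine D.cl_of_mem (mul_mem (K.pt.inA_mem ha).1 ?_) hsq h1
    simpa [elm] using (K.qi_facts i j).1.1
  · refine D.cl_of_Qof K.pt.cl (mul_mem (K.pt.inA_mem ha).2 ?_) hsq h1
    simpa [elm] using (K.yi_facts k l).1.1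
  all_goals
    refine D.cl_of_Qof K.pt.z_mul.cl (mul_mem ?_ ?_) hsq h1
    · refine (K.pt.z_mul.inA_mem ?_).2
      have e : D.z * (D.z * t) = t := by rw [← mul_assoc, D.ctx.sq_z, one_mul]
      rcases ha with h | h | h | h
      exacts [Or.inl h, Or.inr (Or.inl h), Or.inr (Or.inr (Or.inr (h.trans e.symm))),
        Or.inr (Or.inr (Or.inl h))]
  · simpa [elm] using qy_Qof K.pt K.coord.pr K.cq1 K.cls1 K.pq1 K.act1
  · simpa [elm] using qy_Qof K.pt K.coord.pr' K.cq2 K.cls2 K.pq2 K.act2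

/-- The action of an element centralizing `z`, `t`, `x` is trivial modulo the point. -/
theorem M_act {c : G} (hc : K.InM c) :
    ∃ b, D.B (D.cls t) b = 0 ∧ D.act c = sGL D.qf D.B (D.cls t) b := by
  obtain ⟨hcz, hct, hcx⟩ := hc
  set p := D.cls t with hpdef
  have hiso := D.act_iso hcz
  have hkp : (D.act c).val *ᵥ p = p := K.pt.act_fix hcz hct
  obtain ⟨q, y, hxqy, hq, hqu, hy, hyv⟩ := K.fr.dec
  have hq' := K.pt.cq_conj hcz hct hq
  have hy' := K.pt.pq_conj hcz hct hy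
  have heq : c * q * c⁻¹ * (c * y * c⁻¹) = q * y := by
    rw [show c * q * c⁻¹ * (c * y * c⁻¹) = c * (q * y) * c⁻¹ by group, ← hxqy, hcx.eq,
      mul_inv_cancel_right]
  have hA : D.InA t (q⁻¹ * (c * q * c⁻¹)) := by
    refine K.pt.inter (mul_mem (inv_mem hq.1) hq'.1) ?_
    rw [show q⁻¹ * (c * q * c⁻¹) = y * (c * y * c⁻¹)⁻¹ by
      rw [eq_mul_inv_iff_mul_eq, mul_assoc, heq, ← mul_assoc, inv_mul_cancel, one_mul]]
    exact mul_mem hy.1 (inv_mem hy'.1)
  obtain ⟨αu, hαu⟩ := K.pt.cls_inA hA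
  have hku : (D.act c).val *ᵥ u = u + αu • p := by
    rw [D.cls_mul _ (inv_mem hq.1) _ hq'.1, D.cls_inv hq.1, D.act_cls c hcz q hq.1, hqu] at hαu
    rw [← hαu, ← add_assoc, vadd_self, zero_add]
  have hact : D.act (c * x * c⁻¹) = D.act x := by rw [hcx.eq, mul_inv_cancel_right]
  rw [D.act_mul _ _ (hcz.mul_left K.xz) hcz.inv_left, D.act_mul _ _ hcz K.xz, D.act_inv hcz,
    K.fr.act_eq, sGL_conj D.space K.pt.cls_sing K.fr.vperp hiso, hkp] at hact
  have hkvp : D.B p ((D.act c).val *ᵥ v) = 0 := by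
    nth_rewrite 1 [← hkp]
    rw [D.space.B_act hiso]; exact K.fr.vperp
  obtain ⟨αv, hαv⟩ := siegel_eq D.space K.pt.cls_sing K.pt.cls_ne K.fr.vperp hkvp hact.symm
  have huv := K.coord.uv
  -- images of the pair
  have himg : ∀ r, D.B p r = 0 → D.B u r = 0 → D.B v r = 0 → D.qf r = 0 →
      ∃ (i j α : ZMod 2), i * j = 0 ∧
        (D.act c).val *ᵥ r = α • p + i • r1 + j • r2 := by
    intro r hpr hur hvr hQr
    set β := (D.act c).val *ᵥ r with hβ
    have hpβ : D.B p β = 0 := by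
      nth_rewrite 1 [← hkp]
      rw [D.space.B_act hiso]; exact hpr
    have huβ : D.B u β = 0 := by
      have e := D.space.B_act hiso u r
      rw [hku, map_add, map_smul, LinearMap.add_apply, LinearMap.smul_apply, hpβ, smul_zero,
        add_zero, hur] at e
      exact e
    have hvβ : D.B v β = 0 := by
      have e := D.space.B_act hiso v r
      rw [hαv, map_add, map_smul, LinearMap.add_apply, LinearMap.smul_apply, hpβ, smul_zero,
        add_zero, hvr] at e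
      exact e
    obtain ⟨α, hα⟩ := K.coord.decomp hpβ
    rw [huβ, hvβ, zero_smul, zero_smul, add_zero, add_zero] at hα
    refine ⟨_, _, α, ?_, hα⟩
    have hQβ : D.qf β = 0 := (mem_iso.1 hiso r).trans hQr
    rw [hα] at hQβ
    simpa [D.space.add, D.space.smul, K.pt.cls_sing, K.qr1, K.qr2, K.coord.pr, K.coord.pr',
      K.coord.rr, mul_comm] using hQβ
  obtain ⟨i, j, α1, hij, hk1⟩ := himg r1 K.coord.pr K.coord.ur K.coord.vr K.qr1
  obtain ⟨i', j', α2, hij', hk2⟩ := himg r2 K.coord.pr' K.coord.ur' K.coord.vr' K.qr2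
  have hrr : i * j' + j * i' = 1 := by
    have e := D.space.B_act hiso r1 r2
    rw [hk1, hk2, K.coord.rr] at e
    simpa [show D.B p r1 = 0 from K.coord.pr, show D.B p r2 = 0 from K.coord.pr', K.coord.rr, B_self D.space, D.space.symm r1 p,
      D.space.symm r2 p, D.space.symm r2 r1] using e
  obtain ⟨rfl, rfl, rfl, rfl⟩ : i = 1 ∧ j = 0 ∧ i' = 0 ∧ j' = 1 := by
    have hcase : ∀ i j i' j' : ZMod 2, i * j = 0 → i' * j' = 0 → i * j' + j * i' = 1 →
        (i = 1 ∧ j = 0 ∧ i' = 0 ∧ j' = 1) ∨ (i = 0 ∧ j = 1 ∧ i' = 1 ∧ j' = 0) := by decide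
    refine (hcase i j i' j' hij hij' hrr).resolve_right fun hsw => ?_
    obtain ⟨rfl, rfl, rfl, rfl⟩ := hsw
    simp only [zero_smul, one_smul, add_zero] at hk1 hk2
    have hQ : D.qf (r1 + r2) = 1 := by
      rw [D.space.add, K.qr1, K.qr2, K.coord.rr, zero_add, zero_add]
    have hps : D.B p (r1 + r2) = 0 := by rw [map_add, K.coord.pr, K.coord.pr', add_zero]
    refine K.coord.no_refl (D.act_mem c hcz) hkp hQ hps fun w hw => ?_
    have hrp : ∀ α : ZMod 2, D.B (r1 + r2) (α • p) = 0 := fun α => by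
      rw [map_smul, D.space.symm, hps, smul_zero]
    simp only [List.mem_cons, List.mem_nil_iff, or_false] at hw
    rw [mul_act]
    rcases hw with rfl | rfl | rfl | rfl
    · refine ⟨αu, ?_⟩
      rw [hku, rGL_apply D.space hQ, map_add (D.B (r1 + r2)) w, hrp, add_zero, map_add,
        LinearMap.add_apply, D.space.symm r1, D.space.symm r2, K.coord.ur, K.coord.ur', add_zero,
        zero_smul, add_zero]
    · refine ⟨αv, ?_⟩
      rw [hαv, rGL_apply D.space hQ, map_add (D.B (r1 + r2)) w, hrp, add_zero, map_add,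
        LinearMap.add_apply, D.space.symm r1, D.space.symm r2, K.coord.vr, K.coord.vr', add_zero,
        zero_smul, add_zero]
    · refine ⟨α1, ?_⟩
      rw [hk1, rGL_apply D.space hQ, map_add (D.B (w + r2)) (α1 • p), hrp, zero_add, map_add,
        LinearMap.add_apply, B_self D.space, add_zero, K.coord.rr, one_smul, add_assoc,
        show r2 + (w + r2) = w by rw [← add_assoc, add_comm r2 w, add_assoc, vadd_self, add_zero],
        add_comm]
    · refine ⟨α2, ?_⟩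
      rw [hk2, rGL_apply D.space hQ, map_add (D.B (r1 + w)) (α2 • p), hrp, zero_add, map_add,
        LinearMap.add_apply, B_self D.space, zero_add, D.space.symm, K.coord.rr, one_smul,
        add_assoc, show r1 + (r1 + w) = w by rw [← add_assoc, vadd_self, zero_add], add_comm]
  simp only [zero_smul, one_smul, add_zero] at hk1 hk2
  refine exists_siegel D.space hiso K.pt.cls_sing K.pt.cls_ne hkp fun w hw => ?_
  obtain ⟨α, hα⟩ := K.coord.decomp hw
  refine ⟨D.B v w * αu + D.B u w * αv + D.B r2 w * α1 + D.B r1 w * α2, ?_⟩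
  conv_lhs => rw [hα]
  conv_rhs => arg 1; rw [hα]
  simp only [Matrix.mulVec_add, Matrix.mulVec_smul, hkp, hku, hαv, hk1, hk2, smul_add, add_smul,
    mul_smul, ← hpdef]
  abel

/-- The normal form. -/
theorem M_decomp {c : G} (hc : K.InM c) : ∃ (a : G) (i' j' i j k l : ZMod 2), D.InA t a ∧
    c = a * (pick x i' * pick x' j') * elm q1 q2 y1 y2 i j k l := by
  obtain ⟨b, hb, hcb⟩ := K.M_act hc
  obtain ⟨w, hw, hvw, hr1w, hr2w, -, -, hvp⟩ := K.vp_act
  set p := D.cls t with hpdef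
  obtain ⟨j', hj'⟩ : ∃ j', j' = D.B v b := ⟨_, rfl⟩
  obtain ⟨i', hi'⟩ : ∃ i', i' = D.B u b + j' * D.B u w := ⟨_, rfl⟩
  obtain ⟨hva, hvb⟩ := hvp i' j'
  set V0 := pick x i' * pick x' j'
  have hV0 := K.V_M (K.vp_mem i' j')
  set b' := b + (i' • v + j' • w) with hb'd
  have hpb' : D.B p b' = 0 := by rw [map_add, hb, hvb, add_zero]
  have hub' : D.B u b' = 0 := by
    simp only [hb'd, map_add, map_smul, K.coord.uv, smul_eq_mul, hi', mul_one]
    linear_combination bit_self (D.B u b) + bit_self (j' * D.B u w)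
  have hvb' : D.B v b' = 0 := by
    simp [hb'd, B_self D.space, hvw, hj', bit_self]
  have hc' := K.M_mul hc hV0
  have hc'a : D.act (c * V0) = sGL D.qf D.B p b' := by
    rw [D.act_mul _ _ hc.1 hV0.1, hcb, hva, sGL_mul D.space K.pt.cls_sing hb hvb]
  obtain ⟨q', y', hqy, hq', hy', hy'b⟩ := K.pt.decompose hc'.1 hc'.2.1 hpb' hc'a
  obtain ⟨q0, y0, hx, hq0, hq0u, hy0, hy0v⟩ := K.fr.dec
  have e := K.pt.swap_mul hq' hy' hq0 hy0 hpb' K.fr.vperp hy'b hy0v
  rw [← hqy, ← hx, hc'.2.2.eq, hq0u] at e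
  obtain ⟨e1, e2⟩ := K.pt.zt_eq_one (mul_eq_right.1 e.symm)
  rw [hub', D.space.symm b' v, hvb', zero_add, zero_add] at e2
  rw [hub', e2, zero_add, add_zero] at e1
  have hpa : D.B p (D.cls q') = 0 := (K.pt.inCQ_iff hq'.1).1 hq'
  obtain ⟨α, hα⟩ := K.coord.decomp hpa
  rw [D.space.symm v, D.space.symm u, e2, e1, zero_smul, zero_smul, add_zero, add_zero] at hα
  obtain ⟨hqi, hqic⟩ := K.qi_facts (D.B r2 (D.cls q')) (D.B r1 (D.cls q'))
  have hA1 := K.pt.inA_of_cls (mul_mem hq'.1 (inv_mem hqi.1)) (α := α) (by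
    rw [D.cls_mul _ hq'.1 _ (inv_mem hqi.1), D.cls_inv hqi.1, hqic]
    conv_lhs => arg 1; rw [hα]
    rw [add_assoc (α • p), add_assoc, vadd_self, add_zero])
  obtain ⟨β, hβ⟩ := K.coord.decomp hpb'
  rw [hub', hvb', zero_smul, zero_smul, add_zero, add_zero] at hβ
  obtain ⟨hyi, hyia, hyip⟩ := K.yi_facts (D.B r2 b') (D.B r1 b')
  obtain ⟨e', he', hey⟩ := K.pt.same_label hyi hy' (by
    rw [hyia, hy'b]
    refine ((congrArg (sGL D.qf D.B (D.cls t)) (hβ.trans (show β • p + D.B r2 b' • r1 +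
      D.B r1 b' • r2 = D.B r2 b' • r1 + D.B r1 b' • r2 + β • p by abel))).trans ?_).symm
    exact sGL_add_self D.space K.pt.cls_sing hyip β)
  obtain ⟨qi, hqid⟩ : ∃ qi, qi = pick q1 (D.B r2 (D.cls q')) * pick q2 (D.B r1 (D.cls q')) :=
    ⟨_, rfl⟩
  obtain ⟨yi, hyid⟩ : ∃ yi, yi = pick y1 (D.B r2 b') * pick y2 (D.B r1 b') := ⟨_, rfl⟩
  rw [← hqid] at hqi hA1
  rw [← hyid] at hyi hey
  obtain ⟨a0, ha0⟩ : ∃ a0, a0 = q' * qi⁻¹ := ⟨_, rfl⟩
  rw [← ha0] at hA1
  have hq'e : q' = a0 * qi := by rw [ha0]; group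
  obtain ⟨i1, j1, hz1⟩ := K.pt.inA_zt hA1
  obtain ⟨i2, j2, hz2⟩ := K.pt.inA_zt he'
  have hAA : D.InA t (a0 * e') := by rw [hz1, hz2, K.pt.zt_add]; exact K.pt.zt_A _ _
  refine ⟨a0 * e', i', j', D.B r2 (D.cls q'), D.B r1 (D.cls q'), D.B r2 b', D.B r1 b', hAA, ?_⟩
  have hV : V0⁻¹ = V0 := inv_eq_of_mul_eq_one_right (K.V_sq (K.vp_mem i' j'))
  have hE : elm q1 q2 y1 y2 (D.B r2 (D.cls q')) (D.B r1 (D.cls q')) (D.B r2 b') (D.B r1 b') =
      qi * yi := by rw [hqid, hyid]; rfl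
  have hVc : Commute V0 (a0 * e' * (qi * yi)) := by
    rw [← hE]
    have h1 : Commute V0 (a0 * e') := by
      have hx : ∀ {s}, Commute s D.z → Commute s t → Commute s (a0 * e') := fun h1 h2 => by
        rcases hAA with e | e | e | e <;> rw [e]
        exacts [Commute.one_right _, h1, h2, h1.mul_right h2]
      exact hx hV0.1 hV0.2.1
    refine h1.mul_right ?_
    obtain ⟨c1, c2⟩ := K.el_comm (D.B r2 (D.cls q')) (D.B r1 (D.cls q')) (D.B r2 b') (D.B r1 b')
    exact ((pick_comm c1.symm i').mul_left (pick_comm c2.symm j'))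
  rw [hE]
  calc c = (c * V0) * V0⁻¹ := by group
    _ = a0 * (qi * e') * yi * V0 := by rw [hqy, hV, hq'e, hey]; group
    _ = (a0 * e' * (qi * yi)) * V0 := by rw [← (K.pt.A_commute_cq he' hqi).eq]; group
    _ = V0 * (a0 * e' * (qi * yi)) := hVc.symm.eq
    _ = a0 * e' * V0 * (qi * yi) := by
      have h1 : Commute V0 (a0 * e') := by
        rcases hAA with e | e | e | e <;> rw [e]
        exacts [Commute.one_right _, hV0.1, hV0.2.1, hV0.1.mul_right hV0.2.1]
      rw [← mul_assoc, h1.eq]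

theorem inj {a b : G} (ha : D.InA t a) (hb : D.InA t b) {i' j' i j k l m' n' m n o r : ZMod 2}
    (he : a * (pick x i' * pick x' j') * elm q1 q2 y1 y2 i j k l =
      b * (pick x m' * pick x' n') * elm q1 q2 y1 y2 m n o r) :
    a = b ∧ i' = m' ∧ j' = n' ∧ i = m ∧ j = n ∧ k = o ∧ l = r := by
  obtain ⟨w, hw, hvw, hr1w, hr2w, -, -, hvp⟩ := K.vp_act
  set p := D.cls t with hpdef
  have hact : ∀ {a} (i' j' i j k l : ZMod 2), D.InA t a →
      D.act (a * (pick x i' * pick x' j') * elm q1 q2 y1 y2 i j k l) =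
        sGL D.qf D.B p (i' • v + j' • w + (k • r1 + l • r2)) := by
    intro a i' j' i j k l ha
    have h1 := (K.A_M ha).1
    have h2 := (K.V_M (K.vp_mem i' j')).1
    rw [D.act_mul _ _ (h1.mul_left h2) (K.el_M i j k l).1, D.act_mul _ _ h1 h2,
      D.act_q (K.pt.inA_mem ha).1, one_mul, (hvp i' j').1, K.el_act,
      sGL_mul D.space K.pt.cls_sing (hvp i' j').2 (K.yi_facts k l).2.2]
  have hB : ∀ i' j' k l : ZMod 2, D.B p (i' • v + j' • w + (k • r1 + l • r2)) = 0 := fun i' j' k l => by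
    rw [map_add, (hvp i' j').2, (K.yi_facts k l).2.2, add_zero]
  obtain ⟨α, hα⟩ := siegel_eq D.space K.pt.cls_sing K.pt.cls_ne (hB i' j' k l) (hB m' n' o r)
    ((hact i' j' i j k l ha).symm.trans ((congrArg D.act he).trans (hact m' n' m n o r hb)))
  have hvp' : D.B v p = 0 := (D.space.symm _ _).trans K.fr.vperp
  have hup : D.B u p = 0 := (D.space.symm _ _).trans K.fr.uperp
  have hr1p : D.B r1 p = 0 := (D.space.symm _ _).trans K.coord.pr
  have hr2p : D.B r2 p = 0 := (D.space.symm _ _).trans K.coord.pr'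
  have e1 := congrArg (D.B v) hα
  have e2 := congrArg (D.B u) hα
  have e3 := congrArg (D.B r2) hα
  have e4 := congrArg (D.B r1) hα
  simp [B_self D.space, hvw, hr1w, hr2w, K.coord.uv, K.coord.vr, K.coord.vr', K.coord.ur,
    K.coord.ur', K.coord.rr, D.space.symm r2 r1, D.space.symm r1 v, D.space.symm r2 v, ← hpdef,
    hvp', hup, hr1p, hr2p] at e1 e2 e3 e4
  subst e1 e3 e4
  obtain rfl : i' = m' := (add_right_cancel e2).symm
  have he2 : a * (pick q1 i * pick q2 j) = b * (pick q1 m * pick q2 n) := by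
    have hA : ∀ {a}, D.InA t a → ∀ i' j', Commute a (pick x i' * pick x' j') := fun {a} ha i' j' => by
      have h := K.V_M (K.vp_mem i' j')
      rcases ha with e | e | e | e <;> rw [e]
      exacts [Commute.one_left _, h.1.symm, h.2.1.symm, h.1.symm.mul_left h.2.1.symm]
    rw [(hA ha _ _).eq, (hA hb _ _).eq, mul_assoc _ a, mul_assoc _ b] at he
    have := mul_left_cancel he
    simp only [elm] at this
    rw [← mul_assoc a, ← mul_assoc b] at this
    exact mul_right_cancel this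
  obtain ⟨αa, hαa⟩ := K.pt.cls_inA ha
  obtain ⟨αb, hαb⟩ := K.pt.cls_inA hb
  have ec := congrArg D.cls he2
  rw [D.cls_mul _ (K.pt.inA_mem ha).1 _ (K.qi_facts i j).1.1,
    D.cls_mul _ (K.pt.inA_mem hb).1 _ (K.qi_facts m n).1.1, (K.qi_facts i j).2, (K.qi_facts m n).2,
    hαa, hαb, ← hpdef] at ec
  have e5 := congrArg (D.B r2) ec
  have e6 := congrArg (D.B r1) ec
  simp [B_self D.space, K.coord.rr, D.space.symm r2 r1, hr1p, hr2p] at e5 e6
  subst e5 e6
  exact ⟨mul_right_cancel he2, rfl, rfl, rfl, rfl, rfl, rfl⟩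

end Cfg

end Cfsg.Lib.Extra.SuzLocal
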