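import Cfsg.Agent.Lib.Extra.SuzLocal.QCount

/-!
# The order of the group modulo five

The conjugates of `z` number `315 · (J + N)` with `J` and `N` known modulo five.
-/

set_option autoImplicit false
set_option linter.style.haveILetI false
set_option linter.unusedSectionVars false

namespace Cfsg.Lib.Extra.SuzLocal

open Cfsg Module Cfsg.Lib.Linear.Orth Cfsg.Lib.Extra.Wide
open scoped Matrix

theorem rest_sum : ((Finset.univ.filter fun e : Code => OkC e).sum fun e =>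
    if e = zCode then 0 else if e.2 = 0 then 12 else if e.2.2.2 = 0 then 16 else 0) = 152 := by
  decide +kernel

universe u

variable {G : Type u} [Group G] {ι : Type} [Fintype ι] [DecidableEq ι] {D : Data G ι} [Finite G]

namespace Cfg

variable {x x' h t q1 q2 y1 y2 : G} {v u r1 r2 : ι → ZMod 2}
  (K : Cfg D x x' h t q1 q2 y1 y2 v u r1 r2)
include K

/-- The involutions `p` of `Q` with commutator `a` with `x`. -/
abbrev Fd (_K : Cfg D x x' h t q1 q2 y1 y2 v u r1 r2) (a : G) : Type u :=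
  {p : G // p ∈ D.Q ∧ p * p = 1 ∧ p * (x * p * x) = a}

theorem fd_facts {p a : G} (hp : p ∈ D.Q) (hp2 : p * p = 1) (he : p * (x * p * x) = a)
    (ha : a = D.z ∨ a = t ∨ a = D.z * t) :
    D.B (D.cls t) (D.cls p) = 0 ∧ ¬ Commute p x ∧ a ∈ Subgroup.zpowers (p * x) ∧ D.Cl p ∧
      Commute p t ∧ Commute p D.z := by
  have ha2 := (K.A_cl ha).sq D
  have ha1 := (K.A_cl ha).ne_one D
  have h0 : D.B (D.cls t) (D.cls p) = 0 := (bit _).resolve_right fun h1 => by
    have := K.d_sq hp h1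
    rw [he, ha2] at this
    exact D.ctx.ne_one this.symm
  refine ⟨h0, fun hc => ha1 (he ▸ (K.d_one_iff hp2).2 hc), ⟨2, ?_⟩,
    D.cl_of_mem hp hp2 fun e => ha1 ?_, ((K.pt.inCQ_iff hp).2 h0).2, (D.ctx.central p hp).symm⟩
  · show (p * x) ^ (2 : ℤ) = a
    rw [← he, zpow_two]; group
  · rw [← he, e, one_mul, mul_one, K.x_sq]

theorem card_Fd : Nat.card (K.Fd D.z) + (Nat.card (K.Fd t) + Nat.card (K.Fd (D.z * t))) = 12 ∧
    Nat.card (K.Fd t) = Nat.card (K.Fd (D.z * t)) := by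
  obtain ⟨n, hnz, hnx, hnt⟩ := K.exists_n
  have hsym : Nat.card (K.Fd t) = Nat.card (K.Fd (D.z * t)) := by
    refine Nat.card_congr (Equiv.subtypeEquiv (MulAut.conj n).toEquiv fun p => ?_)
    show p ∈ D.Q ∧ p * p = 1 ∧ p * (x * p * x) = t ↔ n * p * n⁻¹ ∈ D.Q ∧
      n * p * n⁻¹ * (n * p * n⁻¹) = 1 ∧ n * p * n⁻¹ * (x * (n * p * n⁻¹) * x) = D.z * t
    have e : n * p * n⁻¹ * (x * (n * p * n⁻¹) * x) = n * (p * (x * p * x)) * n⁻¹ := by
      have hx : n⁻¹ * x * n = x := by rw [mul_assoc, ← hnx.eq, inv_mul_cancel_left]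
      calc n * p * n⁻¹ * (x * (n * p * n⁻¹) * x)
          = n * (p * ((n⁻¹ * x * n) * p * (n⁻¹ * x * n))) * n⁻¹ := by group
        _ = _ := by rw [hx]
    constructor
    · rintro ⟨h1, h2, h3⟩
      exact ⟨D.conj_mem hnz h1, by
        rw [show n * p * n⁻¹ * (n * p * n⁻¹) = n * (p * p) * n⁻¹ by group, h2]; group,
        by rw [e, h3, hnt]⟩
    · rintro ⟨h1, h2, h3⟩
      refine ⟨?_, ?_, ?_⟩
      · have := D.conj_mem hnz.inv_left h1
        rwa [show n⁻¹ * (n * p * n⁻¹) * n⁻¹⁻¹ = p by group] at this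
      · rw [show n * p * n⁻¹ * (n * p * n⁻¹) = n * (p * p) * n⁻¹ by group, conj_eq_one_iff] at h2
        exact h2
      · rw [e, ← hnt] at h3
        exact mul_left_cancel (mul_right_cancel h3)
  refine ⟨?_, hsym⟩
  rw [← K.card_moved, ← Nat.card_sum, ← Nat.card_sum]
  let W := {p : G // p ∈ D.Q ∧ p * p = 1 ∧ D.B (D.cls t) (D.cls p) = 0 ∧ ¬ Commute p x}
  have mk : ∀ {a : G}, (a = D.z ∨ a = t ∨ a = D.z * t) → K.Fd a → W := fun ha p =>
    ⟨p.1, p.2.1, p.2.2.1, (K.fd_facts p.2.1 p.2.2.1 p.2.2.2 ha).1,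
      (K.fd_facts p.2.1 p.2.2.1 p.2.2.2 ha).2.1⟩
  refine Nat.card_eq_of_bijective (Sum.elim (fun p => (⟨p.1, p.2.1, p.2.2.1,
      (K.fd_facts p.2.1 p.2.2.1 p.2.2.2 (Or.inl rfl)).1,
      (K.fd_facts p.2.1 p.2.2.1 p.2.2.2 (Or.inl rfl)).2.1⟩ : W))
    (Sum.elim (fun p => (⟨p.1, p.2.1, p.2.2.1,
      (K.fd_facts p.2.1 p.2.2.1 p.2.2.2 (Or.inr (Or.inl rfl))).1,
      (K.fd_facts p.2.1 p.2.2.1 p.2.2.2 (Or.inr (Or.inl rfl))).2.1⟩ : W))
    (fun p => (⟨p.1, p.2.1, p.2.2.1,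
      (K.fd_facts p.2.1 p.2.2.1 p.2.2.2 (Or.inr (Or.inr rfl))).1,
      (K.fd_facts p.2.1 p.2.2.1 p.2.2.2 (Or.inr (Or.inr rfl))).2.1⟩ : W)))) ⟨?_, ?_⟩
  · have hne1 : D.z ≠ t := K.pt.ne_z.symm
    have hne2 : D.z ≠ D.z * t := fun e => K.pt.ne_one (left_eq_mul.1 e)
    have hne3 : t ≠ D.z * t := fun e => D.ctx.ne_one (right_eq_mul.1 e)
    rintro (⟨p, h1, h2, h3⟩ | ⟨p, h1, h2, h3⟩ | ⟨p, h1, h2, h3⟩)
      (⟨p', k1, k2, k3⟩ | ⟨p', k1, k2, k3⟩ | ⟨p', k1, k2, k3⟩) e <;>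
      obtain rfl : p = p' := congrArg Subtype.val e
    exacts [rfl, absurd (h3.symm.trans k3) hne1, absurd (h3.symm.trans k3) hne2,
      absurd (k3.symm.trans h3) hne1, rfl, absurd (h3.symm.trans k3) hne3,
      absurd (k3.symm.trans h3) hne2, absurd (k3.symm.trans h3) hne3, rfl]
  · rintro ⟨p, h1, h2, h0, hx⟩
    rcases K.d_perp h1 h0 with e | e | e | e
    · exact absurd ((K.d_one_iff h2).1 e) hx
    · exact ⟨Sum.inl ⟨p, h1, h2, e⟩, rfl⟩
    · exact ⟨Sum.inr (Sum.inl ⟨p, h1, h2, e⟩), rfl⟩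
    · exact ⟨Sum.inr (Sum.inr ⟨p, h1, h2, e⟩), rfl⟩

theorem z_move {β g : G} (hβ : β = t ∨ β = D.z * t) (hg : Commute g x)
    (hgb : g * β * g⁻¹ = D.z) : g * D.z * g⁻¹ = t ∨ g * D.z * g⁻¹ = D.z * t := by
  have hβ' : β = D.z ∨ β = t ∨ β = D.z * t := Or.inr hβ
  refine ((K.move (g := g) hg hβ' (Or.inl hgb)).2.1 D.z (Or.inl rfl)).resolve_left fun e => ?_
  have e' : D.z = β := mul_left_cancel (mul_right_cancel (e.trans hgb.symm))
  rcases hβ with rfl | rfl
  exacts [K.pt.ne_z e'.symm, K.pt.ne_one (left_eq_mul.1 e')]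

/-- The conjugates outside `Q` at one point of the line of the pair. -/
theorem card_at {β g : G} (hβ : β = t ∨ β = D.z * t) (hg : Commute g x)
    (hgb : g * β * g⁻¹ = D.z) :
    Nat.card {p : G // ((D.Cl p ∧ D.z ∈ Subgroup.zpowers (p * x)) ∧ Commute p t) ∧ p ∉ D.Q ∧
      p ∈ D.Qof β} = Nat.card (K.Fd (g * D.z * g⁻¹)) := by
  have hβT : K.InT β := by
    rcases hβ with rfl | rfl
    exacts [⟨K.pt.cl, K.xt.symm⟩, ⟨K.pt.z_mul.cl, K.xz.symm.mul_left K.xt.symm⟩]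
  have hβQ : β ∈ D.Q := by rcases hβ with rfl | rfl; exacts [K.pt.mem, K.pt.z_mul.mem]
  have hβz : β ≠ D.z := by rcases hβ with rfl | rfl; exacts [K.pt.ne_z, K.pt.z_mul.ne_z]
  have hgx : g * x * g⁻¹ = x := mul_inv_eq_iff_eq_mul.2 hg.eq
  have ha := Or.inr (K.z_move hβ hg hgb) (a := g * D.z * g⁻¹ = D.z)
  refine Nat.card_congr (Equiv.subtypeEquiv (MulAut.conj g).toEquiv fun p => ?_)
  show _ ↔ g * p * g⁻¹ ∈ D.Q ∧ g * p * g⁻¹ * (g * p * g⁻¹) = 1 ∧
    g * p * g⁻¹ * (x * (g * p * g⁻¹) * x) = g * D.z * g⁻¹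
  constructor
  · rintro ⟨⟨⟨hp, hz⟩, -⟩, -, hm⟩
    obtain ⟨h1, -, h3, -⟩ := K.transport hβT hβQ hβz hp hm hz hg hgb
    exact ⟨h1, (hp.conj D g).sq D, h3⟩
  · rintro ⟨h1, h2, h3⟩
    obtain ⟨h0, hnx, hzp, hcl, hct, hcz⟩ := K.fd_facts h1 h2 h3 ha
    have hp : D.Cl p := by simpa [mul_assoc] using hcl.conj D g⁻¹
    have hm : p ∈ D.Qof β := by
      have h4 := D.Qof_conj D.cl_z g⁻¹ (show g * p * g⁻¹ ∈ D.Qof D.z by rwa [D.Qof_self])
      rwa [show g⁻¹ * (g * p * g⁻¹) * g⁻¹⁻¹ = p by group,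
        show g⁻¹ * D.z * g⁻¹⁻¹ = β by rw [← hgb]; group] at h4
    have hpz : Commute p D.z := (Commute.conj_iff g).1 (by
      rcases ha with e | e | e <;> rw [e]
      exacts [hcz, hct, hcz.mul_right hct])
    have hpt : Commute p t := by
      have h5 : Commute p β := ((D.ctx_Qof hβT.1).central p hm).symm
      rcases hβ with rfl | rfl
      · exact h5
      · have := hpz.mul_right h5
        rwa [← mul_assoc, D.ctx.sq_z, one_mul] at this
    refine ⟨⟨⟨hp, ?_⟩, hpt⟩, fun hpQ => hnx ?_, hm⟩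
    · obtain ⟨i, hi⟩ := Subgroup.mem_zpowers_iff.1 hzp
      refine ⟨i, ?_⟩
      show (p * x) ^ i = D.z
      have e : g * p * g⁻¹ * x = g * (p * x) * g⁻¹ := by rw [mul_assoc _ g⁻¹ x, hg.inv_left.eq]; group
      rw [e, conj_zpow] at hi
      exact mul_left_cancel (mul_right_cancel hi)
    · have hA : D.InA t p := by
        rcases hβ with rfl | rfl
        · exact K.pt.inter hpQ hm
        · have hez : D.z * (D.z * t) = t := by rw [← mul_assoc, D.ctx.sq_z, one_mul]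
          rcases K.pt.z_mul.inter hpQ hm with h' | h' | h' | h'
          exacts [Or.inl h', Or.inr (Or.inl h'), Or.inr (Or.inr (Or.inr h')),
            Or.inr (Or.inr (Or.inl (h'.trans hez)))]
      rw [← hgx]; exact (Commute.conj_iff g).2 (K.A_comm hA K.xz K.xt)

theorem card_H_A : Nat.card (K.Hset t) = 12 := by
  classical
  obtain ⟨hsum, hsym⟩ := K.card_Fd
  obtain ⟨g1, hg1, hgb1⟩ := K.T_mover (⟨K.pt.cl, K.xt.symm⟩ : K.InT t)
  obtain ⟨g2, hg2, hgb2⟩ := K.T_mover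
    (⟨K.pt.z_mul.cl, K.xz.symm.mul_left K.xt.symm⟩ : K.InT (D.z * t))
  have e1 := K.card_at (Or.inl rfl) hg1 hgb1
  have e2 := K.card_at (Or.inr rfl) hg2 hgb2
  have hzt : ∀ {g β : G}, (β = t ∨ β = D.z * t) → Commute g x → g * β * g⁻¹ = D.z →
      Nat.card (K.Fd (g * D.z * g⁻¹)) = Nat.card (K.Fd t) := fun {g β} hβ hg hgb => by
    rcases K.z_move hβ hg hgb with e | e <;> rw [e]
    exact hsym.symm
  rw [hzt (Or.inl rfl) hg1 hgb1] at e1
  rw [hzt (Or.inr rfl) hg2 hgb2] at e2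
  rw [← hsym] at hsum
  rw [← hsum]
  conv_rhs => arg 2; arg 1; rw [← e1]
  conv_rhs => arg 2; arg 2; rw [← e2]
  rw [← Nat.card_sum, ← Nat.card_sum]
  refine (Nat.card_eq_of_bijective (Sum.elim
    (fun p => (⟨p.1, ⟨(K.fd_facts p.2.1 p.2.2.1 p.2.2.2 (Or.inl rfl)).2.2.2.1,
      (K.fd_facts p.2.1 p.2.2.1 p.2.2.2 (Or.inl rfl)).2.2.1⟩,
      (K.fd_facts p.2.1 p.2.2.1 p.2.2.2 (Or.inl rfl)).2.2.2.2.1⟩ : K.Hset t))
    (Sum.elim (fun p => ⟨p.1, p.2.1.1, p.2.1.2⟩) fun p => ⟨p.1, p.2.1.1, p.2.1.2⟩)) ⟨?_, ?_⟩).symm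
  · have hdis : ∀ {p : G}, D.Cl p → D.z ∈ Subgroup.zpowers (p * x) → p ∈ D.Qof t →
        p ∈ D.Qof (D.z * t) → False := fun {p} hp hz hm1 hm2 => by
      obtain ⟨h1, -, h3, -⟩ := K.transport ⟨K.pt.cl, K.xt.symm⟩ K.pt.mem K.pt.ne_z hp hm1 hz hg1 hgb1
      have hm2' := D.Qof_conj K.pt.z_mul.cl g1 hm2
      have hz'' := K.z_move (Or.inl rfl) hg1 hgb1
      have hA : D.InA t (g1 * p * g1⁻¹) := by
        have e : g1 * (D.z * t) * g1⁻¹ = g1 * D.z * g1⁻¹ * D.z := by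
          rw [show g1 * (D.z * t) * g1⁻¹ = g1 * D.z * g1⁻¹ * (g1 * t * g1⁻¹) by group, hgb1]
        rw [e] at hm2'
        have hez : D.z * (D.z * t) = t := by rw [← mul_assoc, D.ctx.sq_z, one_mul]
        rcases hz'' with e' | e' <;> rw [e'] at hm2'
        · rw [← K.pt.comm_zt.eq] at hm2'
          rcases K.pt.z_mul.inter h1 hm2' with h' | h' | h' | h'
          exacts [Or.inl h', Or.inr (Or.inl h'), Or.inr (Or.inr (Or.inr h')),
            Or.inr (Or.inr (Or.inl (h'.trans hez)))]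
        · rw [mul_assoc, ← K.pt.comm_zt.eq, hez] at hm2'
          exact K.pt.inter h1 hm2'
      have := (K.d_one_iff ((hp.conj D g1).sq D)).2 (K.A_comm hA K.xz K.xt)
      rw [h3] at this
      exact (K.T_conj hg1 K.T_z).1.ne_one D this
    rintro (⟨p, hp⟩ | ⟨p, hp⟩ | ⟨p, hp⟩) (⟨p', hp'⟩ | ⟨p', hp'⟩ | ⟨p', hp'⟩) e <;>
      obtain rfl : p = p' := congrArg Subtype.val e
    exacts [rfl, absurd hp.1 hp'.2.1, absurd hp.1 hp'.2.1, absurd hp'.1 hp.2.1, rfl,
      (hdis hp.1.1.1 hp.1.1.2 hp.2.2 hp'.2.2).elim, absurd hp'.1 hp.2.1,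
      (hdis hp.1.1.1 hp.1.1.2 hp'.2.2 hp.2.2).elim, rfl]
  · rintro ⟨p, ⟨hp, hz⟩, hc⟩
    by_cases hpQ : p ∈ D.Q
    · refine ⟨Sum.inl ⟨p, hpQ, hp.sq D, ?_⟩, rfl⟩
      rcases K.q_power hpQ (hp.sq D) hz D.ctx.sq_z D.ctx.ne_one D.ctx.mem with ⟨h1, -⟩ | ⟨-, e⟩
      · have := (D.cls_comm p hpQ t K.pt.mem).1 hc
        rw [D.space.symm, h1] at this
        exact absurd this one_ne_zero
      · exact e
    · have hfix : (D.act p).val *ᵥ D.cls t = D.cls t := by
        rw [← D.act_cls p (K.S_comm_z hp hz).1 t K.pt.mem, hc.eq, mul_inv_cancel_right]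
      rcases (root_point K.coord.six hp (K.S_comm_z hp hz).1 hpQ K.pt hfix).2 with hm | hm
      · exact ⟨Sum.inr (Sum.inl ⟨p, ⟨⟨hp, hz⟩, hc⟩, hpQ, hm⟩), rfl⟩
      · exact ⟨Sum.inr (Sum.inr ⟨p, ⟨⟨hp, hz⟩, hc⟩, hpQ, hm⟩), rfl⟩

/-- The numbers `F` of the conjugates in `C(z)` attached to a conjugate `w ≠ z`. -/
theorem card_attached {e : Code} (he : OkC e) (hne : e ≠ zCode) :
    Nat.card {p : G // (D.Cl p ∧ Commute p D.z) ∧ K.cEl e ∈ Subgroup.zpowers (p * x)} =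
      if e.2 = 0 then 12 else if e.2.2.2 = 0 then 16 else 0 := by
  obtain ⟨hwT, hwz⟩ := K.T_cEl he
  obtain ⟨g, hg, hgw⟩ := K.T_mover hwT
  have hz'z : Commute (g * D.z * g⁻¹) D.z := by
    have h1 := (Commute.conj_iff g).2 hwz.symm
    rwa [hgw] at h1
  have hTz' := K.T_conj hg K.T_z
  obtain ⟨f, hf, hfe⟩ := K.cEl_Ok hTz' hz'z
  have hwne : K.cEl e ≠ D.z := fun h0 => hne (K.cEl_inj (h0.trans K.cEl_z.symm))
  have hgconj : ∀ p : G, g * p * g⁻¹ * x = g * (p * x) * g⁻¹ := fun p => by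
    rw [mul_assoc _ g⁻¹ x, hg.inv_left.eq]; group
  rw [Nat.card_congr (Equiv.subtypeEquiv (MulAut.conj g).toEquiv
    (q := fun p => (D.Cl p ∧ D.z ∈ Subgroup.zpowers (p * x)) ∧ Commute p (g * D.z * g⁻¹)) fun p => by
      show _ ↔ (D.Cl (g * p * g⁻¹) ∧ D.z ∈ Subgroup.zpowers (g * p * g⁻¹ * x)) ∧
        Commute (g * p * g⁻¹) (g * D.z * g⁻¹)
      rw [hgconj, Commute.conj_iff]
      constructor
      · rintro ⟨⟨hp, hc⟩, hm⟩
        obtain ⟨i, hi⟩ := Subgroup.mem_zpowers_iff.1 hm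
        exact ⟨⟨hp.conj D g, i, by show (g * (p * x) * g⁻¹) ^ i = D.z; rw [conj_zpow, hi, hgw]⟩, hc⟩
      · rintro ⟨⟨hp, hm⟩, hc⟩
        obtain ⟨i, hi⟩ := Subgroup.mem_zpowers_iff.1 hm
        refine ⟨⟨by simpa [mul_assoc] using hp.conj D g⁻¹, hc⟩, i, ?_⟩
        rw [conj_zpow] at hi
        exact mul_left_cancel (mul_right_cancel (hi.trans hgw.symm)))]
  by_cases h0 : e.2 = 0
  · rw [if_pos h0]
    have hA : D.InA t (K.cEl e) := (K.code_A e).2 h0
    have ha := hA.resolve_left (hwT.1.ne_one D)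
    have hz'A := (K.move hg ha (Or.inl hgw)).2.1 D.z (Or.inl rfl)
    have hne' : g * D.z * g⁻¹ ≠ D.z := fun e' =>
      hwne (mul_left_cancel (mul_right_cancel (e'.trans hgw.symm))).symm
    rw [← K.card_H_A]
    refine Nat.card_congr (Equiv.subtypeEquivRight fun p => and_congr_right fun ⟨hp, hz⟩ => ?_)
    rcases hz'A.resolve_left hne' with e' | e' <;> rw [e']
    have hpz := (K.S_comm_z hp hz).1
    exact ⟨fun hc => by have := hpz.mul_right hc; rwa [← mul_assoc, D.ctx.sq_z, one_mul] at this,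
      fun hc => hpz.mul_right hc⟩
  · rw [if_neg h0, ← hfe]
    have hwA : ¬ D.InA t (K.cEl e) := fun h => h0 ((K.code_A e).1 h)
    have hback : g⁻¹ * D.z * g⁻¹⁻¹ = K.cEl e := by rw [← hgw]; group
    have hf0 : f.2 ≠ 0 := fun h => by
      have hA' : D.InA t (g * D.z * g⁻¹) := hfe ▸ (K.code_A f).2 h
      have := (K.move (g := g⁻¹) (a := g * D.z * g⁻¹) hg.inv_left
        (hA'.resolve_left (hTz'.1.ne_one D)) (Or.inl (by group))).2.1 D.z (Or.inl rfl)
      rw [hback] at this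
      exact hwA (Or.inr this)
    have hQQ : g * D.z * g⁻¹ ∈ D.Q ↔ K.cEl e ∈ D.Q := by
      constructor
      · intro hQ
        have h1 := D.Qof_conj hTz'.1 g⁻¹ (D.Qof_symm D.cl_z hTz'.1 (by rwa [D.Qof_self]))
        rwa [show g⁻¹ * (g * D.z * g⁻¹) * g⁻¹⁻¹ = D.z by group, D.Qof_self, hback] at h1
      · intro hQ
        have h1 := D.Qof_conj hwT.1 g (D.Qof_symm D.cl_z hwT.1 (by rwa [D.Qof_self]))
        rwa [hgw, D.Qof_self] at h1
    rw [← hfe, K.code_mem_Q, K.code_mem_Q] at hQQ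
    by_cases hQ : e.2.2.2 = 0
    · rw [if_pos hQ]
      exact K.card_H_Q hf hf0 (hQQ.2 hQ)
    · rw [if_neg hQ]
      haveI := K.isEmpty_H_out hf fun h' => hQ (hQQ.1 h')
      exact Nat.card_of_isEmpty

theorem A_fix {g a : G} (hga : Commute g a) (hgx : Commute g x) (ha : K.InT a) :
    ∃ k, g ^ 2 ^ k = 1 := by
  obtain ⟨m, hm, hma⟩ := K.T_mover ha
  obtain ⟨k, hk⟩ := K.A_two (a := D.z) (g := m * g * m⁻¹) (Or.inl rfl)
    (hma ▸ (Commute.conj_iff m).2 hga) ((hm.mul_left hgx).mul_left hm.inv_left)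
  rw [conj_pow, conj_eq_one_iff] at hk
  exact ⟨k, hk⟩

/-- A conjugate in `C(z)` outside `C(x)` has its involution among the twenty-seven. -/
theorem T_of_comm {p w : G} (hp : D.Cl p) (hpz : Commute p D.z) (hpx : ¬ Commute p x)
    (hw : w ∈ Subgroup.zpowers (p * x)) (hw2 : w * w = 1) (hw1 : w ≠ 1) :
    K.InT w ∧ Commute w D.z := by
  have hwz : Commute w D.z := by
    obtain ⟨i, rfl⟩ := Subgroup.mem_zpowers_iff.1 hw
    exact (hpz.mul_left K.xz).zpow_left i
  refine ⟨(K.u_cases hp hw hw2 hw1).resolve_right ?_, hwz⟩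
  rintro ⟨l, hl, rfl⟩
  obtain ⟨hsq, hne⟩ := K.T_not_x hl
  have hlz : Commute l D.z := by
    have := K.xz.mul_left hwz
    rwa [← mul_assoc, K.x_sq, one_mul] at this
  have hncl : ¬ D.Cl (x * l) := fun h => by
    have e1 := h.sq D
    obtain ⟨m, hm, hml⟩ := K.T_mover hl
    refine (K.ax_not_cl (Or.inr (Or.inl rfl) : D.InA t D.z)).1 ?_
    have := h.conj D m
    rwa [show m * (x * l) * m⁻¹ = m * x * m⁻¹ * (m * l * m⁻¹) by group, hml,
      mul_inv_eq_iff_eq_mul.2 hm.eq, K.xz.eq] at this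
  obtain ⟨g, hgl, hgxl⟩ := to_pair K.coord.six K.fr hl.1 hsq hne hncl (hl.2.mul_right (Commute.refl l))
  have hgx : g * x * g⁻¹ = x * D.z := by
    rw [show g * x * g⁻¹ = g * (x * l) * g⁻¹ * (g * l * g⁻¹)⁻¹ by group, hgxl, hgl, D.ctx.inv_z]
  obtain ⟨k, hk⟩ := (mem_powers_iff_mem_zpowers).2 hw
  change (p * x) ^ k = x * l at hk
  have hpw := invol_commutes (hp.sq D) K.x_sq hw hw2
  obtain ⟨q, hq⟩ : ∃ q, q = g * p * g⁻¹ := ⟨_, rfl⟩
  have hqx : Commute q x := by rw [hq, ← hgxl]; exact (Commute.conj_iff g).2 hpw.1.symm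
  have hqT : K.InT q := ⟨hq ▸ hp.conj D g, hqx⟩
  have hk' : (x * (q * D.z)) ^ k = x := by
    have e : x * (q * D.z) = g * (p * x) * g⁻¹ := by
      rw [show g * (p * x) * g⁻¹ = g * p * g⁻¹ * (g * x * g⁻¹) by group, hgx, ← hq, ← mul_assoc q,
        hqx.eq, mul_assoc]
    rw [e, conj_pow, hk, hgxl]
  have hc : Commute x (q * D.z) := hqx.symm.mul_right K.xz
  rw [hc.mul_pow] at hk'
  have hh : Commute h ((q * D.z) ^ k) := ((K.T_h hqT).mul_right (K.T_h K.T_z)).pow_right k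
  rcases Nat.even_or_odd k with ⟨j, hj⟩ | hodd
  · rw [hj, ← two_mul, pow_mul, pow_two, K.x_sq, one_pow, one_mul, two_mul, ← hj] at hk'
    exact K.fr.ne_one (K.V_fix (Or.inr (Or.inl rfl)) (hk' ▸ hh))
  have hxk : x ^ k = x := by
    obtain ⟨j, rfl⟩ := hodd
    rw [pow_succ, pow_mul, pow_two, K.x_sq, one_pow, one_mul]
  rw [hxk, mul_eq_left] at hk'
  have hzq : Commute q (g * D.z * g⁻¹) := by rw [hq]; exact (Commute.conj_iff g).2 hpz
  have hzz : Commute D.z (g * D.z * g⁻¹) := by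
    have := (Commute.conj_iff g).2 hlz
    rwa [hgl] at this
  have hzx : Commute (g * D.z * g⁻¹) x := by
    have h1 := (Commute.conj_iff g).2 K.xz
    rw [hgx] at h1
    have h2 := h1.mul_left hzz
    rw [mul_assoc, D.ctx.sq_z, mul_one] at h2
    exact h2.symm
  obtain ⟨n, hn⟩ := K.A_fix (g := q * D.z) (hzq.mul_left hzz) (hqx.mul_left K.xz.symm)
    ⟨D.cl_z.conj D g, hzx⟩
  have h1 : q * D.z = 1 := orderOf_eq_one_iff.1 (Nat.eq_one_of_dvd_coprimes
    ((Nat.coprime_two_left.2 hodd).pow_left n) (orderOf_dvd_of_pow_eq_one hn)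
    (orderOf_dvd_of_pow_eq_one hk'))
  have hqz : q = D.z := (eq_inv_of_mul_eq_one_left h1).trans D.ctx.inv_z
  have hpl : p = l := mul_left_cancel (mul_right_cancel (hq.symm.trans (hqz.trans hgl.symm)))
  exact hpx (hpl ▸ hl.2)

/-- The conjugates in `C(z)`. -/
theorem card_cz_split :
    Nat.card {p : G // D.Cl p ∧ Commute p D.z} = 179 + Nat.card (K.Sset D.z) := by
  classical
  let T27 := {w : G // K.InT w ∧ Commute w D.z}
  haveI : Fintype T27 := Fintype.ofFinite _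
  let F : T27 → Type u := fun w => {p : G // (D.Cl p ∧ Commute p D.z) ∧ (w : G) ∈ Subgroup.zpowers (p * x)}
  have hsplit : Nat.card {p : G // D.Cl p ∧ Commute p D.z} = Nat.card T27 + ∑ w, Nat.card (F w) := by
    rw [← Nat.card_sigma, ← Nat.card_sum]
    refine (Nat.card_eq_of_bijective (Sum.elim (fun w => (⟨w.1, w.2.1.1, w.2.2⟩ :
      {p : G // D.Cl p ∧ Commute p D.z})) fun e => ⟨e.2.1, e.2.2.1⟩) ⟨?_, ?_⟩).symm
    · have hnot : ∀ {w p : G}, K.InT w → D.Cl p → w ∈ Subgroup.zpowers (p * x) → ¬ Commute p x :=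
        fun {w p} hw hp hm hc => by
          have hpx : p * x ≠ 1 := fun e => K.x_not_cl
            ((eq_inv_of_mul_eq_one_left e).trans (inv_eq_of_mul_eq_one_right K.x_sq) ▸ hp)
          have e := invol_unique hm (Subgroup.mem_zpowers _) (hw.1.sq D) (hw.1.ne_one D)
            (by rw [hc.symm.mul_mul_mul_comm, hp.sq D, K.x_sq, one_mul]) hpx
          have hh := K.T_h hw
          rw [e] at hh
          refine K.fr.ne_one (K.V_fix (Or.inr (Or.inl rfl)) ?_)
          have := (K.T_h ⟨hp, hc⟩).inv_right.mul_right hh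
          rwa [inv_mul_cancel_left] at this
      rintro (⟨w, hw⟩ | ⟨⟨w, hw⟩, p, hp, hm⟩) (⟨w', hw'⟩ | ⟨⟨w', hw'⟩, p', hp', hm'⟩) e
      · obtain rfl : w = w' := congrArg Subtype.val e
        rfl
      · obtain rfl : w = p' := congrArg Subtype.val e
        exact absurd hw.1.2 (hnot hw'.1 hp'.1 hm')
      · obtain rfl : p = w' := congrArg Subtype.val e
        exact absurd hw'.1.2 (hnot hw.1 hp.1 hm)
      · obtain rfl : p = p' := congrArg Subtype.val e
        obtain rfl : w = w' := invol_unique hm hm' (hw.1.1.sq D) (hw.1.1.ne_one D) (hw'.1.1.sq D)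
          (hw'.1.1.ne_one D)
        rfl
    · rintro ⟨p, hp, hpz⟩
      by_cases hc : Commute p x
      · exact ⟨Sum.inl ⟨p, ⟨hp, hc⟩, hpz⟩, rfl⟩
      · obtain ⟨w, hw, hw2, hw1⟩ := exists_invol (hp.sq D) K.x_sq
          fun ⟨g, hg⟩ => K.x_not_cl (hg ▸ hp.conj D g)
        exact ⟨Sum.inr ⟨⟨w, K.T_of_comm hp hpz hc hw hw2 hw1⟩, p, ⟨hp, hpz⟩, hw⟩, rfl⟩
  have h27 : Nat.card T27 = 27 := by
    rw [← ok_count, ← nat_card_filter]
    exact (Nat.card_congr (Equiv.subtypeEquivRight fun w => (and_iff_left trivial).symm)).trans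
      ((K.code_equiv fun _ => True).trans
        (Nat.card_congr (Equiv.subtypeEquivRight fun e => and_iff_left trivial)))
  have hF : ∑ w, Nat.card (F w) = Nat.card (K.Sset D.z) + 152 := by
    have hb : ∀ w : T27, ∃ e, OkC e ∧ K.cEl e = (w : G) := fun ⟨w, hT, hz⟩ => K.cEl_Ok hT hz
    choose code hcode hcEl using hb
    have hval : ∀ w, Nat.card (F w) = (if code w = zCode then Nat.card (K.Sset D.z) else 0) +
        (if code w = zCode then 0 else if (code w).2 = 0 then 12 else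
          if (code w).2.2.2 = 0 then 16 else 0) := fun w => by
      by_cases hz : code w = zCode
      · rw [if_pos hz, if_pos hz, add_zero]
        refine Nat.card_congr (Equiv.subtypeEquivRight fun p => ?_)
        rw [← hcEl w, hz, K.cEl_z]
        exact ⟨fun h => ⟨h.1.1, h.2⟩, fun h => ⟨⟨h.1, (K.S_comm_z h.1 h.2).1⟩, h.2⟩⟩
      · rw [if_neg hz, if_neg hz, zero_add, ← K.card_attached (hcode w) hz]
        exact Nat.card_congr (Equiv.subtypeEquivRight fun p => by rw [hcEl w])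
    have hsum : ∀ φ : Code → ℕ, ∑ w, φ (code w) =
        (Finset.univ.filter fun e : Code => OkC e).sum φ := fun φ => by
      refine Finset.sum_bij (fun w _ => code w)
        (fun w _ => Finset.mem_filter.2 ⟨Finset.mem_univ _, hcode w⟩)
        (fun w _ w' _ e => Subtype.ext (by rw [← hcEl w, ← hcEl w', e]))
        (fun e he => ?_) (fun w _ => rfl)
      exact ⟨⟨K.cEl e, K.T_cEl (Finset.mem_filter.1 he).2⟩, Finset.mem_univ _,
        K.cEl_inj (hcEl _)⟩
    rw [Finset.sum_congr rfl fun w _ => hval w, Finset.sum_add_distrib,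
      hsum fun e => if e = zCode then Nat.card (K.Sset D.z) else 0, hsum fun e =>
        if e = zCode then 0 else if e.2 = 0 then 12 else if e.2.2.2 = 0 then 16 else 0, rest_sum,
      Finset.sum_ite_eq', if_pos (Finset.mem_filter.2 ⟨Finset.mem_univ _, by decide⟩)]
  rw [hsplit, h27, hF]
  omega

/-- Modulo five there are no conjugates of `z` centralizing `z`. -/
theorem five_dvd_cz (M : Model D) : 5 ∣ Nat.card {p : G // D.Cl p ∧ Commute p D.z} := by
  classical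
  haveI : Fact (Nat.Prime 5) := ⟨by norm_num⟩
  obtain ⟨⟨b, hbC⟩, hb⟩ := exists_prime_orderOf_dvd_card' (G := ↥(Subgroup.centralizer ({D.z} : Set G))) 5
    (by rw [card_cz M]; norm_num)
  rw [Subgroup.orderOf_mk] at hb
  have hbz : Commute b D.z := Subgroup.mem_centralizer_singleton_iff.1 hbC
  obtain ⟨q, q', hq, hq', hqq, hq'q', hbq, hbq', hmove, hne, hall⟩ :=
    (show BFive D b from ⟨M, hb, hbz⟩).structure_z
  let P := {p : G // D.Cl p ∧ Commute p D.z}
  have hmem : ∀ (g : Subgroup.zpowers b) (p : P), D.Cl ((g : G) * p.1 * (g : G)⁻¹) ∧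
      Commute ((g : G) * p.1 * (g : G)⁻¹) D.z := fun g p => by
    obtain ⟨i, hi⟩ := Subgroup.mem_zpowers_iff.1 g.2
    have hgz : Commute (g : G) D.z := hi ▸ hbz.zpow_left i
    exact ⟨p.2.1.conj D _, (hgz.mul_left p.2.2).mul_left hgz.inv_left⟩
  letI : MulAction (Subgroup.zpowers b) P :=
    { smul := fun g p => ⟨(g : G) * p.1 * (g : G)⁻¹, hmem g p⟩
      one_smul := fun p => Subtype.ext (show ((1 : Subgroup.zpowers b) : G) * p.1 *
        ((1 : Subgroup.zpowers b) : G)⁻¹ = p.1 by simp)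
      mul_smul := fun g k p => Subtype.ext (show ((g * k : Subgroup.zpowers b) : G) * p.1 *
        ((g * k : Subgroup.zpowers b) : G)⁻¹ = (g : G) * ((k : G) * p.1 * (k : G)⁻¹) * (g : G)⁻¹ by
          simp [mul_assoc]) }
  have hmod := IsPGroup.card_modEq_card_fixedPoints (p := 5) (IsPGroup.of_card (n := 1) (by
    rw [Nat.card_zpowers, hb, pow_one]) : IsPGroup 5 (Subgroup.zpowers b)) P
  have hfix : ∀ p : P, p ∈ MulAction.fixedPoints (Subgroup.zpowers b) P ↔ Commute p.1 b := fun p => by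
    rw [MulAction.mem_fixedPoints]
    constructor
    · intro h
      have : b * p.1 * b⁻¹ = p.1 := congrArg Subtype.val (h ⟨b, Subgroup.mem_zpowers b⟩)
      exact (mul_inv_eq_iff_eq_mul.1 this).symm
    · intro hc g
      obtain ⟨i, hi⟩ := Subgroup.mem_zpowers_iff.1 g.2
      refine Subtype.ext ?_
      show (g : G) * p.1 * (g : G)⁻¹ = p.1
      rw [← hi, ← (hc.zpow_right i).eq, mul_inv_cancel_right]
  have hzq : ∀ {a : G}, a ∈ D.Q → a * a = 1 → D.z * a * (D.z * a) = 1 := fun {a} ha h2 => by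
    rw [(D.ctx.central a ha).symm.mul_mul_mul_comm, D.ctx.sq_z, h2, one_mul]
  have hq1 : q ≠ 1 ∧ q ≠ D.z ∧ q' ≠ 1 ∧ q' ≠ D.z :=
    ⟨fun e => hne (e ▸ Commute.one_left _), fun e => hne (e ▸ D.ctx.central q' hq'),
      fun e => hne (e ▸ Commute.one_right _), fun e => hne (e ▸ (D.ctx.central q hq).symm)⟩
  have hcl : ∀ {a : G}, a ∈ D.Q → a * a = 1 → a ≠ 1 → Commute b a →
      (D.Cl a ∧ Commute a D.z) ∧ Commute a b := fun ha h2 h1 hba =>
    ⟨⟨D.cl_of_mem ha h2 h1, (D.ctx.central _ ha).symm⟩, hba.symm⟩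
  have hzne : ∀ {a : G}, a ≠ D.z → D.z * a ≠ 1 := fun ha e => ha (by
    rw [eq_inv_of_mul_eq_one_right e, D.ctx.inv_z])
  have e5 : Nat.card (MulAction.fixedPoints (Subgroup.zpowers b) P) = 5 := by
    let S : Finset G := {D.z, q, D.z * q, q', D.z * q'}
    have hS : ∀ a, (D.Cl a ∧ Commute a D.z) ∧ Commute a b ↔ a ∈ S := by
      intro a
      simp only [S, Finset.mem_insert, Finset.mem_singleton]
      constructor
      · rintro ⟨⟨hacl, haz⟩, hab⟩
        obtain ⟨n, i, j, k, he⟩ := hall a haz hab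
        have ha2 := hacl.sq D
        have hbn : Commute (pick D.z i * (pick q j * pick q' k)) (b ^ n) :=
          ((pick_comm hbz.symm i).mul_left
            ((pick_comm hbq.symm j).mul_left (pick_comm hbq'.symm k))).pow_right n
        have hm : pick D.z i * (pick q j * pick q' k) ∈ D.Q := by
          refine mul_mem (pick_z_mem D i).1 (mul_mem ?_ ?_)
          · rcases bit j with rfl | rfl <;> simp [hq, one_mem]
          · rcases bit k with rfl | rfl <;> simp [hq', one_mem]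
        have hb1 : b ^ n = 1 := by
          have h4 : (pick D.z i * (pick q j * pick q' k)) ^ 4 = 1 := pow_four_Q hm
          have e4 : a ^ 4 = 1 := by rw [show 4 = 2 * 2 from rfl, pow_mul, pow_two a, ha2, one_pow]
          rw [he, hbn.mul_pow, h4, one_mul] at e4
          refine orderOf_eq_one_iff.1 (Nat.eq_one_of_dvd_coprimes (show Nat.Coprime 4 5 by norm_num)
            (orderOf_dvd_of_pow_eq_one e4) ?_)
          exact orderOf_dvd_of_pow_eq_one (by
            rw [← pow_mul, mul_comm, pow_mul, ← hb, pow_orderOf_eq_one, one_pow])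
        rw [hb1, mul_one] at he
        have ha1 := hacl.ne_one D
        rcases bit i with rfl | rfl <;> rcases bit j with rfl | rfl <;> rcases bit k with rfl | rfl <;>
          simp only [pick_zero, pick_one, one_mul, mul_one] at he
        · exact absurd he ha1
        · exact Or.inr (Or.inr (Or.inr (Or.inl he)))
        · exact Or.inr (Or.inl he)
        · exfalso
          rw [he] at ha2
          refine hne ?_
          have : (q * q')⁻¹ = q * q' := inv_eq_of_mul_eq_one_right ha2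
          rw [mul_inv_rev, inv_eq_of_mul_eq_one_right hqq, inv_eq_of_mul_eq_one_right hq'q'] at this
          exact this.symm
        · exact Or.inl he
        · exact Or.inr (Or.inr (Or.inr (Or.inr he)))
        · exact Or.inr (Or.inr (Or.inl he))
        · exfalso
          rw [he] at ha2
          refine hne ?_
          rw [(D.ctx.central _ (mul_mem hq hq')).symm.mul_mul_mul_comm, D.ctx.sq_z, one_mul] at ha2
          have : (q * q')⁻¹ = q * q' := inv_eq_of_mul_eq_one_right ha2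
          rw [mul_inv_rev, inv_eq_of_mul_eq_one_right hqq, inv_eq_of_mul_eq_one_right hq'q'] at this
          exact this.symm
      · rintro (rfl | rfl | rfl | rfl | rfl)
        exacts [hcl D.ctx.mem D.ctx.sq_z D.ctx.ne_one hbz, hcl hq hqq hq1.1 hbq,
          hcl (mul_mem D.ctx.mem hq) (hzq hq hqq) (hzne hq1.2.1) (hbz.mul_right hbq),
          hcl hq' hq'q' hq1.2.2.1 hbq',
          hcl (mul_mem D.ctx.mem hq') (hzq hq' hq'q') (hzne hq1.2.2.2) (hbz.mul_right hbq')]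
    rw [Nat.card_congr ((Equiv.subtypeEquivRight hfix).trans
      ((Equiv.subtypeSubtypeEquivSubtypeInter _ fun a : G => Commute a b).trans
        (Equiv.subtypeEquivRight hS))), Nat.card_eq_finsetCard]
    obtain ⟨n1, n2, n3, n4⟩ := hq1
    have hqq'ne : q ≠ q' := fun e => hne (e ▸ Commute.refl q)
    have hzqq' : D.z * q ≠ q' := fun e => hne (by
      rw [← e]; exact ((D.ctx.central q hq).symm.mul_right (Commute.refl q)))
    have hqzq' : q ≠ D.z * q' := fun e => hne (by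
      rw [e]; exact ((D.ctx.central q' hq').mul_left (Commute.refl q')))
    simp only [S]
    rw [Finset.card_insert_of_notMem, Finset.card_insert_of_notMem, Finset.card_insert_of_notMem,
      Finset.card_insert_of_notMem, Finset.card_singleton]
    · simp only [Finset.mem_singleton]
      exact fun e => D.ctx.ne_one (right_eq_mul.1 e)
    · simp only [Finset.mem_insert, Finset.mem_singleton, not_or]
      exact ⟨hzqq', fun e => hqq'ne (mul_left_cancel e)⟩
    · simp only [Finset.mem_insert, Finset.mem_singleton, not_or]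
      exact ⟨fun e => D.ctx.ne_one (right_eq_mul.1 e), hqq'ne, hqzq'⟩
    · simp only [Finset.mem_insert, Finset.mem_singleton, not_or]
      exact ⟨n2.symm, fun e => n1 (left_eq_mul.1 e), n4.symm, fun e => n3 (left_eq_mul.1 e)⟩
  have h5 := hmod
  rw [e5] at h5
  exact Nat.modEq_zero_iff_dvd.1 (h5.trans (by decide))

/-- The order of `G` modulo 125. -/
theorem card_G (M : Model D) :
    ∃ s : ℕ, s % 5 = 4 ∧ Nat.card G = 25 * 41803776 * s := by
  obtain ⟨m, hm⟩ := K.five_dvd_cz M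
  rw [K.card_cz_split] at hm
  have hJ := K.card_odd_T
  rw [← K.card_S_xz] at hJ
  refine ⟨Nat.card (K.Sset D.z) + Nat.card (K.Sset (x * D.z)), by omega, ?_⟩
  have h := card_orbit (⊤ : Subgroup G) D.z (P := D.Cl) fun w =>
    ⟨fun ⟨k, hk⟩ => ⟨k, Subgroup.mem_top k, hk⟩, fun ⟨k, _, hk⟩ => ⟨k, hk⟩⟩
  rw [inf_top_eq, card_cz M, Subgroup.card_top, K.card_cl_split] at h
  rw [← h]; ring

end Cfg

end Cfsg.Lib.Extra.SuzLocal
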