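import Cfsg.Agent.Lib.CIT.Consumers.Eppo
import Cfsg.Agent.Lib.ZStar.Main
import Cfsg.Agent.Lib.Sig.Small
import Cfsg.Agent.Lib.Block.JordanBound
import Mathlib.GroupTheory.FixedPointFree

/-!
# Automorphisms of a group like `PSL(3, 4)`

A group of order 20160 with one class of involutions, involution centralizers of order 64 and
elements of prime power order only: automorphisms of order three fixing a centralizer are trivial,
and involutory ones moving the involutions of a centralizer fix no element of order five or seven.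
-/

set_option autoImplicit false
set_option linter.style.haveILetI false

namespace Cfsg.Lib.Extra.SuzLocal

open Cfsg Subgroup

/-- The properties of `PSL(3, 4)` in use. -/
structure LFour {L : Type*} [Group L] (M0 : Subgroup L) (z0 : L) : Prop where
  card : Nat.card L = 20160
  cardM : Nat.card M0 = 64
  ord : orderOf z0 = 2
  cent : ∀ y, Commute y z0 ↔ y ∈ M0
  inv : ∀ y, orderOf y = 2 → ∃ g, g * z0 * g⁻¹ = y
  eppo : Lib.CIT.IsEppo L

namespace LFour

variable {L : Type*} [Group L] [Finite L] {M0 : Subgroup L} {z0 : L} (H : LFour M0 z0)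
include H

theorem z_mem : z0 ∈ M0 := (H.cent z0).1 (Commute.refl z0)

theorem pow_M {a : L} (ha : a ∈ M0) : a ^ 64 = 1 := by
  rw [← H.cardM]; exact orderOf_dvd_iff_pow_eq_one.1 (M0.orderOf_dvd_natCard ha)

theorem cube_M {a : L} (ha : a ∈ M0) (h3 : a ^ 3 = 1) : a = 1 :=
  orderOf_eq_one_iff.1 (Nat.eq_one_of_dvd_coprimes (a := 64) (b := 3) (by norm_num)
    (orderOf_dvd_of_pow_eq_one (H.pow_M ha)) (orderOf_dvd_of_pow_eq_one h3))

/-- An automorphism of order three fixing the centralizer of an involution. -/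
theorem fixed_of_conj {φ : L →* L} (h3 : ∀ a, φ (φ (φ a)) = a) (hfix : ∀ a ∈ M0, φ a = a) {n : L}
    (hn : φ (n * z0 * n⁻¹) = n * z0 * n⁻¹) : φ n = n := by
  set k := n⁻¹ * φ n with hk
  have hkz : Commute k z0 := by
    rw [map_mul, map_mul, map_inv, hfix z0 H.z_mem] at hn
    refine mul_inv_eq_iff_eq_mul.1 ?_
    rw [show k * z0 * k⁻¹ = n⁻¹ * (φ n * z0 * (φ n)⁻¹) * n by rw [hk]; group, hn]
    group
  have hkM := (H.cent k).1 hkz
  have hφk := hfix k hkM
  have e : φ n = n * k := by rw [hk]; group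
  have e3 : k ^ 3 = 1 := (mul_eq_left (a := n)).1 (by
    have h := h3 n
    rw [e, map_mul, hφk, e, map_mul, map_mul, hφk, e] at h
    simpa [pow_succ, mul_assoc] using h)
  rw [e, H.cube_M hkM e3, mul_one]

/-- Rigidity of the automorphisms of order three. -/
theorem fixed_all {φ : L →* L} (h3 : ∀ a, φ (φ (φ a)) = a) (hfix : ∀ a ∈ M0, φ a = a) {q q' : L}
    (hq : q ∈ M0) (hq2 : orderOf q = 2) (hq' : q' ∈ M0) (hq'2 : orderOf q' = 2)
    (hsmall : Nat.card ↥(M0 ⊓ centralizer ({q} : Set L) ⊓ centralizer ({q'} : Set L)) ≤ 4)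
    (a : L) : φ a = a := by
  classical
  haveI : Fact (Nat.Prime 2) := ⟨Nat.prime_two⟩
  set C := MonoidHom.eqLocus φ (MonoidHom.id L) with hC
  have hmem : ∀ {c}, c ∈ C ↔ φ c = c := Iff.rfl
  by_contra hne
  have hproper : C ≠ ⊤ := fun e => hne (hmem.1 (e ▸ mem_top a))
  have hMC : M0 ≤ C := fun c hc => hfix c hc
  have hstrong : ∀ {g i}, orderOf i = 2 → i ∈ C → g * i * g⁻¹ ∈ C → g ∈ C := by
    intro g i hi hiC hgi
    obtain ⟨n, rfl⟩ := H.inv i hi
    have hn : n ∈ C := H.fixed_of_conj h3 hfix hiC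
    have hgn : g * n ∈ C := H.fixed_of_conj h3 hfix (by
      rw [show g * n * z0 * (g * n)⁻¹ = g * (n * z0 * n⁻¹) * g⁻¹ by group]; exact hgi)
    simpa using mul_mem hgn (inv_mem hn)
  obtain ⟨g, hg⟩ : ∃ g, g ∉ C := by
    by_contra hh
    push Not at hh
    exact hproper ((Subgroup.eq_top_iff' C).2 hh)
  -- the double coset
  have hcount : 64 * Nat.card C + Nat.card C ≤ 20160 := by
    let f : (↥M0 × ↥C) ⊕ ↥C → L := Sum.elim (fun e => (e.1 : L) * g * e.2) (fun c => (c : L))
    have hout : ∀ (m : M0) (c : C), (m : L) * g * c ∉ C := fun m c h => hg (by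
      have := mul_mem (mul_mem (inv_mem (hMC m.2)) h) (inv_mem c.2)
      rwa [show (m : L)⁻¹ * ((m : L) * g * c) * (c : L)⁻¹ = g by group] at this)
    have hf : Function.Injective f := by
      rintro (⟨m, c⟩ | c) (⟨m', c'⟩ | c') e <;> simp only [f, Sum.elim_inl, Sum.elim_inr] at e
      · have hmm : (m' : L)⁻¹ * m = 1 := by
          by_contra h1
          set b := (m' : L)⁻¹ * m with hb
          have hbM : b ∈ M0 := mul_mem (inv_mem m'.2) m.2
          have hbg : g⁻¹ * b * g ∈ C := by
            rw [show g⁻¹ * b * g = (c' : L) * (c : L)⁻¹ by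
              calc g⁻¹ * b * g = g⁻¹ * (m' : L)⁻¹ * ((m : L) * g * c) * (c : L)⁻¹ := by
                    rw [hb]; group
                _ = _ := by rw [e]; group]
            exact mul_mem c'.2 (inv_mem c.2)
          obtain ⟨j, hj⟩ : ∃ j, orderOf b = 2 ^ j :=
            ((Nat.dvd_prime_pow Nat.prime_two).1 (show orderOf b ∣ 2 ^ 6 from
              orderOf_dvd_of_pow_eq_one (H.pow_M hbM))).imp fun _ h => h.2
          have hj1 : j ≠ 0 := fun e => h1 (orderOf_eq_one_iff.1 (by rw [hj, e, pow_zero]))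
          have hi : orderOf (b ^ 2 ^ (j - 1)) = 2 := by
            rw [orderOf_pow_of_dvd (pow_ne_zero _ two_ne_zero) (by
              rw [hj]; exact pow_dvd_pow 2 (by omega)), hj,
              show 2 ^ j = 2 ^ (j - 1) * 2 by rw [← pow_succ]; congr 1; omega,
              Nat.mul_div_cancel_left _ (Nat.two_pow_pos _)]
          refine hg (inv_mem_iff.1 (hstrong hi (hMC (pow_mem hbM _)) ?_))
          have h2 := pow_mem hbg (2 ^ (j - 1))
          have h3' := conj_pow (a := g⁻¹) (b := b) (i := 2 ^ (j - 1))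
          rw [inv_inv] at h3'
          rw [h3'] at h2
          simpa only [inv_inv] using h2
        have hm : m = m' := Subtype.ext (inv_mul_eq_one.1 hmm).symm
        subst hm
        rw [show c = c' from Subtype.ext (mul_left_cancel e)]
      · exact absurd (e ▸ c'.2) (hout m c)
      · exact absurd (e ▸ c.2) (hout m' c')
      · rw [show c = c' from Subtype.ext e]
    have h := Nat.card_le_card_of_injective f hf
    rwa [Nat.card_sum, Nat.card_prod, H.cardM, H.card] at h
  -- the core of the centralizer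
  set M := M0.subgroupOf C with hMdef
  have hcM : Nat.card M = 64 := by
    rw [hMdef, Nat.card_congr (subgroupOfEquivOfLe hMC).toEquiv, H.cardM]
  have hidx := M.index_mul_card
  rw [hcM] at hidx
  have hidx3 : M.index ≤ 4 := by omega
  have hodd : ¬ 2 ∣ M.index := fun h => by
    have hd := C.card_subgroup_dvd_card
    rw [← hidx, H.card] at hd
    obtain ⟨k, hk⟩ := h
    rw [hk] at hd
    have := Nat.dvd_trans (show 128 ∣ 2 * k * 64 from ⟨k, by ring⟩) hd
    norm_num at this
  have hfac : M.normalCore.index ∣ 6 := by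
    refine (Lib.Block.index_normalCore_dvd_factorial M).trans ?_
    have h0 : M.index ≠ 0 := Subgroup.index_ne_zero_of_finite
    obtain h | h : M.index = 1 ∨ M.index = 3 := by omega
    all_goals (rw [h]; decide)
  have hcore := M.normalCore.index_mul_card
  have hle6 := Nat.le_of_dvd (by norm_num) hfac
  -- the core centralizes the conjugates in the centralizer
  have hN : ∀ {w}, w ∈ M0 → orderOf w = 2 → ∀ c ∈ M.normalCore, Commute (c : L) w := by
    intro w hw hw2 c hc
    obtain ⟨n, rfl⟩ := H.inv w hw2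
    have hn : n ∈ C := H.fixed_of_conj h3 hfix (hfix _ hw)
    have h1 : ((⟨n, hn⟩ : C)⁻¹ * c * (⟨n, hn⟩ : C)⁻¹⁻¹ : C) ∈ M :=
      M.normalCore_le (M.normalCore_normal.conj_mem c hc _)
    have h2 : n⁻¹ * (c : L) * n ∈ M0 := by simpa [hMdef, mem_subgroupOf] using h1
    have h3 := (Commute.conj_iff n).2 ((H.cent _).2 h2)
    rwa [show n * (n⁻¹ * (c : L) * n) * n⁻¹ = c by group] at h3
  have hle : M.normalCore.map C.subtype ≤
      M0 ⊓ centralizer ({q} : Set L) ⊓ centralizer ({q'} : Set L) := by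
    rintro _ ⟨c, hc, rfl⟩
    exact ⟨⟨M.normalCore_le hc, mem_centralizer_singleton_iff.2 (hN hq hq2 c hc).eq⟩,
      mem_centralizer_singleton_iff.2 (hN hq' hq'2 c hc).eq⟩
  have hcard := (Subgroup.card_le_of_le hle).trans hsmall
  rw [Subgroup.card_map_of_injective C.subtype_injective] at hcard
  have hCge : 64 ≤ Nat.card C := by rw [← H.cardM]; exact Subgroup.card_le_of_le hMC
  have := Nat.mul_le_mul hle6 hcard
  omega

theorem cent_prime {p : ℕ} (hp : p = 5 ∨ p = 7) {d : L} (hd : orderOf d = p) {y : L}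
    (hy : Commute y d) : y ∈ zpowers d := by
  have hpp : p.Prime := by rcases hp with rfl | rfl <;> norm_num
  set C := centralizer ({d} : Set L)
  have hdC : d ∈ C := mem_centralizer_singleton_iff.2 rfl
  have hall : ∀ {q : ℕ}, q.Prime → q ∣ Nat.card C → q = p := by
    intro q hq hqd
    haveI : Fact q.Prime := ⟨hq⟩
    obtain ⟨⟨w, hw⟩, hwo⟩ := exists_prime_orderOf_dvd_card' q hqd
    rw [orderOf_mk] at hwo
    by_contra hne
    have hcop : (orderOf d).Coprime (orderOf w) := by
      rw [hd, hwo]; exact (Nat.coprime_primes hpp hq).2 (Ne.symm hne)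
    have hc : Commute d w := (show Commute w d from mem_centralizer_singleton_iff.1 hw).symm
    have ho := hc.orderOf_mul_eq_mul_orderOf_of_coprime hcop
    rw [hd, hwo] at ho
    have hne1 : d * w ≠ 1 := fun e => by
      rw [e, orderOf_one] at ho
      have := hpp.two_le
      have := hq.two_le
      nlinarith
    obtain ⟨r, k, hr, hk, hrk⟩ := H.eppo _ hne1
    rw [ho] at hrk
    have h1 : p ∣ r ^ k := hrk ▸ dvd_mul_right p q
    have h2 : q ∣ r ^ k := hrk ▸ dvd_mul_left q p
    exact hne (((Nat.prime_dvd_prime_iff_eq hq hr.nat_prime).1 (hq.dvd_of_dvd_pow h2)).trans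
      ((Nat.prime_dvd_prime_iff_eq hpp hr.nat_prime).1 (hpp.dvd_of_dvd_pow h1)).symm)
  have hzC : zpowers d ≤ C := zpowers_le.2 hdC
  obtain ⟨k, hk⟩ : p ∣ Nat.card C := by
    have := Subgroup.card_dvd_of_le hzC
    rwa [Nat.card_zpowers, hd] at this
  have hk1 : k = 1 := by
    by_contra hk1
    obtain ⟨q, hq, hqk⟩ := Nat.exists_prime_and_dvd hk1
    have hqp := hall hq (hk ▸ hqk.trans (dvd_mul_left k p))
    subst hqp
    have := (mul_dvd_mul_left q hqk).trans (hk ▸ (C.card_subgroup_dvd_card))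
    rw [H.card] at this
    rcases hp with rfl | rfl <;> norm_num at this
  have heq : zpowers d = C := Subgroup.eq_of_le_of_card_ge hzC (by
    rw [hk, hk1, mul_one, Nat.card_zpowers, hd])
  rw [heq]
  exact mem_centralizer_singleton_iff.2 hy.eq

theorem card_normalizer {p : ℕ} (hp : p = 5 ∨ p = 7) {d : L} (hd : orderOf d = p) :
    Nat.card ↥(normalizer (zpowers d : Set L)) = if p = 5 then 10 else 21 := by
  classical
  have hpp : p.Prime := by rcases hp with rfl | rfl <;> norm_num
  haveI : Fact p.Prime := ⟨hpp⟩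
  have hcD : Nat.card (zpowers d) = p := by rw [Nat.card_zpowers, hd]
  obtain ⟨P, hP⟩ : ∃ P : Sylow p L, (P : Subgroup L) = zpowers d := by
    refine ⟨Sylow.ofCard (zpowers d) ?_, rfl⟩
    rw [hcD, H.card]
    rcases hp with rfl | rfl
    · rw [show (20160 : ℕ) = 5 ^ 1 * 4032 by norm_num,
        Nat.factorization_mul (by norm_num) (by norm_num), Finsupp.add_apply,
        Nat.factorization_eq_zero_of_not_dvd (show ¬ 5 ∣ 4032 by norm_num),
        Nat.Prime.factorization_pow (by norm_num), Finsupp.single_eq_same]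
      norm_num
    · rw [show (20160 : ℕ) = 7 ^ 1 * 2880 by norm_num,
        Nat.factorization_mul (by norm_num) (by norm_num), Finsupp.add_apply,
        Nat.factorization_eq_zero_of_not_dvd (show ¬ 7 ∣ 2880 by norm_num),
        Nat.Prime.factorization_pow (by norm_num), Finsupp.single_eq_same]
      norm_num
  set N := normalizer (zpowers d : Set L) with hN
  obtain ⟨k, hk, hkd⟩ : ∃ k, Nat.card N = p * k ∧ k ∣ p - 1 := by
    haveI : IsCyclic (zpowers d) := inferInstance
    have hker : (normalizerMonoidHom (zpowers d)).ker = (zpowers d).subgroupOf N := by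
      rw [normalizerMonoidHom_ker]
      ext c
      rw [mem_subgroupOf, mem_subgroupOf]
      constructor
      · intro hc
        exact H.cent_prime hp hd ((mem_centralizer_iff.1 hc d (mem_zpowers d)).symm)
      · intro hc
        refine mem_centralizer_iff.2 fun b hb => ?_
        obtain ⟨i, rfl⟩ := mem_zpowers_iff.1 hb
        obtain ⟨j, hj⟩ := mem_zpowers_iff.1 hc
        rw [← hj]; exact ((Commute.refl d).zpow_zpow i j).eq
    refine ⟨Nat.card (normalizerMonoidHom (zpowers d)).range, ?_, ?_⟩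
    · rw [card_eq_card_quotient_mul_card_subgroup (normalizerMonoidHom (zpowers d)).ker,
        Nat.card_congr (QuotientGroup.quotientKerEquivRange _).toEquiv, hker,
        Nat.card_congr (subgroupOfEquivOfLe (le_normalizer (H := zpowers d))).toEquiv, hcD,
        mul_comm]
    · refine (card_subgroup_dvd_card _).trans (dvd_of_eq ?_)
      rw [IsCyclic.card_mulAut, hcD, Nat.totient_prime hpp]
  have hmod := card_sylow_modEq_one p L
  rw [Sylow.card_eq_index_normalizer P, show ((P : Sylow p L) : Set L) = (zpowers d : Set L) from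
    congrArg SetLike.coe hP] at hmod
  have hi := (normalizer (zpowers d : Set L)).index_mul_card
  rw [← hN, H.card, hk] at hi
  rw [← hN] at hmod
  have hle := Nat.le_of_dvd (by have := hpp.two_le; omega) hkd
  rw [hk]
  unfold Nat.ModEq at hmod
  rcases hp with rfl | rfl
  · rw [if_pos rfl]
    interval_cases k <;> omega
  · rw [if_neg (by norm_num)]
    interval_cases k <;> omega

/-- An element of order five is inverted by an involution. -/
theorem exists_inverter {d : L} (hd : orderOf d = 5) :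
    ∃ w, orderOf w = 2 ∧ w * d * w⁻¹ = d⁻¹ := by
  haveI : Fact (Nat.Prime 2) := ⟨Nat.prime_two⟩
  have hN := H.card_normalizer (Or.inl rfl) hd
  rw [if_pos rfl] at hN
  obtain ⟨⟨w, hw⟩, hw2⟩ := exists_prime_orderOf_dvd_card' (G := ↥(normalizer (zpowers d : Set L))) 2
    (by rw [hN]; norm_num)
  rw [orderOf_mk] at hw2
  have hww : w * w = 1 := by rw [← pow_two, ← hw2, pow_orderOf_eq_one]
  have hm := (mem_normalizer_iff.1 hw d).1 (mem_zpowers d)
  obtain ⟨i, hi⟩ := mem_zpowers_iff.1 hm
  set e := w * d * w⁻¹ * d with he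
  have hed : e = d ^ (i + 1) := by rw [he, ← hi, zpow_add_one]
  have hwe : Commute w e := mul_inv_eq_iff_eq_mul.1 (by
    calc w * e * w⁻¹ = w * w * d * (w * w)⁻¹ * (w * d * w⁻¹) := by rw [he]; group
      _ = d * d ^ i := by rw [hww, hi]; simp
      _ = e := by rw [hed, add_comm, zpow_one_add])
  refine ⟨w, hw2, eq_inv_of_mul_eq_one_left ?_⟩
  show e = 1
  by_contra hne
  have h5 : orderOf e = 5 := by
    have := orderOf_dvd_natCard (⟨e, hed ▸ zpow_mem (mem_zpowers d) _⟩ : zpowers d)
    rw [orderOf_mk, Nat.card_zpowers, hd] at this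
    exact ((Nat.dvd_prime (by norm_num)).1 this).resolve_left fun h => hne (orderOf_eq_one_iff.1 h)
  have := orderOf_dvd_natCard (⟨w, H.cent_prime (Or.inl rfl) h5 hwe⟩ : zpowers e)
  rw [orderOf_mk, Nat.card_zpowers, hw2, h5] at this
  norm_num at this

/-- An involutory automorphism with one fixed involution in the centralizer. -/
theorem not_fixed_of_swap {σ : L →* L} (h2 : ∀ a, σ (σ a) = a) (hz : σ z0 = z0)
    (huniq : ∀ w ∈ M0, orderOf w = 2 → σ w = w → w = z0) {m : L} (hm : m ∈ M0) (hσm : σ m = m)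
    (hmm : m * m = z0) {p : ℕ} (hp : p = 5 ∨ p = 7) {d : L} (hd : orderOf d = p) (hσd : σ d = d) :
    False := by
  classical
  haveI : Fact (Nat.Prime 2) := ⟨Nat.prime_two⟩
  set C := MonoidHom.eqLocus σ (MonoidHom.id L) with hC
  have hmem : ∀ {c}, c ∈ C ↔ σ c = c := Iff.rfl
  let zC : C := ⟨z0, hz⟩
  let dC : C := ⟨d, hσd⟩
  let mC : C := ⟨m, hσm⟩
  have hzC : orderOf zC = 2 := (Subgroup.orderOf_coe zC).symm.trans H.ord
  have h2M : ∀ {c : C}, Commute c zC → c ^ 64 = 1 := fun {c} hc =>
    Subtype.ext (H.pow_M ((H.cent (c : L)).1 (congrArg Subtype.val hc.eq)))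
  -- a Sylow subgroup with one involution
  obtain ⟨P, hP⟩ := (IsPGroup.of_card (n := 1) (by rw [Nat.card_zpowers, hzC, pow_one]) :
    IsPGroup 2 (zpowers zC)).exists_le_sylow
  have hzP : zC ∈ (P : Subgroup C) := hP (mem_zpowers zC)
  have huP : ∀ {w : C}, orderOf w = 2 → Commute w zC → w = zC := fun {w} hw hc =>
    Subtype.ext (huniq _ ((H.cent (w : L)).1 (congrArg Subtype.val hc.eq))
      (by rw [orderOf_coe]; exact hw) w.2)
  have hiso : IsIsolatedInvolution zC := by
    refine Lib.ZStar.isolated_of_unique_involution P hzC fun w hw hw2 => huP hw2 ?_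
    haveI : Nontrivial (P : Subgroup C) := ⟨⟨zC, hzP⟩, 1, fun e => by
      have := congrArg Subtype.val e
      simp only [OneMemClass.coe_one] at this
      rw [this, orderOf_one] at hzC
      norm_num at hzC⟩
    haveI := P.2.center_nontrivial
    obtain ⟨j, hj⟩ := IsPGroup.iff_card.1 (P.2.to_subgroup (center (P : Subgroup C)))
    have hj0 : j ≠ 0 := fun e => by
      have := Finite.one_lt_card (α := center (P : Subgroup C))
      rw [hj, e] at this
      simp at this
    obtain ⟨u, hu⟩ := exists_prime_orderOf_dvd_card' (G := center (P : Subgroup C)) 2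
      (hj ▸ dvd_pow_self 2 hj0)
    have hu2 : orderOf ((u : (P : Subgroup C)) : C) = 2 := by rw [orderOf_coe, orderOf_coe, hu]
    have hucomm : ∀ b ∈ (P : Subgroup C), Commute b ((u : (P : Subgroup C)) : C) := fun b hb =>
      congrArg Subtype.val (mem_center_iff.1 u.2 ⟨b, hb⟩)
    have hue := huP hu2 (hucomm zC hzP).symm
    rw [← hue]
    exact hucomm w hw
  -- inversion on the odd core
  set O := oddCore C
  haveI : O.Normal := by show (oddCore C).Normal; unfold Cfsg.oddCore; infer_instance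
  have hodd := Lib.ZStar.odd_card_oddCore (G := C)
  have hoOdd : ∀ {o}, o ∈ O → (orderOf o).Coprime 2 := fun {o} ho => by
    have := Subgroup.orderOf_dvd_natCard _ ho
    exact Nat.Coprime.coprime_dvd_left this (Nat.coprime_two_right.2 hodd)
  have hzz : zC * zC = 1 := by rw [← pow_two, ← hzC, pow_orderOf_eq_one]
  have hinv : ∀ o ∈ O, zC * o * zC⁻¹ = o⁻¹ := by
    intro o ho
    let ψ : O →* O := (MulAut.conjNormal zC).toMonoidHom
    have hψ : ∀ b, ((ψ b : O) : C) = zC * b * zC⁻¹ := fun b => MulAut.conjNormal_apply _ _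
    have hinvol : Function.Involutive ψ := fun b => Subtype.ext (by
      rw [hψ, hψ, show zC * (zC * (b : C) * zC⁻¹) * zC⁻¹ = zC * zC * b * (zC * zC)⁻¹ by group, hzz]
      simp)
    have hfree : MonoidHom.FixedPointFree ψ := fun b hb => by
      have e : zC * (b : C) * zC⁻¹ = b := by rw [← hψ, hb]
      refine Subtype.ext (orderOf_eq_one_iff.1 (Nat.eq_one_of_dvd_coprimes
        (Nat.Coprime.pow_right 6 (hoOdd b.2)) dvd_rfl (orderOf_dvd_of_pow_eq_one ?_)))
      exact h2M (mul_inv_eq_iff_eq_mul.1 e).symm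
    exact (hψ ⟨o, ho⟩).symm.trans
      (congrArg Subtype.val (congrFun (hfree.coe_eq_inv_of_involutive hinvol) ⟨o, ho⟩))
  -- the fixed element lies in the odd core
  have hdO : dC ∈ O := by
    have ho : zC * dC * zC⁻¹ * dC⁻¹ ∈ O := Lib.ZStar.zStarHolds C zC hiso dC
    set o := zC * dC * zC⁻¹ * dC⁻¹ with hod
    obtain ⟨j, hj⟩ := exists_pow_eq_self_of_coprime (x := o) (hoOdd ho).symm
    set r := o ^ j with hr
    have hrr : r * r = o := by
      rw [hr, ← pow_add, ← two_mul, pow_mul]; exact hj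
    have hrO : r ∈ O := pow_mem ho j
    have hc : Commute (r * dC) zC := by
      refine (mul_inv_eq_iff_eq_mul.1 ?_).symm
      calc zC * (r * dC) * zC⁻¹ = zC * r * zC⁻¹ * (o * dC) := by rw [hod]; group
        _ = r * dC := by rw [hinv r hrO, ← hrr]; group
    have h1 : (QuotientGroup.mk' O (r * dC)) ^ 64 = 1 := by
      rw [← map_pow, h2M hc, map_one]
    rw [map_mul, show QuotientGroup.mk' O r = 1 from (QuotientGroup.eq_one_iff _).2 hrO, one_mul] at h1
    have h5 : (QuotientGroup.mk' O dC) ^ p = 1 := by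
      rw [← map_pow, show dC ^ p = 1 from Subtype.ext (show d ^ p = 1 by
        rw [← hd, pow_orderOf_eq_one]), map_one]
    have hcop : (64 : ℕ).Coprime p := by rcases hp with rfl | rfl <;> norm_num
    exact (QuotientGroup.eq_one_iff _).1 (orderOf_eq_one_iff.1 (Nat.eq_one_of_dvd_coprimes hcop
      (orderOf_dvd_of_pow_eq_one h1) (orderOf_dvd_of_pow_eq_one h5)))
  have habel : ∀ a ∈ O, Commute a dC := by
    intro a ha
    have h1 := hinv (a * dC) (mul_mem ha hdO)
    rw [show zC * (a * dC) * zC⁻¹ = zC * a * zC⁻¹ * (zC * dC * zC⁻¹) by group, hinv a ha,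
      hinv dC hdO, mul_inv_rev] at h1
    have := congrArg (fun w => a * dC * w * (a * dC)) h1
    simp [mul_assoc] at this
    exact (inv_inj.1 (by simpa [mul_inv_rev] using h1)).symm
  -- normalization by an element of order four
  have hmN : m ∈ normalizer (zpowers d : Set L) := by
    have hd0 : ∀ n : L, n ∈ C → n * d * n⁻¹ ∈ zpowers d := fun n hn => by
      have h1 : (⟨n, hn⟩ : C) * dC * (⟨n, hn⟩ : C)⁻¹ ∈ O :=
        (inferInstance : O.Normal).conj_mem _ hdO _
      exact H.cent_prime hp hd (congrArg Subtype.val (habel _ h1).eq)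
    refine mem_normalizer_iff.2 fun b => ⟨fun hb => ?_, fun hb => ?_⟩
    · obtain ⟨i, rfl⟩ := mem_zpowers_iff.1 hb
      rw [← conj_zpow]
      exact zpow_mem (hd0 m hσm) i
    · obtain ⟨i, hi⟩ := mem_zpowers_iff.1 hb
      rw [show b = m⁻¹ * (m * b * m⁻¹) * m by group, ← hi]
      have h2 := hd0 m⁻¹ (inv_mem (show m ∈ C from hσm))
      rw [inv_inv] at h2
      have h3 := zpow_mem h2 i
      have h4 := conj_zpow (a := m⁻¹) (b := d) (i := i)
      rw [inv_inv] at h4
      rwa [h4] at h3
  have hm4 : orderOf m = 4 := by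
    rw [show (4 : ℕ) = 2 ^ (1 + 1) from rfl]
    refine orderOf_eq_prime_pow (fun e => ?_) ?_
    · rw [pow_one, pow_two, hmm] at e
      have := H.ord
      rw [e, orderOf_one] at this
      norm_num at this
    · rw [show 2 ^ (1 + 1) = 2 * 2 from rfl, pow_mul, pow_two m, hmm, pow_two, ← pow_two, ← H.ord,
        pow_orderOf_eq_one]
  have := Subgroup.orderOf_dvd_natCard _ hmN
  rw [hm4, H.card_normalizer hp hd] at this
  rcases hp with rfl | rfl <;> norm_num at this

end LFour

end Cfsg.Lib.Extra.SuzLocal
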