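import Cfsg.Agent.Lib.Extra.SuzLocal.LThree
import Cfsg.Agent.Lib.Extra.SuzLocal.Rigid
import Cfsg.Agent.Lib.CompositeOrder.LThreeFourTop

/-!
# The outer action on the centralizer of the four-group

The element of order three centralizes `K/V`, and the elements of `C(x)` outside `K` centralize no
element of order five or seven of `K`.
-/

set_option autoImplicit false
set_option linter.style.haveILetI false
set_option linter.unusedSectionVars false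

namespace Cfsg.Lib.Extra.SuzLocal

open Cfsg Module Cfsg.Lib.Linear.Orth Cfsg.Lib.Extra.Wide
open scoped Matrix

universe u

variable {G : Type u} [Group G] {ι : Type} [Fintype ι] [DecidableEq ι] {D : Data G ι} [Finite G]

namespace Cfg

variable {x x' h t q1 q2 y1 y2 : G} {v u r1 r2 : ι → ZMod 2}
  (K : Cfg D x x' h t q1 q2 y1 y2 v u r1 r2)

instance instVNormal (K : Cfg D x x' h t q1 q2 y1 y2 v u r1 r2) :
    (K.Vgrp.subgroupOf K.Kgrp).Normal := K.K_V_normal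

/-- `K` modulo the four-group. -/
abbrev Lq := ↥K.Kgrp ⧸ K.Vgrp.subgroupOf K.Kgrp

/-- The projection. -/
def Lmk : ↥K.Kgrp →* K.Lq := QuotientGroup.mk' _

/-- The image of the centralizer of the pair. -/
def Mbar : Subgroup K.Lq := (K.Mgrp.subgroupOf K.Kgrp).map K.Lmk

include K

theorem lmk_one {c : ↥K.Kgrp} : K.Lmk c = 1 ↔ K.InV (c : G) := QuotientGroup.eq_one_iff c

theorem M_K {c : G} (hc : K.InM c) : c ∈ K.Kgrp := K.M_le (K.mem_M.2 hc)

theorem lmk_eq {a b : G} (ha : a ∈ K.Kgrp) (hb : b ∈ K.Kgrp) :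
    K.Lmk ⟨a, ha⟩ = K.Lmk ⟨b, hb⟩ ↔ K.InV (a⁻¹ * b) := by
  rw [← inv_mul_eq_one, ← map_inv, ← map_mul, lmk_one]
  rfl

omit K in
/-- The image of the centre. -/
def zbar (K : Cfg D x x' h t q1 q2 y1 y2 v u r1 r2) : K.Lq :=
  K.Lmk ⟨D.z, K.M_K (K.A_M (Or.inr (Or.inl rfl)))⟩

theorem V_pick {a : G} (ha : K.InV a) : ∃ i j, a = pick x i * pick x' j := by
  rcases ha with rfl | rfl | rfl | rfl
  exacts [⟨0, 0, by simp⟩, ⟨1, 0, by simp⟩, ⟨0, 1, by simp⟩, ⟨1, 1, by simp⟩]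

theorem cl_unique {c w : G} (hc : K.InM c) (hcl : D.Cl c) (hw : K.InV w) (hcw : D.Cl (c * w)) :
    w = 1 := by
  obtain ⟨i', j', rfl⟩ := K.V_pick hw
  obtain ⟨a, i, j, k, l, ha, rfl, -⟩ := K.cl_M hc hcl
  obtain ⟨b, m, n, o, r, hb, e, -⟩ := K.cl_M (K.M_mul hc (K.V_M hw)) hcw
  have hcomm := K.V_comm hw (K.el_comm i j k l).1 (K.el_comm i j k l).2
  obtain ⟨-, rfl, rfl, -⟩ := K.inj (m' := 0) (n' := 0) ha hb (show a * (pick x i' * pick x' j') *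
      elm q1 q2 y1 y2 i j k l = b * (pick x 0 * pick x' 0) * elm q1 q2 y1 y2 m n o r by
    rw [mul_assoc a, hcomm.eq, ← mul_assoc, e]; simp)
  simp

theorem V_conj {g c : G} (hg : Commute g x) (hc : K.InV c) : K.InV (g * c * g⁻¹) := by
  have hx : g * x * g⁻¹ = x := by rw [hg.eq, mul_inv_cancel_right]
  rcases hc with rfl | rfl | rfl | rfl
  · exact Or.inl (by group)
  · exact Or.inr (Or.inl hx)
  · rcases K.V_normal hg with e | e
    exacts [Or.inr (Or.inr (Or.inl e)), Or.inr (Or.inr (Or.inr e))]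
  · rw [show g * (x * x') * g⁻¹ = g * x * g⁻¹ * (g * x' * g⁻¹) by group, hx]
    rcases K.V_normal hg with e | e <;> rw [e]
    · exact Or.inr (Or.inr (Or.inr rfl))
    · refine Or.inr (Or.inr (Or.inl ?_))
      rw [← mul_assoc, K.x_sq, one_mul]

theorem K_conj {g c : G} (hg : Commute g x) (hc : c ∈ K.Kgrp) : g * c * g⁻¹ ∈ K.Kgrp := by
  obtain ⟨h1, h2⟩ := K.mem_K.1 hc
  refine K.mem_K.2 ⟨(hg.mul_left h1).mul_left hg.inv_left, ?_⟩
  have h3 := K.V_comm (K.V_conj (g := g⁻¹) hg.inv_left (Or.inr (Or.inr (Or.inl rfl)))) h1 h2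
  rw [inv_inv] at h3
  exact (commute_conj g h3).symm

theorem h_V {c : G} (hc : K.InV c) : K.InV (h * c * h⁻¹) := by
  rcases hc with rfl | rfl | rfl | rfl
  · exact Or.inl (by group)
  · exact Or.inr (Or.inr (Or.inl K.conj1))
  · exact Or.inr (Or.inr (Or.inr K.conj2))
  · rw [show h * (x * x') * h⁻¹ = h * x * h⁻¹ * (h * x' * h⁻¹) by group, K.conj1, K.conj2]
    exact K.V_mul (Or.inr (Or.inr (Or.inl rfl))) (Or.inr (Or.inr (Or.inr rfl)))

theorem h_K {c : G} (hc : c ∈ K.Kgrp) : h * c * h⁻¹ ∈ K.Kgrp := by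
  obtain ⟨h1, h2⟩ := K.mem_K.1 hc
  have e1 : Commute (h * c * h⁻¹) x' := K.conj1 ▸ (Commute.conj_iff h).2 h1
  have e2 : Commute (h * c * h⁻¹) (x * x') := K.conj2 ▸ (Commute.conj_iff h).2 h2
  refine K.mem_K.2 ⟨?_, e1⟩
  have := e2.mul_right e1
  rwa [show x * x' * x' = x by rw [mul_assoc, K.x'_sq, mul_one]] at this

omit K in
/-- The map of `K/V` induced by conjugation. -/
def induced (K : Cfg D x x' h t q1 q2 y1 y2 v u r1 r2) (g : G)
    (hK : ∀ c ∈ K.Kgrp, g * c * g⁻¹ ∈ K.Kgrp) (hV : ∀ c, K.InV c → K.InV (g * c * g⁻¹)) :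
    K.Lq →* K.Lq :=
  QuotientGroup.map _ _
    (MonoidHom.mk' (fun c : ↥K.Kgrp => (⟨g * c * g⁻¹, hK c c.2⟩ : ↥K.Kgrp))
      fun a b => Subtype.ext (by simp [mul_assoc]))
    fun c hc => hV (c : G) hc

theorem induced_mk {g : G} (hK : ∀ c ∈ K.Kgrp, g * c * g⁻¹ ∈ K.Kgrp)
    (hV : ∀ c, K.InV c → K.InV (g * c * g⁻¹)) {c : G} (hc : c ∈ K.Kgrp) :
    K.induced g hK hV (K.Lmk ⟨c, hc⟩) = K.Lmk ⟨g * c * g⁻¹, hK c hc⟩ := rfl

theorem mem_Mbar {y : K.Lq} : y ∈ K.Mbar ↔ ∃ c, ∃ hc : K.InM c, K.Lmk ⟨c, K.M_K hc⟩ = y := by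
  constructor
  · rintro ⟨⟨c, hcK⟩, hc, rfl⟩
    exact ⟨c, K.mem_M.1 hc, rfl⟩
  · rintro ⟨c, hc, rfl⟩
    exact ⟨⟨c, K.M_K hc⟩, K.mem_M.2 hc, rfl⟩

theorem card_Mbar : Nat.card ↥K.Mbar = 64 := by
  let f := K.Lmk.comp (Subgroup.inclusion (show K.Mgrp ≤ K.Kgrp from K.M_le))
  have hr : f.range = K.Mbar := by
    ext y
    rw [K.mem_Mbar]
    exact ⟨fun ⟨c, e⟩ => ⟨c, K.mem_M.1 c.2, e⟩, fun ⟨c, hc, e⟩ => ⟨⟨c, K.mem_M.2 hc⟩, e⟩⟩
  have hk : f.ker = K.Vgrp.subgroupOf K.Mgrp := by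
    ext c
    exact K.lmk_one
  have h := Subgroup.card_eq_card_quotient_mul_card_subgroup f.ker
  rw [Nat.card_congr (QuotientGroup.quotientKerEquivRange f).toEquiv, hk, hr, K.card_M,
    Nat.card_congr (Subgroup.subgroupOfEquivOfLe (show K.Vgrp ≤ K.Mgrp from fun a ha =>
      K.mem_M.2 (K.V_M ha))).toEquiv, K.card_V] at h
  omega

theorem lfour : LFour K.Mbar K.zbar := by
  haveI : Fact (Nat.Prime 2) := ⟨Nat.prime_two⟩
  obtain ⟨F, i, j, hF, ⟨e⟩⟩ := K.lthree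
  have hE : Lib.CIT.IsEppo K.Lq := Lib.CompOrd.isEppo_psl34 hF e
  have hcard : Nat.card K.Lq = 20160 :=
    (Nat.card_congr e.toEquiv).trans (Cfsg.Lib.Concrete.MTwentyOne.card_psl34 F hF)
  have hz : orderOf K.zbar = 2 := by
    refine orderOf_eq_prime ?_ fun e => ?_
    · rw [zbar, ← map_pow, show (⟨D.z, _⟩ : ↥K.Kgrp) ^ 2 = 1 from Subtype.ext (by
        show D.z ^ 2 = 1; rw [pow_two, D.ctx.sq_z]), map_one]
    · exact D.ctx.ne_one (K.A_inf_V (Or.inr (Or.inl rfl)) (K.lmk_one.1 e))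
  have hle : K.Mbar ≤ Subgroup.centralizer ({K.zbar} : Set K.Lq) := fun y hy => by
    obtain ⟨c, hc, rfl⟩ := K.mem_Mbar.1 hy
    exact Subgroup.mem_centralizer_singleton_iff.2 ((show Commute (⟨c, K.M_K hc⟩ : ↥K.Kgrp)
      ⟨D.z, K.M_K (K.A_M (Or.inr (Or.inl rfl)))⟩ from Subtype.ext hc.1.eq).map K.Lmk).eq
  have heq : K.Mbar = Subgroup.centralizer ({K.zbar} : Set K.Lq) := by
    refine Subgroup.eq_of_le_of_card_ge hle ?_
    obtain ⟨k, hk⟩ := IsPGroup.iff_card.1 (hE.isCIT K.zbar hz)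
    have hd := Subgroup.card_subgroup_dvd_card (Subgroup.centralizer ({K.zbar} : Set K.Lq))
    rw [hcard, hk] at hd
    rw [hk, K.card_Mbar]
    by_contra hlt
    have h7 : (2 : ℕ) ^ 7 ∣ 2 ^ k := pow_dvd_pow 2 (by
      by_contra h6
      exact hlt (Nat.pow_le_pow_right two_pos (show k ≤ 6 by omega) |>.trans (by norm_num)))
    have := h7.trans hd
    norm_num at this
  refine ⟨hcard, K.card_Mbar, hz, fun y => ?_, fun y hy => ?_, hE⟩
  · rw [heq, Subgroup.mem_centralizer_singleton_iff]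
    rfl
  · obtain ⟨c, hc⟩ := isConj_iff.1 (Cfsg.Agent.S0820.result hF (e K.zbar) (e y)
      (by rw [MulEquiv.orderOf_eq, hz]) (by rw [MulEquiv.orderOf_eq, hy]))
    refine ⟨e.symm c, e.injective ?_⟩
    rw [map_mul, map_mul, map_inv, MulEquiv.apply_symm_apply, hc]

/-- An involution of the image has a lift conjugate to `z`. -/
theorem invol_lift {y : K.Lq} (hy : y ∈ K.Mbar) (h2 : orderOf y = 2) :
    ∃ c, ∃ hc : K.InM c, D.Cl c ∧ K.Lmk ⟨c, K.M_K hc⟩ = y := by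
  obtain ⟨m, hm, rfl⟩ := K.mem_Mbar.1 hy
  obtain ⟨a, i', j', i, j, k, l, ha, rfl⟩ := K.M_decomp hm
  have hV0 := K.vp_mem i' j'
  have hel := K.el_M i j k l
  have hcV := K.V_comm hV0 (K.el_comm i j k l).1 (K.el_comm i j k l).2
  have hcA : Commute a (elm q1 q2 y1 y2 i j k l) := K.A_comm ha hel.1 hel.2.1
  have hAV : Commute a (pick x i' * pick x' j') := K.A_comm ha (K.V_M hV0).1 (K.V_M hV0).2.1
  have hw : K.InM (a * elm q1 q2 y1 y2 i j k l) := K.M_mul (K.A_M ha) hel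
  have heq : K.Lmk ⟨a * elm q1 q2 y1 y2 i j k l, K.M_K hw⟩ = K.Lmk ⟨_, K.M_K hm⟩ := by
    rw [K.lmk_eq]
    rw [show (a * elm q1 q2 y1 y2 i j k l)⁻¹ * (a * (pick x i' * pick x' j') *
      elm q1 q2 y1 y2 i j k l) = (elm q1 q2 y1 y2 i j k l)⁻¹ * (pick x i' * pick x' j') *
      elm q1 q2 y1 y2 i j k l by group, mul_assoc, hcV.eq, inv_mul_cancel_left]
    exact hV0
  rw [← heq] at h2 ⊢
  have ha2 : a * a = 1 := by
    obtain ⟨i0, j0, rfl⟩ := K.pt.inA_zt ha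
    rw [K.pt.zt_add, bit_self, bit_self]; simp [Data.zt]
  have he2 : elm q1 q2 y1 y2 i j k l * elm q1 q2 y1 y2 i j k l = 1 := by
    refine K.A_inf_V (K.el_sq_A i j k l) ?_
    have h1 : K.Lmk (⟨a * elm q1 q2 y1 y2 i j k l, K.M_K hw⟩ *
        ⟨a * elm q1 q2 y1 y2 i j k l, K.M_K hw⟩) = 1 := by
      rw [map_mul, ← pow_two, ← h2, pow_orderOf_eq_one]
    have h1' := K.lmk_one.1 h1
    rwa [show ((⟨a * elm q1 q2 y1 y2 i j k l, K.M_K hw⟩ *
      ⟨a * elm q1 q2 y1 y2 i j k l, K.M_K hw⟩ : ↥K.Kgrp) : G) =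
      a * elm q1 q2 y1 y2 i j k l * (a * elm q1 q2 y1 y2 i j k l) from rfl,
      hcA.symm.mul_mul_mul_comm, ha2, one_mul] at h1'
  refine ⟨_, hw, K.cl_el ha he2 fun e => ?_, rfl⟩
  rw [K.lmk_one.2 (show K.InV (a * elm q1 q2 y1 y2 i j k l) from Or.inl e), orderOf_one] at h2
  norm_num at h2

theorem cl_q : D.Cl q1 ∧ D.Cl q2 := by
  have hn12 : ¬ Commute q1 q2 := fun e => by
    have := (D.cls_comm q1 K.cq1.1 q2 K.cq2.1).1 e
    rw [K.cls1, K.cls2, K.coord.rr] at this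
    exact one_ne_zero this
  exact ⟨D.cl_of_mem K.cq1.1 ((D.cls_sq q1 K.cq1.1).2 (by rw [K.cls1]; exact K.qr1))
    (fun e => hn12 (e ▸ Commute.one_left _)), D.cl_of_mem K.cq2.1
    ((D.cls_sq q2 K.cq2.1).2 (by rw [K.cls2]; exact K.qr2)) fun e => hn12 (e ▸ Commute.one_right _)⟩

theorem lmk_cl {c : G} (hc : K.InM c) (hcl : D.Cl c) : orderOf (K.Lmk ⟨c, K.M_K hc⟩) = 2 := by
  haveI : Fact (Nat.Prime 2) := ⟨Nat.prime_two⟩
  refine orderOf_eq_prime ?_ fun e => ?_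
  · rw [← map_pow, show (⟨c, K.M_K hc⟩ : ↥K.Kgrp) ^ 2 = 1 from Subtype.ext (by
      show c ^ 2 = 1; rw [pow_two]; exact hcl.sq D), map_one]
  · obtain ⟨h1, h2, h3⟩ := K.ax_not_cl (Or.inl rfl : D.InA t (1 : G))
    rw [one_mul] at h1 h2 h3
    rcases K.lmk_one.1 e with e' | e' | e' | e' <;> simp only at e' <;> rw [e'] at hcl
    exacts [hcl.ne_one D rfl, h1 hcl, h2 hcl, h3 hcl]

/-- Conjugates that agree modulo the four-group are equal. -/
theorem cl_lift {g c : G} (hg : K.InM (g * c * g⁻¹)) (hc : K.InM c) (hcl : D.Cl c)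
    (e : K.InV (c⁻¹ * (g * c * g⁻¹))) : Commute g c := by
  have h1 : c⁻¹ * (g * c * g⁻¹) = 1 := K.cl_unique hc hcl e (by
    rw [mul_inv_cancel_left]; exact hcl.conj D g)
  exact mul_inv_eq_iff_eq_mul.1 (inv_mul_eq_one.1 h1).symm

/-- The element of order three centralizes `K/V`. -/
theorem h_mod {c : G} (hc : c ∈ K.Kgrp) : K.InV (h * c * h⁻¹ * c⁻¹) := by
  have hK : ∀ c ∈ K.Kgrp, h * c * h⁻¹ ∈ K.Kgrp := fun c => K.h_K
  have hV : ∀ c, K.InV c → K.InV (h * c * h⁻¹) := fun c => K.h_V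
  set φ := K.induced h hK hV
  have h3 : ∀ a, φ (φ (φ a)) = a := fun a => by
    obtain ⟨⟨a, ha⟩, rfl⟩ := QuotientGroup.mk'_surjective _ a
    show φ (φ (φ (K.Lmk ⟨a, ha⟩))) = K.Lmk ⟨a, ha⟩
    rw [K.induced_mk hK hV ha, K.induced_mk hK hV, K.induced_mk hK hV]
    refine congrArg K.Lmk (Subtype.ext ?_)
    show h * (h * (h * a * h⁻¹) * h⁻¹) * h⁻¹ = a
    rw [show h * (h * (h * a * h⁻¹) * h⁻¹) * h⁻¹ = h * h * h * a * (h * h * h)⁻¹ by group,
      show h * h * h = h ^ 3 by rw [pow_three, mul_assoc], K.h3]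
    simp
  have hfix : ∀ a ∈ K.Mbar, φ a = a := fun a ha => by
    obtain ⟨m, hm, rfl⟩ := K.mem_Mbar.1 ha
    rw [K.induced_mk hK hV]
    refine ((K.lmk_eq _ _).2 ?_).symm
    obtain ⟨b, i', j', i, j, k, l, hb, rfl⟩ := K.M_decomp hm
    have hp : ∀ {g : G} (i : ZMod 2), Commute h g → Commute (pick g i) h := fun i hg =>
      pick_comm hg.symm i
    have hel : Commute (elm q1 q2 y1 y2 i j k l) h :=
      ((hp i K.hq1).mul_left (hp j K.hq2)).mul_left ((hp k K.hy1).mul_left (hp l K.hy2))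
    have hV0 := K.vp_mem i' j'
    set V0 := pick x i' * pick x' j'
    set el := elm q1 q2 y1 y2 i j k l
    have hVe : ∀ {w}, K.InV w → Commute w el := fun hw =>
      K.V_comm hw (K.el_comm i j k l).1 (K.el_comm i j k l).2
    have hV1 : K.InV (V0⁻¹ * (h * V0 * h⁻¹)) := K.V_mul (K.V_inv hV0) (K.h_V hV0)
    rw [show h * (b * V0 * el) * h⁻¹ = h * b * h⁻¹ * (h * V0 * h⁻¹) * (h * el * h⁻¹) by group,
      K.h_A hb, hel.symm.eq, mul_inv_cancel_right,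
      show (b * V0 * el)⁻¹ * (b * (h * V0 * h⁻¹) * el) = el⁻¹ * (V0⁻¹ * (h * V0 * h⁻¹)) * el by
        group, mul_assoc, (hVe hV1).eq, inv_mul_cancel_left]
    exact hV1
  obtain ⟨m1, m2, -, -⟩ := K.q_M
  obtain ⟨hc1, hc2⟩ := K.cl_q
  have key : ∀ a, φ a = a := by
    refine K.lfour.fixed_all h3 hfix (K.mem_Mbar.2 ⟨q1, m1, rfl⟩) (K.lmk_cl m1 hc1)
      (K.mem_Mbar.2 ⟨q2, m2, rfl⟩) (K.lmk_cl m2 hc2) ?_
    let f : ZMod 2 × ZMod 2 → K.Lq := fun e => K.Lmk ⟨D.zt t e.1 e.2, K.M_K (K.A_M (K.pt.zt_A _ _))⟩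
    have hsur : ∀ y : ↥(K.Mbar ⊓ Subgroup.centralizer ({K.Lmk ⟨q1, K.M_K m1⟩} : Set K.Lq) ⊓
        Subgroup.centralizer ({K.Lmk ⟨q2, K.M_K m2⟩} : Set K.Lq)), ∃ e, f e = (y : K.Lq) := by
      rintro ⟨y, ⟨hy, hy1⟩, hy2⟩
      obtain ⟨m, hm, rfl⟩ := K.mem_Mbar.1 hy
      have hcomm : ∀ {q} (hq : K.InM q), D.Cl q →
          Commute (K.Lmk ⟨m, K.M_K hm⟩) (K.Lmk ⟨q, K.M_K hq⟩) → Commute m q := fun {q} hq hcl e => by
        have hmq := K.M_mul (K.M_mul hm hq) (K.M_inv hm)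
        refine K.cl_lift hmq hq hcl ((K.lmk_eq (K.M_K hq) (K.M_K hmq)).1 ?_)
        rw [show (⟨m * q * m⁻¹, K.M_K hmq⟩ : ↥K.Kgrp) =
          ⟨m, K.M_K hm⟩ * ⟨q, K.M_K hq⟩ * (⟨m, K.M_K hm⟩ : ↥K.Kgrp)⁻¹ from rfl, map_mul, map_mul,
          map_inv, e.eq, mul_inv_cancel_right]
      have e1 := hcomm m1 hc1 (Subgroup.mem_centralizer_singleton_iff.1 hy1)
      have e2 := hcomm m2 hc2 (Subgroup.mem_centralizer_singleton_iff.1 hy2)
      obtain ⟨b, i', j', i, j, k, l, hb, he⟩ := K.M_decomp hm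
      obtain ⟨b', i0, j0, hb', he'⟩ := K.Z_of_el hb he
        ((K.el_comm_q i j k l).1 (K.el_commute_of hb he m1 e1))
        ((K.el_comm_q i j k l).2 (K.el_commute_of hb he m2 e2))
      obtain ⟨s, r, rfl⟩ := K.pt.inA_zt hb'
      refine ⟨(s, r), (K.lmk_eq _ _).2 ?_⟩
      rw [he', inv_mul_cancel_left]
      exact K.vp_mem i0 j0
    choose g hg using hsur
    refine (Nat.card_le_card_of_injective g fun a b e => Subtype.ext ?_).trans
      (by simp [Nat.card_prod])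
    rw [← hg a, ← hg b, e]
  have hk := (K.lmk_eq hc (K.h_K hc)).1 (key (K.Lmk ⟨c, hc⟩)).symm
  obtain ⟨hx, hx'⟩ := K.mem_K.1 hc
  have e : h * c * h⁻¹ * c⁻¹ = c⁻¹ * (h * c * h⁻¹) := by
    conv_lhs => rw [show h * c * h⁻¹ * c⁻¹ = c * (c⁻¹ * (h * c * h⁻¹)) * c⁻¹ by group,
      (K.V_comm hk hx hx').symm.eq, mul_inv_cancel_right]
  rw [e]; exact hk

theorem h_odd {c : G} (hc : c ∈ K.Kgrp) (hodd : Odd (orderOf c)) : Commute h c := by
  obtain ⟨hx, hx'⟩ := K.mem_K.1 hc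
  have hw := K.h_mod hc
  set w := h * c * h⁻¹ * c⁻¹ with hwd
  have e : h * c * h⁻¹ = w * c := by rw [hwd]; group
  have h1 : (w * c) ^ orderOf c = 1 := by
    rw [← e, conj_pow, pow_orderOf_eq_one]; group
  rw [(K.V_comm hw hx hx').mul_pow, pow_orderOf_eq_one, mul_one] at h1
  obtain ⟨k, hk⟩ := hodd
  rw [hk, pow_succ, pow_mul, pow_two, K.V_sq hw, one_pow, one_mul] at h1
  rw [h1, one_mul] at e
  exact mul_inv_eq_iff_eq_mul.1 e

theorem h_cl {w : G} (hw : D.Cl w) (hwx : Commute w x) : Commute h w := by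
  have hK := K.cl_K hw hwx
  obtain ⟨hx, hx'⟩ := K.mem_K.1 hK
  have hv := K.h_mod hK
  set a := h * w * h⁻¹ * w⁻¹ with had
  obtain ⟨g, hgw, hgx⟩ := to_pair K.coord.six K.fr hw K.x_sq K.fr.ne_one K.x_not_cl hwx
  have hg : Commute g x := mul_inv_eq_iff_eq_mul.1 hgx
  have e : D.z * (g * a * g⁻¹) = g * (h * w * h⁻¹) * g⁻¹ := by
    rw [← hgw, show h * w * h⁻¹ = a * w by rw [had]; group, (K.V_comm hv hx hx').eq]
    group
  have h1 := K.cl_unique (K.A_M (Or.inr (Or.inl rfl))) D.cl_z (K.V_conj hg hv)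
    (by rw [e]; exact (hw.conj D h).conj D g)
  rw [conj_eq_one_iff] at h1
  exact mul_inv_eq_iff_eq_mul.1 (mul_inv_eq_one.1 h1)

/-- An element of order five or seven of `K` with a centralizer outside `K`. -/
theorem not_outer {n d : G} (hnz : Commute n D.z) (hnx : Commute n x)
    (hnt : n * t * n⁻¹ = D.z * t) (hn2 : K.InV (n * n)) (hdK : d ∈ K.Kgrp)
    (hd : orderOf (K.Lmk ⟨d, hdK⟩) = 5 ∨ orderOf (K.Lmk ⟨d, hdK⟩) = 7) (hnd : Commute n d) :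
    False := by
  have hK : ∀ c ∈ K.Kgrp, n * c * n⁻¹ ∈ K.Kgrp := fun c => K.K_conj hnx
  have hV : ∀ c, K.InV c → K.InV (n * c * n⁻¹) := fun c => K.V_conj hnx
  set σ := K.induced n hK hV
  have hnn : ∀ c ∈ K.Kgrp, n * (n * c * n⁻¹) * n⁻¹ = c := fun c hc => by
    rw [show n * (n * c * n⁻¹) * n⁻¹ = n * n * c * (n * n)⁻¹ by group,
      (K.V_comm hn2 (K.mem_K.1 hc).1 (K.mem_K.1 hc).2).eq, mul_inv_cancel_right]
  have h2 : ∀ a, σ (σ a) = a := fun a => by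
    obtain ⟨⟨a, ha⟩, rfl⟩ := QuotientGroup.mk'_surjective _ a
    show σ (σ (K.Lmk ⟨a, ha⟩)) = K.Lmk ⟨a, ha⟩
    rw [K.induced_mk hK hV ha, K.induced_mk hK hV]
    exact congrArg K.Lmk (Subtype.ext (hnn a ha))
  have hz : σ K.zbar = K.zbar := by
    rw [zbar, K.induced_mk hK hV]
    exact congrArg K.Lmk (Subtype.ext (show n * D.z * n⁻¹ = D.z by
      rw [hnz.eq, mul_inv_cancel_right]))
  obtain ⟨-, hA, hM⟩ := K.move (g := n) (a := D.z) hnx (Or.inl rfl)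
    (Or.inl (by rw [hnz.eq, mul_inv_cancel_right]))
  obtain ⟨-, α, β, hA1, hA2⟩ := K.swap_facts hnz hnx hnt
  set p := D.cls t with hpdef
  have hp1 : D.B r1 p = 0 := (D.space.symm _ _).trans K.coord.pr
  have hiso := D.act_iso hnz
  have hnp : (D.act n).val *ᵥ p = p := by
    rw [hpdef, ← D.act_cls n hnz t K.pt.mem, hnt, K.pt.cls_zt]
  have bmul : ∀ a : ZMod 2, a * a = a := by decide
  have hswap : ∀ i j : ZMod 2, D.B r1 ((D.act n).val *ᵥ (i • r1 + j • r2)) = i := fun i j => by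
    rw [Matrix.mulVec_add, Matrix.mulVec_smul, Matrix.mulVec_smul, hA1, hA2]
    simp [B_self D.space, hp1, K.coord.rr]
  have huniq : ∀ w ∈ K.Mbar, orderOf w = 2 → σ w = w → w = K.zbar := by
    intro w hw hw2 hσ
    obtain ⟨c, hc, hcl, rfl⟩ := K.invol_lift hw hw2
    rw [K.induced_mk hK hV] at hσ
    have hnc : Commute n c := K.cl_lift (hM c hc) hc hcl ((K.lmk_eq _ _).1 hσ.symm)
    obtain ⟨a, i, j, k, l, ha, rfl, he2⟩ := K.cl_M hc hcl
    obtain ⟨e1, e2⟩ := (K.el_sq i j k l).1 he2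
    have hact : D.act (a * elm q1 q2 y1 y2 i j k l) = sGL D.qf D.B p (k • r1 + l • r2) := by
      rw [D.act_mul _ _ (K.A_M ha).1 (K.el_M i j k l).1, D.act_q (K.pt.inA_mem ha).1, one_mul,
        K.el_act]
    have hb := (K.yi_facts k l).2.2
    have hkl : k = l := by
      have h1 := congrArg D.act (show n * (a * elm q1 q2 y1 y2 i j k l) * n⁻¹ =
        a * elm q1 q2 y1 y2 i j k l by rw [hnc.eq, mul_inv_cancel_right])
      rw [D.act_mul _ _ (hnz.mul_left hc.1) hnz.inv_left, D.act_mul _ _ hnz hc.1, D.act_inv hnz,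
        hact, sGL_conj D.space K.pt.cls_sing hb hiso, hnp] at h1
      obtain ⟨γ, hγ⟩ := siegel_eq D.space K.pt.cls_sing K.pt.cls_ne hb (by
        rw [← hpdef]
        nth_rewrite 1 [← hnp]
        rw [D.space.B_act hiso]; exact hb) h1.symm
      have h2 := hswap k l
      rw [hγ] at h2
      simpa [B_self D.space, hp1, ← hpdef, K.coord.rr] using h2.symm
    obtain ⟨rfl, rfl⟩ : k = 0 ∧ l = 0 := by
      subst hkl
      rcases el_cases i j k k e1 e2 with ⟨h1, h2⟩ | ⟨rfl, rfl⟩ | ⟨-, -, h1, h2⟩ | ⟨-, -, h1, h2⟩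
      · exact ⟨h1, h2⟩
      · have : k = 0 := by simpa [bmul] using e2
        exact ⟨this, this⟩
      · exact absurd (h1.symm.trans h2) one_ne_zero
      · exact absurd (h2.symm.trans h1) one_ne_zero
    have hel : elm q1 q2 y1 y2 i j 0 0 = pick q1 i * pick q2 j := by simp [elm]
    obtain ⟨hqi, hqc⟩ := K.qi_facts i j
    have hcQ : a * elm q1 q2 y1 y2 i j 0 0 ∈ D.Q := by
      rw [hel]; exact mul_mem (K.pt.inA_mem ha).1 hqi.1
    have hij : i = j := by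
      have h1 := D.act_cls n hnz _ hcQ
      rw [hnc.eq, mul_inv_cancel_right, hel, D.cls_mul _ (K.pt.inA_mem ha).1 _ hqi.1, hqc] at h1
      obtain ⟨γ, hγ⟩ := K.pt.cls_inA ha
      rw [hγ, Matrix.mulVec_add, Matrix.mulVec_smul, hnp] at h1
      have h2 := congrArg (D.B r1) h1
      simp only [map_add, hswap] at h2
      simpa [B_self D.space, hp1, ← hpdef, K.coord.rr] using h2.symm
    subst hij
    obtain rfl : i = 0 := by simpa [bmul] using e1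
    have hae : a * elm q1 q2 y1 y2 0 0 0 0 = a := by simp [elm]
    refine congrArg K.Lmk (Subtype.ext ?_)
    show a * elm q1 q2 y1 y2 0 0 0 0 = D.z
    rw [hae] at hcl hnc ⊢
    rcases ha with rfl | rfl | rfl | rfl
    · exact absurd rfl (hcl.ne_one D)
    · rfl
    · rw [hnc.eq, mul_inv_cancel_right] at hnt
      exact absurd (mul_eq_right.1 hnt.symm) D.ctx.ne_one
    · exfalso
      have e : n * (D.z * t) * n⁻¹ = t := by
        rw [show n * (D.z * t) * n⁻¹ = n * D.z * n⁻¹ * (n * t * n⁻¹) by group, hnt, hnz.eq,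
          mul_inv_cancel_right, ← mul_assoc, D.ctx.sq_z, one_mul]
      rw [hnc.eq, mul_inv_cancel_right] at e
      exact D.ctx.ne_one (mul_eq_right.1 e)
  -- an element of order four
  set q := n * q1 * n⁻¹ with hqd
  obtain ⟨m1, -, -, -⟩ := K.q_M
  have hqM : K.InM q := hM q1 m1
  have hqQ : q ∈ D.Q := (Subgroup.mem_normalizer_iff.1 (D.ctx.norm n hnz) q1).1 K.cq1.1
  have hq1s : q1 * q1 = 1 := (D.cls_sq q1 K.cq1.1).2 (by rw [K.cls1]; exact K.qr1)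
  have hqs : q * q = 1 := by
    rw [hqd, show n * q1 * n⁻¹ * (n * q1 * n⁻¹) = n * (q1 * q1) * n⁻¹ by group, hq1s]; simp
  have hmove : q1 * q * q1⁻¹ = D.z * q := D.q_move K.cq1.1 hqQ (by
    rw [D.act_cls n hnz q1 K.cq1.1, K.cls1, hA1, map_add, map_smul, hp1, K.coord.rr, smul_zero,
      add_zero])
  rw [inv_eq_of_mul_eq_one_right hq1s] at hmove
  have hqq : q * q1 = D.z * (q1 * q) := by
    have hq1z : Commute D.z q1 := m1.1.symm
    calc q * q1 = q1 * (q1 * q * q1) := by rw [← mul_assoc, ← mul_assoc, hq1s, one_mul]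
      _ = q1 * (D.z * q) := by rw [hmove]
      _ = D.z * (q1 * q) := by rw [← mul_assoc, ← hq1z.eq, mul_assoc]
  have hm : K.InM (t * (q1 * q)) := K.M_mul (K.A_M (Or.inr (Or.inr (Or.inl rfl)))) (K.M_mul m1 hqM)
  have hσm : σ (K.Lmk ⟨_, K.M_K hm⟩) = K.Lmk ⟨_, K.M_K hm⟩ := by
    rw [K.induced_mk hK hV]
    refine congrArg K.Lmk (Subtype.ext ?_)
    show n * (t * (q1 * q)) * n⁻¹ = t * (q1 * q)
    rw [show n * (t * (q1 * q)) * n⁻¹ = n * t * n⁻¹ * (q * (n * q * n⁻¹)) by rw [hqd]; group, hnt,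
      hqd, hnn q1 (K.M_K m1), ← hqd, hqq, mul_assoc, ← mul_assoc t, K.pt.comm_zt.symm.eq,
      ← mul_assoc D.z, ← mul_assoc D.z, D.ctx.sq_z, one_mul]
  have hmm : K.Lmk ⟨_, K.M_K hm⟩ * K.Lmk ⟨_, K.M_K hm⟩ = K.zbar := by
    rw [← map_mul, zbar]
    refine congrArg K.Lmk (Subtype.ext ?_)
    show t * (q1 * q) * (t * (q1 * q)) = D.z
    have hc : Commute t (q1 * q) := (m1.2.1.mul_left hqM.2.1).symm
    rw [hc.symm.mul_mul_mul_comm, K.pt.sq, one_mul,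
      show q1 * q * (q1 * q) = q1 * q * q1 * q by group, hmove, mul_assoc, hqs, mul_one]
  refine K.lfour.not_fixed_of_swap h2 hz huniq (K.mem_Mbar.2 ⟨_, hm, rfl⟩) hσm hmm hd rfl ?_
  rw [K.induced_mk hK hV]
  exact congrArg K.Lmk (Subtype.ext (show n * d * n⁻¹ = d by rw [hnd.eq, mul_inv_cancel_right]))

theorem lmk_order {d : G} (hdK : d ∈ K.Kgrp) {p : ℕ} (hp : p = 5 ∨ p = 7) (hd : orderOf d = p) :
    orderOf (K.Lmk ⟨d, hdK⟩) = p := by
  have hpp : p.Prime := by rcases hp with rfl | rfl <;> norm_num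
  have h1 : orderOf (K.Lmk ⟨d, hdK⟩) ∣ p := by
    refine (orderOf_map_dvd _ _).trans (dvd_of_eq ?_)
    rw [← Subgroup.orderOf_coe]; exact hd
  refine ((Nat.dvd_prime hpp).1 h1).resolve_left fun e => ?_
  have hV := K.lmk_one.1 (orderOf_eq_one_iff.1 e)
  have := orderOf_dvd_of_pow_eq_one (x := d) (n := 2) (by rw [pow_two]; exact K.V_sq hV)
  rw [hd] at this
  rcases hp with rfl | rfl <;> norm_num at this

/-- The centralizer in `C(x)` of an element of order five or seven of `K`. -/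
theorem cent_prime {d g : G} (hdK : d ∈ K.Kgrp) (hd : orderOf d = 5 ∨ orderOf d = 7)
    (hgx : Commute g x) (hgd : Commute g d) :
    ∃ a, K.InV a ∧ ∃ i : ℤ, g = a * d ^ i := by
  have inK : ∀ {g d : G} (hdK : d ∈ K.Kgrp), (orderOf d = 5 ∨ orderOf d = 7) → g ∈ K.Kgrp →
      Commute g d → ∃ a, K.InV a ∧ ∃ i : ℤ, g = a * d ^ i := by
    intro g d hdK hd hg hgd
    have hcomm : Commute (K.Lmk ⟨g, hg⟩) (K.Lmk ⟨d, hdK⟩) :=
      (show Commute (⟨g, hg⟩ : ↥K.Kgrp) ⟨d, hdK⟩ from Subtype.ext hgd.eq).map K.Lmk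
    obtain ⟨i, hi⟩ := Subgroup.mem_zpowers_iff.1 (K.lfour.cent_prime hd (by
      rw [K.lmk_order hdK hd rfl]) hcomm)
    rw [← map_zpow] at hi
    have hV := K.lmk_one.1 (show K.Lmk ((⟨g, hg⟩ : ↥K.Kgrp) * (⟨d, hdK⟩ ^ i)⁻¹) = 1 by
      rw [map_mul, map_inv, hi, mul_inv_cancel])
    exact ⟨_, hV, i, by simp⟩
  by_cases hg : g ∈ K.Kgrp
  · exact inK hdK hd hg hgd
  exfalso
  obtain ⟨k, m, hm, hgm⟩ := Nat.exists_eq_two_pow_mul_odd (orderOf_pos g).ne'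
  have hgg : g * g ∈ K.Kgrp := by
    refine K.mem_K.2 ⟨hgx.mul_left hgx, mul_inv_eq_iff_eq_mul.1 ?_⟩
    rcases K.V_normal hgx with e | e
    · exact absurd (K.mem_K.2 ⟨hgx, mul_inv_eq_iff_eq_mul.1 e⟩) hg
    · calc g * g * x' * (g * g)⁻¹ = g * (g * x' * g⁻¹) * g⁻¹ := by group
        _ = g * (x * x') * g⁻¹ := by rw [e]
        _ = g * x * g⁻¹ * (g * x' * g⁻¹) := by group
        _ = x' := by rw [e, hgx.eq, mul_inv_cancel_right, ← mul_assoc, K.x_sq, one_mul]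
  set e := g ^ m with he
  have heK : e ∉ K.Kgrp := fun h => hg (by
    obtain ⟨j, rfl⟩ := hm
    rw [he, pow_succ, pow_mul, pow_two] at h
    have := mul_mem (inv_mem (pow_mem hgg j)) h
    rwa [inv_mul_cancel_left] at this)
  have hex : Commute e x := hgx.pow_left m
  obtain ⟨d0, hd0x, hd0z⟩ := K.sylow_commute hex (k := k) (by
    rw [he, ← pow_mul, mul_comm, ← hgm, pow_orderOf_eq_one])
  set n := d0 * e * d0⁻¹ with hn
  have hnx : Commute n x := (hd0x.mul_left hex).mul_left hd0x.inv_left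
  have hnK : n ∉ K.Kgrp := fun h => heK (by
    have := K.K_conj hd0x.inv_left h
    rwa [hn, show d0⁻¹ * (d0 * e * d0⁻¹) * d0⁻¹⁻¹ = e by group] at this)
  have hnt : n * t * n⁻¹ = D.z * t :=
    (K.t_cases hd0z hnx).resolve_left fun e' => hnK (K.M_K ⟨hd0z, e', hnx⟩)
  set d1 := d0 * d * d0⁻¹
  have hd1K : d1 ∈ K.Kgrp := K.K_conj hd0x hdK
  have hd1 : orderOf d1 = 5 ∨ orderOf d1 = 7 := by
    rw [show d1 = MulAut.conj d0 d from rfl, MulEquiv.orderOf_eq]; exact hd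
  have hnd : Commute n d1 := (Commute.conj_iff d0).2 (hgd.pow_left m)
  refine K.not_outer hd0z hnx hnt ?_ hd1K (by rwa [K.lmk_order hd1K hd1 rfl]) hnd
  have hnnK : n * n ∈ K.Kgrp := by
    have := K.K_conj hd0x (show e * e ∈ K.Kgrp by
      rw [he, ← (Commute.refl g).mul_pow]; exact pow_mem hgg m)
    rwa [show d0 * (e * e) * d0⁻¹ = n * n by rw [hn]; group] at this
  obtain ⟨a, ha, i, hai⟩ := inK hd1K hd1 hnnK (hnd.mul_left hnd)
  suffices d1 ^ i = 1 by rw [hai, this, mul_one]; exact ha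
  have h2 : (n * n) ^ 2 ^ k = 1 := by
    rw [(Commute.refl n).mul_pow, show n ^ 2 ^ k = 1 by
      rw [hn, conj_pow, he, ← pow_mul, mul_comm m, ← hgm, pow_orderOf_eq_one]; group]
    simp
  have hd2 : (d1 ^ i) ^ 2 ^ (k + 1) = 1 := by
    have hc := K.V_comm ha (K.mem_K.1 (zpow_mem hd1K i)).1 (K.mem_K.1 (zpow_mem hd1K i)).2
    have h3 : (n * n) ^ 2 ^ (k + 1) = 1 := by rw [pow_succ, pow_mul, h2, one_pow]
    rw [hai, hc.mul_pow, pow_succ', pow_mul a, pow_two, K.V_sq ha, one_pow, one_mul, ← pow_succ'] at h3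
    exact h3
  have hodd : (orderOf d1).Coprime (2 ^ (k + 1)) := by
    rcases hd1 with e | e <;> rw [e] <;> exact Nat.Coprime.pow_right _ (by norm_num)
  exact orderOf_eq_one_iff.1 (Nat.eq_one_of_dvd_coprimes hodd
    (orderOf_dvd_of_pow_eq_one (by
      rw [← zpow_natCast, ← zpow_mul, mul_comm, zpow_mul, zpow_natCast, pow_orderOf_eq_one,
        one_zpow]))
    (orderOf_dvd_of_pow_eq_one hd2))

theorem exists_prime {p : ℕ} (hp : p = 5 ∨ p = 7) : ∃ d ∈ K.Kgrp, orderOf d = p := by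
  haveI : Fact p.Prime := ⟨by rcases hp with rfl | rfl <;> norm_num⟩
  obtain ⟨d, hd⟩ := exists_prime_orderOf_dvd_card' (G := ↥K.Kgrp) p
    (by rw [K.card_K]; rcases hp with rfl | rfl <;> norm_num)
  exact ⟨d, d.2, by rw [Subgroup.orderOf_coe, hd]⟩

/-- An element of order five of `K` is inverted by a conjugate of `z`. -/
theorem exists_inverter {d : G} (hdK : d ∈ K.Kgrp) (hd : orderOf d = 5) :
    ∃ w, D.Cl w ∧ Commute w x ∧ w * d * w⁻¹ = d⁻¹ := by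
  obtain ⟨y, hy, hyd⟩ := K.lfour.exists_inverter (K.lmk_order hdK (Or.inl rfl) hd)
  obtain ⟨g, rfl⟩ := K.lfour.inv y hy
  obtain ⟨⟨g, hg⟩, rfl⟩ := QuotientGroup.mk'_surjective _ g
  change K.Lmk ⟨g, hg⟩ * K.zbar * (K.Lmk ⟨g, hg⟩)⁻¹ * K.Lmk ⟨d, hdK⟩ *
    (K.Lmk ⟨g, hg⟩ * K.zbar * (K.Lmk ⟨g, hg⟩)⁻¹)⁻¹ = (K.Lmk ⟨d, hdK⟩)⁻¹ at hyd
  rw [zbar, ← mul_inv_eq_one] at hyd
  simp only [← map_inv, ← map_mul] at hyd
  have hV := K.lmk_one.1 hyd
  refine ⟨g * D.z * g⁻¹, D.cl_z.conj D g, ?_, ?_⟩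
  · exact ((K.mem_K.1 hg).1.mul_left K.xz.symm).mul_left (K.mem_K.1 hg).1.inv_left
  set w := g * D.z * g⁻¹ with hw
  have hV' : K.InV (w * d * w⁻¹ * d) := by
    convert hV using 1
    simp [hw, mul_assoc]
  set a := w * d * w⁻¹ * d
  have hwK : w ∈ K.Kgrp :=
    mul_mem (mul_mem hg (K.M_K (K.A_M (Or.inr (Or.inl rfl))))) (inv_mem hg)
  obtain ⟨h1, h2⟩ := K.mem_K.1 hdK
  have e : w * d * w⁻¹ = a * d⁻¹ := by simp [a]
  have h5 : (a * d⁻¹) ^ 5 = 1 := by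
    rw [← e, conj_pow, show d ^ 5 = 1 by rw [← hd, pow_orderOf_eq_one]]; group
  rw [(K.V_comm hV' h1.inv_left h2.inv_left).mul_pow, inv_pow,
    show d ^ 5 = 1 by rw [← hd, pow_orderOf_eq_one], inv_one, mul_one] at h5
  rw [show a ^ 5 = a * a * (a * a) * a by simp [pow_succ, mul_assoc], K.V_sq hV', one_mul, one_mul] at h5
  rw [e, h5, one_mul]

end Cfg

end Cfsg.Lib.Extra.SuzLocal
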