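import Cfsg.Agent.Lib.Extra.SuzLocal.QSide
import Cfsg.Agent.Lib.Extra.SuzLocal.Codes

/-!
# The numbers of conjugates of `z` at the points of `C(z) ∩ C(x)`

For a conjugate `w` of `z` centralizing `z` and `x` the conjugates `p` commuting with `w` for which
`z` is a power of `p x` number 12, 16 or 0 as `w` is at the point, in `Q`, or outside `Q`.
-/

set_option autoImplicit false
set_option linter.style.haveILetI false
set_option linter.unusedSectionVars false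

namespace Cfsg.Lib.Extra.SuzLocal

open Cfsg Module Cfsg.Lib.Linear.Orth Cfsg.Lib.Extra.Wide
open scoped Matrix

/-- Coordinates: the values of `B` at `t`, the dual, `u`, `v`, `r1`, `r2`. -/
abbrev Coo : Type := (ZMod 2 × ZMod 2) × (ZMod 2 × ZMod 2) × (ZMod 2 × ZMod 2)

/-- The form in the coordinates. -/
def qCoo (c : Coo) : ZMod 2 := c.1.1 * c.1.2 + c.2.1.2 + c.2.1.1 + c.2.1.2 * c.2.1.1 + c.2.2.2 * c.2.2.1

theorem count_one : ∀ γ : ZMod 2,
    (Finset.univ.filter fun c : Coo => qCoo c = 0 ∧ c.1.1 = 1 ∧ γ * c.1.1 + c.2.2.1 = 0).card = 8 ∧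
    (Finset.univ.filter fun c : Coo => qCoo c = 0 ∧ c.1.1 = 1 ∧ γ * c.1.1 + c.2.2.2 = 0).card = 8 := by
  decide +kernel

theorem count_moved :
    (Finset.univ.filter fun c : Coo =>
      qCoo c = 0 ∧ c.1.1 = 0 ∧ ¬ (c.2.1.1 = 0 ∧ c.2.1.2 = 0)).card = 6 := by
  decide +kernel

theorem code_cases (e : Code) (he : OkC e) (h2 : e.2 ≠ 0) :
    (e.2.2.2.1 = 0 ∧ e.2.2.2.2 = 0 ∧
        ((e.2.1 = 1 ∧ e.2.2.1 = 0) ∨ (e.2.1 = 0 ∧ e.2.2.1 = 1))) ∨
      (e.2.2.2.1 = 1 ∧ e.2.2.2.2 = 0) ∨ (e.2.2.2.1 = 0 ∧ e.2.2.2.2 = 1) := by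
  obtain ⟨⟨a, b⟩, i, j, k, l⟩ := e
  obtain ⟨⟨e1, e2⟩, -⟩ := he
  have key : ∀ i j k l : ZMod 2, i * j = i * l + j * k → k * l = i * l + j * k →
      ¬ (i = 0 ∧ j = 0 ∧ k = 0 ∧ l = 0) →
      (k = 0 ∧ l = 0 ∧ ((i = 1 ∧ j = 0) ∨ (i = 0 ∧ j = 1))) ∨ (k = 1 ∧ l = 0) ∨ (k = 0 ∧ l = 1) := by
    intro i j k l
    rcases bit i with rfl | rfl <;> rcases bit j with rfl | rfl <;> rcases bit k with rfl | rfl <;>
      rcases bit l with rfl | rfl <;> simp
  exact key i j k l e1 e2 fun ⟨a1, a2, a3, a4⟩ => h2 (by simp [a1, a2, a3, a4])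

universe u

variable {G : Type u} [Group G] {ι : Type} [Fintype ι] [DecidableEq ι] {D : Data G ι} [Finite G]

/-- Elements of `Q` with a property of their classes. -/
theorem card_Q_sub (P : (ι → ZMod 2) → Prop) :
    Nat.card {p : G // p ∈ D.Q ∧ P (D.cls p)} = 2 * Nat.card {s : ι → ZMod 2 // P s} := by
  choose sec hsec hcls using D.cls_surj
  let f : ZMod 2 × {s : ι → ZMod 2 // P s} → {p : G // p ∈ D.Q ∧ P (D.cls p)} := fun e =>
    ⟨pick D.z e.1 * sec e.2.1, mul_mem (pick_z_mem D e.1).1 (hsec _), by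
      rw [D.cls_mul _ (pick_z_mem D e.1).1 _ (hsec _), (pick_z_mem D e.1).2, hcls, zero_add]
      exact e.2.2⟩
  have hf : Function.Bijective f := by
    refine ⟨?_, ?_⟩
    · rintro ⟨i, w, hw⟩ ⟨j, w', hw'⟩ e
      have e' : pick D.z i * sec w = pick D.z j * sec w' := congrArg Subtype.val e
      have hc := congrArg D.cls e'
      rw [D.cls_mul _ (pick_z_mem D i).1 _ (hsec _), D.cls_mul _ (pick_z_mem D j).1 _ (hsec _),
        (pick_z_mem D i).2, (pick_z_mem D j).2, hcls, hcls, zero_add, zero_add] at hc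
      subst hc
      have hp := mul_right_cancel e'
      rcases bit i with rfl | rfl <;> rcases bit j with rfl | rfl <;> simp only [pick_zero, pick_one] at hp
      · rfl
      · exact absurd hp.symm D.ctx.ne_one
      · exact absurd hp D.ctx.ne_one
      · rfl
    · rintro ⟨a, ha, hP⟩
      rcases D.cls_eq (hsec (D.cls a)) ha (by rw [hcls]) with e | e
      · exact ⟨(0, ⟨D.cls a, hP⟩), Subtype.ext ((congrArg (· * _) (pick_zero D.z)).trans
          ((one_mul _).trans e.symm))⟩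
      · exact ⟨(1, ⟨D.cls a, hP⟩), Subtype.ext ((congrArg (· * _) (pick_one D.z)).trans e.symm)⟩
  rw [← Nat.card_eq_of_bijective f hf, Nat.card_prod, Nat.card_zmod]

namespace Cfg

variable {x x' h t q1 q2 y1 y2 : G} {v u r1 r2 : ι → ZMod 2}
  (K : Cfg D x x' h t q1 q2 y1 y2 v u r1 r2)
include K

/-- Vectors by coordinates. -/
theorem exists_coo : ∃ vec : Coo → (ι → ZMod 2), Function.Bijective vec ∧ ∀ c,
    D.qf (vec c) = qCoo c ∧ D.B (D.cls t) (vec c) = c.1.1 ∧ D.B u (vec c) = c.2.1.1 ∧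
      D.B v (vec c) = c.2.1.2 ∧ D.B r1 (vec c) = c.2.2.1 ∧ D.B r2 (vec c) = c.2.2.2 := by
  obtain ⟨f0, hpf, hvf, huf, hr1f, hr2f⟩ := K.coord.exists_f
  set p := D.cls t with hpdef
  have hvp : D.B v p = 0 := (D.space.symm _ _).trans K.fr.vperp
  have hup : D.B u p = 0 := (D.space.symm _ _).trans K.fr.uperp
  have hr1p : D.B r1 p = 0 := (D.space.symm _ _).trans K.coord.pr
  have hr2p : D.B r2 p = 0 := (D.space.symm _ _).trans K.coord.pr'
  obtain ⟨f, hf⟩ : ∃ f, f = f0 + D.qf f0 • p := ⟨_, rfl⟩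
  have h1 : D.B p f = 1 := by simp [hf, hpf, B_self D.space]
  have h2 : D.B v f = 0 := by simp [hf, hvf, hvp]
  have h3 : D.B u f = 0 := by simp [hf, huf, hup]
  have h4 : D.B r1 f = 0 := by simp [hf, hr1f, hr1p]
  have h5 : D.B r2 f = 0 := by simp [hf, hr2f, hr2p]
  have h6 : D.qf f = 0 := by
    rw [hf, D.space.add, D.space.smul, show D.qf p = 0 from K.pt.cls_sing, map_smul,
      D.space.symm f0 p, hpf]
    simp [bit_self]
  have hqv := frame_qv K.coord.six K.fr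
  refine ⟨fun c => c.1.2 • p + c.1.1 • f + c.2.1.2 • u + c.2.1.1 • v + c.2.2.2 • r1 + c.2.2.1 • r2,
    ?_, ?_⟩
  · have hpu : D.B p u = 0 := K.fr.uperp
    have hpv : D.B p v = 0 := K.fr.vperp
    have hpr1 : D.B p r1 = 0 := K.coord.pr
    have hpr2 : D.B p r2 = 0 := K.coord.pr'
    refine (Fintype.bijective_iff_injective_and_card _).2 ⟨?_, by simp [K.coord.six.card]⟩
    rintro ⟨⟨a, b⟩, ⟨c, d⟩, e, g⟩ ⟨⟨a', b'⟩, ⟨c', d'⟩, e', g'⟩ h
    have e1 := congrArg (D.B p) h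
    have e2 := congrArg (D.B f) h
    have e3 := congrArg (D.B u) h
    have e4 := congrArg (D.B v) h
    have e5 := congrArg (D.B r1) h
    have e6 := congrArg (D.B r2) h
    simp [B_self D.space, hpu, hpv, hpr1, hpr2, h1, h2, h3, h4, h5, hvp, hup, hr1p, hr2p,
      K.coord.uv, K.coord.rr, D.space.symm f p, D.space.symm f u, D.space.symm f v, D.space.symm f r1,
      D.space.symm f r2, D.space.symm v u, D.space.symm r2 r1, D.space.symm r1 u, D.space.symm r1 v,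
      D.space.symm r2 u, D.space.symm r2 v, K.coord.ur, K.coord.ur', K.coord.vr, K.coord.vr']
      at e1 e2 e3 e4 e5 e6
    simp [e1, e2, e3, e4, e5, e6]
  · rintro ⟨⟨a, b⟩, ⟨c, d⟩, e, g⟩
    refine ⟨?_, ?_, ?_, ?_, ?_, ?_⟩
    · simp only [D.space.add, D.space.smul, map_add, map_smul, LinearMap.add_apply,
        LinearMap.smul_apply, smul_eq_mul, show D.qf p = 0 from K.pt.cls_sing, h6, K.qr1, K.qr2,
        K.fr.qu, hqv, h1, show D.B p u = 0 from K.fr.uperp, show D.B p v = 0 from K.fr.vperp,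
        show D.B p r1 = 0 from K.coord.pr, show D.B p r2 = 0 from K.coord.pr', D.space.symm f u,
        D.space.symm f v, D.space.symm f r1, D.space.symm f r2, h2, h3, h4, h5, K.coord.uv,
        K.coord.ur, K.coord.ur', K.coord.vr, K.coord.vr', K.coord.rr, qCoo]
      rcases bit a with rfl | rfl <;> rcases bit b with rfl | rfl <;> rcases bit c with rfl | rfl <;>
        rcases bit d with rfl | rfl <;> rcases bit e with rfl | rfl <;> rcases bit g with rfl | rfl <;>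
        decide
    all_goals
      simp [B_self D.space, hvp, hup, hr1p, hr2p, h1, h2, h3, h4, h5, K.coord.uv, K.coord.rr,
        D.space.symm v u, D.space.symm r2 r1, D.space.symm r1 u, D.space.symm r1 v,
        D.space.symm r2 u, D.space.symm r2 v, K.coord.ur, K.coord.ur', K.coord.vr, K.coord.vr',
        show D.B p u = 0 from K.fr.uperp, show D.B p v = 0 from K.fr.vperp,
        show D.B p r1 = 0 from K.coord.pr, show D.B p r2 = 0 from K.coord.pr']

/-- The involutions of `Q` at the point moved by `x`. -/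
theorem card_moved :
    Nat.card {p : G // p ∈ D.Q ∧ p * p = 1 ∧ D.B (D.cls t) (D.cls p) = 0 ∧ ¬ Commute p x} = 12 := by
  classical
  obtain ⟨vec, hbij, hvec⟩ := K.exists_coo
  have e : ∀ p : G, (p ∈ D.Q ∧ p * p = 1 ∧ D.B (D.cls t) (D.cls p) = 0 ∧ ¬ Commute p x) ↔
      (p ∈ D.Q ∧ (D.qf (D.cls p) = 0 ∧ D.B (D.cls t) (D.cls p) = 0 ∧
        ¬ (D.B u (D.cls p) = 0 ∧ D.B v (D.cls p) = 0))) := fun p => by
    constructor
    · rintro ⟨hp, h2, h0, hx⟩
      exact ⟨hp, (D.cls_sq p hp).1 h2, h0, fun h => hx ((cq_rel K.fr ((K.pt.inCQ_iff hp).2 h0)).2 h)⟩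
    · rintro ⟨hp, h2, h0, hx⟩
      exact ⟨hp, (D.cls_sq p hp).2 h2, h0, fun h => hx ((cq_rel K.fr ((K.pt.inCQ_iff hp).2 h0)).1 h)⟩
  rw [Nat.card_congr (Equiv.subtypeEquivRight e), card_Q_sub (D := D) fun s => D.qf s = 0 ∧
    D.B (D.cls t) s = 0 ∧ ¬ (D.B u s = 0 ∧ D.B v s = 0),
    ← Nat.card_congr (Equiv.subtypeEquiv (Equiv.ofBijective vec hbij)
      (p := fun c : Coo => qCoo c = 0 ∧ c.1.1 = 0 ∧ ¬ (c.2.1.1 = 0 ∧ c.2.1.2 = 0))
      fun c => by obtain ⟨h1, h2, h3, h4, -⟩ := hvec c; simp [h1, h2, h3, h4]),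
    Nat.card_eq_fintype_card, Fintype.card_subtype, count_moved]

theorem code_mem_Q (e : Code) : K.cEl e ∈ D.Q ↔ e.2.2.2 = 0 := by
  obtain ⟨⟨a, b⟩, i, j, k, l⟩ := e
  have hac : Commute (D.zt t a b) D.z := (K.A_M (K.pt.zt_A a b)).1
  constructor
  · intro hQ
    have h1 : D.act (K.cEl ((a, b), i, j, k, l)) = 1 := D.act_q hQ
    rw [cEl, D.act_mul _ _ hac (K.el_M i j k l).1, D.act_q (K.pt.inA_mem (K.pt.zt_A a b)).1, one_mul,
      K.el_act, ← siegel_zero D.space K.pt.cls_sing 0, zero_smul] at h1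
    obtain ⟨γ, hγ⟩ := siegel_eq D.space K.pt.cls_sing K.pt.cls_ne (map_zero _) (K.yi_facts k l).2.2
      h1.symm
    have e1 := congrArg (D.B r2) hγ
    have e2 := congrArg (D.B r1) hγ
    simp [B_self D.space, K.coord.rr, D.space.symm r2 r1, D.space.symm r1 (D.cls t),
      D.space.symm r2 (D.cls t), show D.B (D.cls t) r1 = 0 from K.coord.pr,
      show D.B (D.cls t) r2 = 0 from K.coord.pr'] at e1 e2
    simp [e1, e2]
  · intro h0
    simp only [Prod.mk_eq_zero] at h0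
    obtain ⟨rfl, rfl⟩ := h0
    refine mul_mem (K.pt.inA_mem (K.pt.zt_A a b)).1 ?_
    simpa [elm] using (K.qi_facts i j).1.1

/-- The conjugates `p` commuting with `w` with `z` a power of `p x`. -/
abbrev Hset (_K : Cfg D x x' h t q1 q2 y1 y2 v u r1 r2) (w : G) : Type u :=
  {p : G // (D.Cl p ∧ D.z ∈ Subgroup.zpowers (p * x)) ∧ Commute p w}

theorem S_comm_z {p : G} (hp : D.Cl p) (hz : D.z ∈ Subgroup.zpowers (p * x)) :
    Commute p D.z ∧ ¬ Commute p x := by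
  refine ⟨(invol_commutes (hp.sq D) K.x_sq hz D.ctx.sq_z).1.symm, fun hc => ?_⟩
  have h2 : p * x * (p * x) = 1 := by rw [hc.symm.mul_mul_mul_comm, hp.sq D, K.x_sq, one_mul]
  have hpx : p * x ≠ 1 := fun e => K.x_not_cl
    ((eq_inv_of_mul_eq_one_left e).trans (inv_eq_of_mul_eq_one_right K.x_sq) ▸ hp)
  have e := invol_unique hz (Subgroup.mem_zpowers _) D.ctx.sq_z D.ctx.ne_one h2 hpx
  refine (K.ax_not_cl (Or.inr (Or.inl rfl) : D.InA t D.z)).1 ?_
  rw [e, mul_assoc, K.x_sq, mul_one]; exact hp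

/-- No such conjugate outside `Q` lies at a point of `Q` off the point of the pair. -/
theorem off_point {p α : G} (hp : D.Cl p) (hz : D.z ∈ Subgroup.zpowers (p * x)) (hpQ : p ∉ D.Q)
    (hαT : K.InT α) (hαQ : α ∈ D.Q) (hαA : ¬ D.InA t α)
    (hfix : (D.act p).val *ᵥ D.cls α = D.cls α) : False := by
  have hαz : α ≠ D.z := fun e => hαA (Or.inr (Or.inl e))
  have hpα : D.Point α := ⟨hαQ, hαT.1.sq D, hαT.1.ne_one D, hαz⟩
  have hzA : ¬ D.InA t (D.z * α) := fun hA => hαA (by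
    obtain ⟨i, j, e⟩ := K.pt.inA_zt hA
    have : α = D.zt t (1 + i) (0 + j) := by
      rw [← K.pt.zt_add, ← e, ← mul_assoc]
      simp [Data.zt, D.ctx.sq_z]
    rw [this]; exact K.pt.zt_A _ _)
  rcases (root_point K.coord.six hp (K.S_comm_z hp hz).1 hpQ hpα hfix).2 with hm | hm
  · obtain ⟨g, hg, hgb⟩ := K.T_mover hαT
    exact hαA (K.transport hαT hαQ hαz hp hm hz hg hgb).2.2.2
  · have hT : K.InT (D.z * α) := ⟨hpα.z_mul.cl, K.xz.symm.mul_left hαT.2⟩
    obtain ⟨g, hg, hgb⟩ := K.T_mover hT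
    exact hzA (K.transport hT hpα.z_mul.mem hpα.z_mul.ne_z hp hm hz hg hgb).2.2.2

theorem card_H_Q {e : Code} (he : OkC e) (h2 : e.2 ≠ 0) (hQ : e.2.2.2 = 0) :
    Nat.card (K.Hset (K.cEl e)) = 16 := by
  classical
  obtain ⟨hαT, hαz⟩ := K.T_cEl he
  have hαQ := (K.code_mem_Q e).2 hQ
  have hαA : ¬ D.InA t (K.cEl e) := fun h => h2 ((K.code_A e).1 h)
  obtain ⟨vec, hbij, hvec⟩ := K.exists_coo
  obtain ⟨γ, hγ⟩ := K.pt.cls_inA (K.pt.zt_A e.1.1 e.1.2)
  obtain ⟨⟨a, b⟩, i, j, k, l⟩ := e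
  simp only [Prod.mk_eq_zero] at hQ
  obtain ⟨rfl, rfl⟩ := hQ
  have hcls : D.cls (K.cEl ((a, b), i, j, 0, 0)) = γ • D.cls t + (i • r1 + j • r2) := by
    have hel : elm q1 q2 y1 y2 i j 0 0 = pick q1 i * pick q2 j := by simp [elm]
    simp only [cEl, hel]
    rw [D.cls_mul _ (K.pt.inA_mem (K.pt.zt_A a b)).1 _ (K.qi_facts i j).1.1, (K.qi_facts i j).2, hγ]
  have hperp : ∀ {p : G}, p ∈ D.Q → p * p = 1 → Commute p (K.cEl ((a, b), i, j, 0, 0)) →
      D.B (D.cls t) (D.cls p) = 0 → Commute p x := fun hp hp2 hc h0 =>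
    K.perp_w hαT hαz hαA hp hp2 h0 hc
  have e1 : ∀ p : G, ((D.Cl p ∧ D.z ∈ Subgroup.zpowers (p * x)) ∧
      Commute p (K.cEl ((a, b), i, j, 0, 0))) ↔
      (p ∈ D.Q ∧ (D.qf (D.cls p) = 0 ∧ D.B (D.cls t) (D.cls p) = 1 ∧
        γ * D.B (D.cls t) (D.cls p) + (i * D.B r1 (D.cls p) + j * D.B r2 (D.cls p)) = 0)) := by
    intro p
    constructor
    · rintro ⟨⟨hp, hz⟩, hc⟩
      have hpQ : p ∈ D.Q := by
        by_contra hn
        refine K.off_point hp hz hn hαT hαQ hαA ?_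
        rw [← D.act_cls p (K.S_comm_z hp hz).1 _ hαQ, hc.eq, mul_inv_cancel_right]
      have h1 : D.B (D.cls t) (D.cls p) = 1 := by
        refine (bit _).resolve_left fun h0 => (K.S_comm_z hp hz).2 (hperp hpQ (hp.sq D) hc h0)
      have hcomm := (D.cls_comm p hpQ _ hαQ).1 hc
      rw [hcls, D.space.symm, map_add, map_add, map_smul, map_smul, map_smul, LinearMap.add_apply,
        LinearMap.add_apply, LinearMap.smul_apply, LinearMap.smul_apply, LinearMap.smul_apply] at hcomm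
      exact ⟨hpQ, (D.cls_sq p hpQ).1 (hp.sq D), h1, by simpa [smul_eq_mul] using hcomm⟩
    · rintro ⟨hpQ, hq, h1, hc⟩
      have hp2 := (D.cls_sq p hpQ).2 hq
      refine ⟨⟨D.cl_of_mem hpQ hp2 fun e => ?_, K.z_power_of hpQ h1⟩, (D.cls_comm p hpQ _ hαQ).2 ?_⟩
      · rw [e, D.cls_one, map_zero] at h1
        exact zero_ne_one h1
      · rw [hcls, D.space.symm, map_add, map_add, map_smul, map_smul, map_smul, LinearMap.add_apply,
          LinearMap.add_apply, LinearMap.smul_apply, LinearMap.smul_apply, LinearMap.smul_apply]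
        simpa [smul_eq_mul] using hc
  rw [Nat.card_congr (Equiv.subtypeEquivRight e1), card_Q_sub (D := D) fun s => D.qf s = 0 ∧
    D.B (D.cls t) s = 1 ∧ γ * D.B (D.cls t) s + (i * D.B r1 s + j * D.B r2 s) = 0,
    ← Nat.card_congr (Equiv.subtypeEquiv (Equiv.ofBijective vec hbij)
      (p := fun c : Coo => qCoo c = 0 ∧ c.1.1 = 1 ∧ γ * c.1.1 + (i * c.2.2.1 + j * c.2.2.2) = 0)
      fun c => by obtain ⟨h1, h2, h3, h4, h5, h6⟩ := hvec c; simp [h1, h2, h5, h6]),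
    Nat.card_eq_fintype_card, Fintype.card_subtype]
  rcases code_cases ((a, b), i, j, 0, 0) he h2 with ⟨-, -, h⟩ | h | h
  · rcases h with ⟨rfl, rfl⟩ | ⟨rfl, rfl⟩
    · have := (count_one γ).1
      simp at this ⊢
      omega
    · have := (count_one γ).2
      simp at this ⊢
      omega
  · exact absurd h.1 zero_ne_one
  · exact absurd h.2 zero_ne_one

theorem isEmpty_H_out {e : Code} (he : OkC e) (hQ : e.2.2.2 ≠ 0) :
    IsEmpty (K.Hset (K.cEl e)) := by
  obtain ⟨hwT, hwz⟩ := K.T_cEl he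
  have hwA : ¬ D.InA t (K.cEl e) := fun h => hQ (by rw [(K.code_A e).1 h]; rfl)
  obtain ⟨⟨a, b⟩, i, j, k, l⟩ := e
  obtain ⟨rr, hrr⟩ : ∃ rr, rr = k • r1 + l • r2 := ⟨_, rfl⟩
  obtain ⟨yo, hyo0, hyo⟩ : ∃ y, D.B (D.cls t) y = 0 ∧ D.B rr y = 1 := by
    rcases code_cases _ he (fun h0 => hQ (by rw [show (i, j, k, l) = 0 from h0]; rfl)) with
      ⟨h1, h2, -⟩ | ⟨h1, h2⟩ | ⟨h1, h2⟩ <;> dsimp only at h1 h2 <;> subst h1 h2
    · exact absurd rfl hQ
    · exact ⟨r2, K.coord.pr', by simp [hrr, K.coord.rr]⟩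
    · exact ⟨r1, K.coord.pr, by simp [hrr, D.space.symm r2 r1, K.coord.rr]⟩
  have hrr0 : D.B (D.cls t) rr = 0 := hrr ▸ (K.yi_facts k l).2.2
  have hact : D.act (K.cEl ((a, b), i, j, k, l)) = sGL D.qf D.B (D.cls t) rr := by
    rw [cEl, D.act_mul _ _ (K.A_M (K.pt.zt_A a b)).1 (K.el_M i j k l).1,
      D.act_q (K.pt.inA_mem (K.pt.zt_A a b)).1, one_mul, K.el_act, hrr]
  have hind : ∀ β γ : ZMod 2, β • rr + γ • D.cls t = 0 → β = 0 := fun β γ h => by
    have := congrArg (fun s => D.B s yo) h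
    simpa [hyo, hyo0] using this
  refine ⟨fun ⟨p, ⟨hp, hz⟩, hc⟩ => ?_⟩
  obtain ⟨hpz, hpx⟩ := K.S_comm_z hp hz
  by_cases hpQ : p ∈ D.Q
  · refine hpx (K.perp_w hwT hwz hwA hpQ (hp.sq D) ?_ hc)
    have e := D.act_cls _ hwz p hpQ
    rw [← hc.eq, mul_inv_cancel_right, hact, sGL_apply D.space K.pt.cls_sing hrr0, add_assoc] at e
    exact hind _ _ (add_eq_left.1 e.symm)
  set g := D.act p with hg
  set t0 := D.cls t with ht0
  by_cases hfix : g.val *ᵥ t0 = t0
  · rcases (root_point K.coord.six hp hpz hpQ K.pt hfix).2 with hm | hm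
    all_goals
      have hβA : ∀ {β : G}, (β = t ∨ β = D.z * t) → p ∈ D.Qof β → False := by
        intro β hβ hm
        have hTβ : K.InT β := by
          rcases hβ with rfl | rfl
          exacts [⟨K.pt.cl, K.xt.symm⟩, ⟨K.pt.z_mul.cl, K.xz.symm.mul_left K.xt.symm⟩]
        have hβQ : β ∈ D.Q := by rcases hβ with rfl | rfl; exacts [K.pt.mem, K.pt.z_mul.mem]
        have hβz : β ≠ D.z := by rcases hβ with rfl | rfl; exacts [K.pt.ne_z, K.pt.z_mul.ne_z]
        obtain ⟨m, hm', hmb⟩ := K.T_mover hTβ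
        obtain ⟨hpQ', h0, hd, -⟩ := K.transport hTβ hβQ hβz hp hm hz hm' hmb
        have hcw : Commute (K.cEl ((a, b), i, j, k, l)) β := by
          rcases hβ with rfl | rfl
          exacts [(K.cEl_M _).2.1, hwz.mul_right (K.cEl_M _).2.1]
        have hw' : Commute (m * K.cEl ((a, b), i, j, k, l) * m⁻¹) D.z := by
          rw [← hmb]; exact (Commute.conj_iff m).2 hcw
        have hwA' : ¬ D.InA t (m * K.cEl ((a, b), i, j, k, l) * m⁻¹) := fun hA => by
          have hb' : β = D.z ∨ β = t ∨ β = D.z * t := Or.inr hβ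
          have := (K.move (g := m⁻¹) (a := D.z) hm'.inv_left (Or.inl rfl)
            (by rw [show m⁻¹ * D.z * m⁻¹⁻¹ = β by rw [← hmb]; group]; exact hb')).2.1 _
            (hA.resolve_left ((K.T_conj hm' hwT).1.ne_one D))
          rw [show m⁻¹ * (m * K.cEl ((a, b), i, j, k, l) * m⁻¹) * m⁻¹⁻¹ =
            K.cEl ((a, b), i, j, k, l) by group] at this
          exact hwA (Or.inr this)
        have hx' := K.perp_w (K.T_conj hm' hwT) hw' hwA' hpQ' ((hp.conj D m).sq D) h0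
          ((Commute.conj_iff m).2 hc)
        have hone := (K.d_one_iff ((hp.conj D m).sq D)).2 hx'
        rw [hone] at hd
        exact (K.T_conj hm' K.T_z).1.ne_one D hd.symm
    · exact hβA (Or.inl rfl) hm
    · exact hβA (Or.inr rfl) hm
  · -- the point is moved onto the other points of the line
    have hgiso := D.act_iso hpz
    have hgg : g * g = 1 := by rw [hg, ← D.act_mul _ _ hpz hpz, hp.sq D, D.act_one]
    obtain ⟨β, γ, hpt⟩ : ∃ β γ : ZMod 2, g.val *ᵥ t0 = β • rr + γ • t0 := by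
      have hcomm : D.act (K.cEl ((a, b), i, j, k, l)) * g = g * D.act (K.cEl ((a, b), i, j, k, l)) := by
        rw [hg, ← D.act_mul _ _ hwz hpz, ← D.act_mul _ _ hpz hwz, hc.eq]
      have e := congrArg (fun k : GL ι (ZMod 2) => k.val *ᵥ yo) hcomm
      simp only [hact, mul_act] at e
      rw [sGL_apply D.space K.pt.cls_sing hrr0 (g.val *ᵥ yo),
        sGL_apply D.space K.pt.cls_sing hrr0 yo, hyo0, zero_smul, add_zero, mul_zero, add_zero, hyo,
        one_smul, Matrix.mulVec_add, add_assoc, add_right_inj] at e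
      exact ⟨_, _, e.symm⟩
    have hβ : β = 1 := (bit β).resolve_left fun h0 => by
      rw [h0, zero_smul, zero_add] at hpt
      rcases bit γ with rfl | rfl
      · rw [zero_smul] at hpt
        exact K.pt.cls_ne (by
          rw [← ht0, ← act_twice D.space hgiso hgg t0, hpt, Matrix.mulVec_zero])
      · exact hfix (by rw [hpt, one_smul])
    rw [hβ, one_smul] at hpt
    obtain ⟨qc, hqc⟩ : ∃ qc, qc = D.zt t 0 (γ + 1) * (pick q1 k * pick q2 l) := ⟨_, rfl⟩
    have hqcQ : qc ∈ D.Q := hqc ▸ mul_mem (K.pt.inA_mem (K.pt.zt_A _ _)).1 (K.qi_facts k l).1.1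
    have hqcc : D.cls qc = nMap g t0 := by
      rw [hqc, D.cls_mul _ (K.pt.inA_mem (K.pt.zt_A _ _)).1 _ (K.qi_facts k l).1.1,
        (K.qi_facts k l).2, ← hrr, nMap_apply, hpt]
      have : D.cls (D.zt t 0 (γ + 1)) = (γ + 1) • t0 := by
        rcases bit (γ + 1) with e | e <;> rw [e] <;> simp [Data.zt, D.cls_one, ht0]
      rw [this, add_smul, one_smul]; abel
    have hok : OkC ((0, γ + 1), k, l, 0, 0) := by
      rcases code_cases _ he (fun h0 => hQ (by rw [show (i, j, k, l) = 0 from h0]; rfl)) with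
        ⟨h1, h2, -⟩ | ⟨h1, h2⟩ | ⟨h1, h2⟩ <;> dsimp only at h1 h2 <;> subst h1 h2
      · exact absurd rfl hQ
      all_goals rcases bit γ with rfl | rfl <;> decide
    have hq2 : ((k, l, 0, 0) : ZMod 2 × ZMod 2 × ZMod 2 × ZMod 2) ≠ 0 := fun h0 => by
      simp only [Prod.mk_eq_zero] at h0
      exact hQ (by simp [h0.1, h0.2.1])
    have hqe : qc = K.cEl ((0, γ + 1), k, l, 0, 0) := by rw [hqc]; simp [cEl, elm]
    refine K.off_point hp hz hpQ (hqe ▸ (K.T_cEl hok).1) hqcQ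
      (fun h => hq2 ((K.code_A _).1 (hqe ▸ h))) ?_
    rw [hqcc]
    exact nMap_fix D.space hgiso hgg t0

end Cfg

end Cfsg.Lib.Extra.SuzLocal
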