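import Cfsg.Agent.Lib.Extra.SuzLocal.Count

/-!
# Conjugates of `z` commuting with `z` in the dihedral groups with `x`

An involution `p ∈ Q` has `z` or an element of the four-group of the point as the central
involution of `⟨p, x⟩`. The conjugates of `z` outside `Q` are moved into `Q`.
-/

set_option autoImplicit false
set_option linter.style.haveILetI false
set_option linter.unusedSectionVars false

namespace Cfsg.Lib.Extra.SuzLocal

open Cfsg Module Cfsg.Lib.Linear.Orth Cfsg.Lib.Extra.Wide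
open scoped Matrix

universe u

variable {G : Type u} [Group G] {ι : Type} [Fintype ι] [DecidableEq ι] {D : Data G ι} [Finite G]

/-- A conjugate of `z` in `C(z)` outside `Q` fixing the class of a point lies at that point. -/
theorem root_point (hD : IsSix D) {p α : G} (hp : D.Cl p) (hpz : Commute p D.z) (hpQ : p ∉ D.Q)
    (hα : D.Point α) (hfix : (D.act p).val *ᵥ D.cls α = D.cls α) :
    Commute p α ∧ (p ∈ D.Qof α ∨ p ∈ D.Qof (D.z * α)) := by
  have hiso := D.act_iso hpz
  have hg2 : D.act p * D.act p = 1 := by rw [← D.act_mul _ _ hpz hpz, hp.sq D, D.act_one]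
  have hact : D.act p ≠ 1 := fun e => hpQ ((D.act_ker p hpz).1 e)
  set g := D.act p with hg
  have h4 := fix_ge_four D.space hiso hg2 D.six D.ev (D.act_mem p hpz)
  have hne6 : finrank (ZMod 2) (fixSpace g) ≠ Fintype.card ι := fun e => hact (by
    have h0 : LinearMap.range (nMap g) = ⊥ := Submodule.finrank_eq_zero.1 (by
      have := finrank_range_nMap g; omega)
    refine gl_ext fun w => ?_
    rw [Units.val_one, Matrix.one_mulVec, ← nMap_eq_zero]
    have hw : nMap g w ∈ LinearMap.range (nMap g) := ⟨w, rfl⟩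
    rwa [h0, Submodule.mem_bot] at hw)
  have h6 := hD.card
  have hrn := finrank_range_nMap g
  have hfix5 : finrank (ZMod 2) (fixSpace g) + 2 = Fintype.card ι := by
    obtain ⟨m, hm⟩ := (mem_omega_iff D.space (by omega) D.ev hiso).1 (D.act_mem p hpz)
    obtain ⟨n, hn⟩ := D.ev
    omega
  obtain ⟨a, b, y0, ha, ha0, hab, hbn, hgab, hy0⟩ := rank_two D.space hiso hg2 hfix5
  have hba : D.B b a = 0 := (D.space.symm _ _).trans hab
  have hbsp : b ∉ Submodule.span (ZMod 2) {a} := fun hm => by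
    obtain ⟨γ, hγ⟩ := Submodule.mem_span_singleton.1 hm; exact hbn γ hγ.symm
  -- the second vector is singular
  have hqb : D.qf b = 0 := by
    obtain ⟨d, hd, hdc⟩ := D.cls_surj y0
    have hpd : p * d * p⁻¹ ∈ D.Q := D.conj_mem hpz hd
    have hpi : p⁻¹ = p := inv_eq_of_mul_eq_one_right (hp.sq D)
    set t0 := p * d * p⁻¹ * d⁻¹ with ht0
    have ht0Q : t0 ∈ D.Q := mul_mem hpd (inv_mem hd)
    have ht0c : D.cls t0 = a := by
      rw [ht0, D.cls_mul _ hpd _ (inv_mem hd), D.cls_inv hd, D.act_cls p hpz d hd, hdc, ← hg,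
        ← nMap_apply, hy0]
    have ht02 : t0 * t0 = 1 := (D.cls_sq t0 ht0Q).2 (by rw [ht0c]; exact ha)
    have hpt : D.Point t0 := ⟨ht0Q, ht02, fun e => ha0 (by rw [← ht0c, e, D.cls_one]),
      fun e => ha0 (by rw [← ht0c, e, D.cls_z])⟩
    have hpt0 : Commute p t0 := mul_inv_eq_iff_eq_mul.1 (by
      calc p * t0 * p⁻¹ = p * p * d * p⁻¹ * d⁻¹ * p⁻¹ := by rw [ht0]; group
        _ = d * p * d⁻¹ * p⁻¹ := by rw [hp.sq D, hpi, one_mul]
        _ = t0⁻¹ := by rw [ht0]; group
        _ = t0 := inv_eq_of_mul_eq_one_right ht02)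
    rcases hpt.classify hpz hpt0 (hp.sq D) (by rw [ht0c]; exact hab) (by rw [ht0c]; exact hbsp)
      (by rw [ht0c, ← hg]; exact hgab) with h | ⟨u', F⟩
    · exact h.1
    · exact absurd hp F.not_cl
  have happ : ∀ w, g.val *ᵥ w = w + D.B a w • b + D.B b w • a := fun w => by
    rw [hgab, sGL_apply D.space ha hab, hqb, zero_mul, add_zero]
  set r := D.cls α with hr
  obtain ⟨hra, hrb⟩ : D.B a r = 0 ∧ D.B b r = 0 := by
    have e := (happ r).symm.trans hfix
    rw [add_assoc, add_eq_left] at e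
    have e1 : D.B a r = 0 := (bit _).resolve_right fun e1 => hbsp (by
      rw [e1, one_smul] at e
      rw [vadd_eq_zero e]
      exact Submodule.smul_mem _ _ (Submodule.mem_span_singleton_self _))
    rw [e1, zero_smul, zero_add] at e
    exact ⟨e1, (smul_eq_zero.1 e).resolve_right ha0⟩
  -- the class of the point lies on the line
  have hline : r = a ∨ r = b ∨ r = a + b := by
    by_contra hn
    simp only [not_or] at hn
    refine hD.noHalf ⟨Submodule.span (ZMod 2) {a} ⊔ Submodule.span (ZMod 2) {b} ⊔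
      Submodule.span (ZMod 2) {r}, ?_, ?_⟩
    · intro w hw
      obtain ⟨w1, hw1, w2, hw2, rfl⟩ := Submodule.mem_sup.1 hw
      obtain ⟨w3, hw3, w4, hw4, rfl⟩ := Submodule.mem_sup.1 hw1
      obtain ⟨α1, rfl⟩ := Submodule.mem_span_singleton.1 hw3
      obtain ⟨α2, rfl⟩ := Submodule.mem_span_singleton.1 hw4
      obtain ⟨α3, rfl⟩ := Submodule.mem_span_singleton.1 hw2
      simp [D.space.add, D.space.smul, ha, hqb, show D.qf r = 0 from hα.cls_sing, hab, hra, hrb]
    · have h1 : finrank (ZMod 2) ↥(Submodule.span (ZMod 2) {a} ⊔ Submodule.span (ZMod 2) {b}) = 2 := by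
        refine le_antisymm ((Submodule.finrank_add_le_finrank_add_finrank _ _).trans ?_) ?_
        · rw [finrank_span_singleton ha0]
          have := finrank_span_le_card (R := ZMod 2) ({b} : Set (ι → ZMod 2))
          simp at this; omega
        · have := finrank_sup_one hbsp
          rw [finrank_span_singleton ha0] at this; exact this
      have h2 : r ∉ Submodule.span (ZMod 2) {a} ⊔ Submodule.span (ZMod 2) {b} := fun hm => by
        obtain ⟨w3, hw3, w4, hw4, e⟩ := Submodule.mem_sup.1 hm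
        obtain ⟨α1, rfl⟩ := Submodule.mem_span_singleton.1 hw3
        obtain ⟨α2, rfl⟩ := Submodule.mem_span_singleton.1 hw4
        rcases bit α1 with rfl | rfl <;> rcases bit α2 with rfl | rfl <;>
          simp only [zero_smul, one_smul, zero_add, add_zero] at e
        exacts [hα.cls_ne e.symm, hn.2.1 e.symm, hn.1 e.symm, hn.2.2 e.symm]
      have e3 := finrank_sup_one h2
      have e4 := Submodule.finrank_add_le_finrank_add_finrank
        (Submodule.span (ZMod 2) {a} ⊔ Submodule.span (ZMod 2) {b}) (Submodule.span (ZMod 2) {r})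
      have e5 := finrank_span_le_card (R := ZMod 2) ({r} : Set (ι → ZMod 2))
      simp at e5
      omega
  have happ' : ∀ {c d : ι → ZMod 2}, D.qf c = 0 → D.qf d = 0 → D.B c d = 0 →
      (∀ w, D.B c w • d + D.B d w • c = D.B a w • b + D.B b w • a) → g = sGL D.qf D.B c d :=
    fun {c d} hc hd hcd hw => gl_ext fun w => by
      rw [happ, sGL_apply D.space hc hcd, hd, zero_mul, add_zero, add_assoc, add_assoc, hw]
  obtain ⟨d, hd, hrd, hdn, hgrd⟩ : ∃ d, D.qf d = 0 ∧ D.B r d = 0 ∧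
      d ∉ Submodule.span (ZMod 2) {r} ∧ g = sGL D.qf D.B r d := by
    rcases hline with e | e | e <;> rw [e]
    · exact ⟨b, hqb, hab, hbsp, hgab⟩
    · refine ⟨a, ha, hba, fun hm => ?_, happ' hqb ha hba fun w => add_comm _ _⟩
      obtain ⟨γ, hγ⟩ := Submodule.mem_span_singleton.1 hm
      rcases bit γ with rfl | rfl
      · exact ha0 (by simpa using hγ.symm)
      · exact hbn 1 (by simpa using hγ)
    · have hqab : D.qf (a + b) = 0 := by rw [D.space.add, ha, hqb, hab]; simp
      refine ⟨b, hqb, by rw [map_add, LinearMap.add_apply, hab, B_self D.space, add_zero],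
        fun hm => ?_, happ' hqab hqb (by rw [map_add, LinearMap.add_apply, hab, B_self D.space, add_zero])
        fun w => ?_⟩
      · obtain ⟨γ, hγ⟩ := Submodule.mem_span_singleton.1 hm
        rcases bit γ with rfl | rfl
        · exact hbn 0 (by simpa using hγ.symm)
        · exact ha0 (by simpa using hγ)
      · rw [map_add, LinearMap.add_apply, add_smul, smul_add]
        calc D.B a w • b + D.B b w • b + (D.B b w • a + D.B b w • b)
            = D.B a w • b + D.B b w • a + (D.B b w • b + D.B b w • b) := by abel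
          _ = _ := by rw [vadd_self, add_zero]
  -- a lift of the class commutes
  have hcomm : Commute p α := by
    have hrange : ∃ y, nMap g y = r := by
      obtain ⟨y, hy1, hy2⟩ := exists_sep D.space (Submodule.span (ZMod 2) {r}) hdn
      refine ⟨y, ?_⟩
      rw [nMap_apply, hgrd, sGL_apply D.space hα.cls_sing hrd, hd, zero_mul, add_zero,
        hy1 r (Submodule.mem_span_singleton_self r), zero_smul, add_zero, hy2, one_smul]
      rw [add_comm y r, add_assoc, vadd_self, add_zero]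
    obtain ⟨y, hy⟩ := hrange
    obtain ⟨e, he, hec⟩ := D.cls_surj y
    have hpe : p * e * p⁻¹ ∈ D.Q := D.conj_mem hpz he
    have hpi : p⁻¹ = p := inv_eq_of_mul_eq_one_right (hp.sq D)
    set t0 := p * e * p⁻¹ * e⁻¹ with ht0
    have ht0Q : t0 ∈ D.Q := mul_mem hpe (inv_mem he)
    have ht0c : D.cls t0 = r := by
      rw [ht0, D.cls_mul _ hpe _ (inv_mem he), D.cls_inv he, D.act_cls p hpz e he, hec, ← hg,
        ← nMap_apply, hy]
    have ht02 : t0 * t0 = 1 := (D.cls_sq t0 ht0Q).2 (by rw [ht0c]; exact hα.cls_sing)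
    have hpt0 : Commute p t0 := mul_inv_eq_iff_eq_mul.1 (by
      calc p * t0 * p⁻¹ = p * p * e * p⁻¹ * e⁻¹ * p⁻¹ := by rw [ht0]; group
        _ = e * p * e⁻¹ * p⁻¹ := by rw [hp.sq D, hpi, one_mul]
        _ = t0⁻¹ := by rw [ht0]; group
        _ = t0 := inv_eq_of_mul_eq_one_right ht02)
    rcases D.cls_eq hα.mem ht0Q ht0c.symm with e' | e'
    · exact e' ▸ hpt0
    · rw [e'] at hpt0
      have h2 := hpz.mul_right hpt0
      rwa [← mul_assoc, D.ctx.sq_z, one_mul] at h2
  refine ⟨hcomm, ?_⟩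
  rcases hα.classify hpz hcomm (hp.sq D) hrd hdn hgrd with h | ⟨u', F⟩
  · exact h.2.1
  · exact absurd hp F.not_cl

namespace Cfg

variable {x x' h t q1 q2 y1 y2 : G} {v u r1 r2 : ι → ZMod 2}
  (K : Cfg D x x' h t q1 q2 y1 y2 v u r1 r2)
include K

/-- The form in the coordinates. -/
theorem qf_perp {s : ι → ZMod 2} (hs : D.B (D.cls t) s = 0) :
    D.qf s = D.B v s + D.B u s + D.B v s * D.B u s + D.B r2 s * D.B r1 s := by
  obtain ⟨α, hα⟩ := K.coord.decomp hs
  generalize D.B v s = a, D.B u s = b, D.B r2 s = c, D.B r1 s = d at hα ⊢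
  subst hα
  have hqv := frame_qv K.coord.six K.fr
  simp only [D.space.add, D.space.smul, map_add, map_smul, LinearMap.add_apply, LinearMap.smul_apply,
    smul_eq_mul, K.pt.cls_sing, K.qr1, K.qr2, K.fr.qu, hqv, K.coord.uv, K.coord.rr, K.fr.uperp,
    K.fr.vperp, K.coord.pr, K.coord.pr', K.coord.ur, K.coord.ur', K.coord.vr, K.coord.vr']
  rcases bit α with rfl | rfl <;> rcases bit a with rfl | rfl <;> rcases bit b with rfl | rfl <;>
    rcases bit c with rfl | rfl <;> rcases bit d with rfl | rfl <;> decide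

/-- The square of `p x` for `p ∈ Q`. -/
theorem cls_comm_x {p : G} (hp : p ∈ D.Q) :
    p * (x * p * x) ∈ D.Q ∧ D.cls (p * (x * p * x)) = D.B (D.cls t) (D.cls p) • v +
      (D.B v (D.cls p) + D.B (D.cls t) (D.cls p)) • D.cls t := by
  have hxi : x⁻¹ = x := inv_eq_of_mul_eq_one_right K.x_sq
  have hc : x * p * x ∈ D.Q := by
    have := D.conj_mem K.xz hp
    rwa [hxi] at this
  refine ⟨mul_mem hp hc, ?_⟩
  have e := D.act_cls x K.xz p hp
  rw [hxi] at e
  rw [D.cls_mul _ hp _ hc, e, K.fr.act_eq, sGL_apply D.space K.pt.cls_sing K.fr.vperp,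
    frame_qv K.coord.six K.fr, one_mul, add_assoc, ← add_assoc, vadd_self, zero_add]

theorem d_perp {p : G} (hp : p ∈ D.Q) (h0 : D.B (D.cls t) (D.cls p) = 0) :
    D.InA t (p * (x * p * x)) := by
  obtain ⟨hd, hc⟩ := K.cls_comm_x hp
  rw [h0, zero_smul, zero_add, add_zero] at hc
  exact K.pt.inA_of_cls hd hc

theorem d_sq {p : G} (hp : p ∈ D.Q) (h1 : D.B (D.cls t) (D.cls p) = 1) :
    p * (x * p * x) * (p * (x * p * x)) = D.z := by
  obtain ⟨hd, hc⟩ := K.cls_comm_x hp
  refine (D.ctx.sq _ hd).resolve_left fun e => ?_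
  have hq := (D.cls_sq _ hd).1 e
  rw [hc, h1, one_smul, D.space.add, D.space.smul, K.pt.cls_sing, frame_qv K.coord.six K.fr,
    map_smul, D.space.symm v (D.cls t), K.fr.vperp] at hq
  simp at hq

/-- An involution of `Q` and the involution of the dihedral group with `x`. -/
theorem q_power {p a : G} (hp : p ∈ D.Q) (hp2 : p * p = 1) (ha : a ∈ Subgroup.zpowers (p * x))
    (ha2 : a * a = 1) (ha1 : a ≠ 1) (haQ : a ∈ D.Q) :
    (D.B (D.cls t) (D.cls p) = 1 ∧ a = D.z) ∨
      (D.B (D.cls t) (D.cls p) = 0 ∧ p * (x * p * x) = a) := by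
  have hd : p * (x * p * x) = (p * x) ^ 2 := by rw [pow_two]; group
  rcases bit (D.B (D.cls t) (D.cls p)) with h0 | h0
  · refine Or.inr ⟨h0, ?_⟩
    have hA := K.d_perp hp h0
    by_cases hd1 : p * (x * p * x) = 1
    · exfalso
      rw [hd1] at hd
      have hpx : p * x ≠ 1 := fun e => K.fr.not_mem (by
        rw [← inv_eq_of_mul_eq_one_right e]; exact inv_mem hp)
      have e := invol_unique ha (Subgroup.mem_zpowers _) ha2 ha1 (by rw [← pow_two, ← hd]) hpx
      refine K.fr.not_mem ?_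
      rw [show x = p⁻¹ * a by rw [e]; group]
      exact mul_mem (inv_mem hp) haQ
    · exact invol_unique (hd ▸ pow_mem (Subgroup.mem_zpowers _) 2) ha (by
        obtain ⟨i, j, e⟩ := K.pt.inA_zt hA
        rw [e, K.pt.zt_add, bit_self, bit_self]; simp [Data.zt]) hd1 ha2 ha1
  · refine Or.inl ⟨h0, invol_unique ha ?_ ha2 ha1 D.ctx.sq_z D.ctx.ne_one⟩
    rw [← K.d_sq hp h0, hd]
    exact mul_mem (pow_mem (Subgroup.mem_zpowers _) 2) (pow_mem (Subgroup.mem_zpowers _) 2)

theorem z_power_of {p : G} (hp : p ∈ D.Q) (h1 : D.B (D.cls t) (D.cls p) = 1) :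
    D.z ∈ Subgroup.zpowers (p * x) := by
  have hd : p * (x * p * x) = (p * x) ^ 2 := by rw [pow_two]; group
  rw [← K.d_sq hp h1, hd]
  exact mul_mem (pow_mem (Subgroup.mem_zpowers _) 2) (pow_mem (Subgroup.mem_zpowers _) 2)

theorem d_one_iff {p : G} (hp2 : p * p = 1) : p * (x * p * x) = 1 ↔ Commute p x := by
  have hxi : x⁻¹ = x := inv_eq_of_mul_eq_one_right K.x_sq
  constructor
  · intro e
    have e' := (mul_eq_one_iff_inv_eq.1 e).symm
    rw [inv_eq_of_mul_eq_one_right hp2] at e'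
    refine (mul_inv_eq_iff_eq_mul.1 ?_).symm
    rw [hxi]; exact e'
  · intro hc
    rw [← hc.eq, mul_assoc p x x, K.x_sq, mul_one, hp2]

/-- An involution of `Q` perpendicular to the point and to a class of the pair commutes with `x`. -/
theorem perp_comm {p : G} (hp : p ∈ D.Q) (hp2 : p * p = 1) (h0 : D.B (D.cls t) (D.cls p) = 0)
    (hr : D.B r1 (D.cls p) = 0 ∨ D.B r2 (D.cls p) = 0) : Commute p x := by
  have hq := (D.cls_sq p hp).1 hp2
  rw [K.qf_perp h0] at hq
  have hrr : D.B r2 (D.cls p) * D.B r1 (D.cls p) = 0 := by rcases hr with e | e <;> simp [e]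
  rw [hrr, add_zero] at hq
  refine (cq_rel K.fr ((K.pt.inCQ_iff hp).2 h0)).2 ?_
  generalize D.B v (D.cls p) = a, D.B u (D.cls p) = b at hq ⊢
  revert hq
  revert a b
  decide

/-- Conjugates of `z` in `C(z, x)` off the point fix no moved involution of `Q` perpendicular to it. -/
theorem perp_w {w p : G} (hw : K.InT w) (hwz : Commute w D.z) (hwA : ¬ D.InA t w) (hp : p ∈ D.Q)
    (hp2 : p * p = 1) (h0 : D.B (D.cls t) (D.cls p) = 0) (hpw : Commute p w) : Commute p x := by
  obtain ⟨a, i, j, k, l, ha, rfl, he2⟩ := K.cl_M (K.T_M hw hwz) hw.1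
  obtain ⟨e1, e2⟩ := (K.el_sq i j k l).1 he2
  refine K.perp_comm hp hp2 h0 ?_
  by_cases hkl : k = 0 ∧ l = 0
  · obtain ⟨rfl, rfl⟩ := hkl
    have hqy : elm q1 q2 y1 y2 i j 0 0 = pick q1 i * pick q2 j := by simp [elm]
    rw [hqy] at hpw hwA
    have hQ : a * (pick q1 i * pick q2 j) ∈ D.Q :=
      mul_mem (K.pt.inA_mem ha).1 (K.qi_facts i j).1.1
    have e := (D.cls_comm p hp _ hQ).1 hpw
    obtain ⟨γ, hγ⟩ := K.pt.cls_inA ha
    rw [D.cls_mul _ (K.pt.inA_mem ha).1 _ (K.qi_facts i j).1.1, (K.qi_facts i j).2, hγ,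
      D.space.symm] at e
    simp [h0] at e
    rcases q_cases i j (by simpa using e1) with ⟨rfl, rfl⟩ | ⟨rfl, rfl⟩ | ⟨rfl, rfl⟩
    · exact absurd (by simpa using ha) hwA
    · exact Or.inl (by simpa using e)
    · exact Or.inr (by simpa using e)
  · have hkl0 : k * l = 0 := by
      rcases el_cases i j k l e1 e2 with h' | ⟨rfl, rfl⟩ | ⟨-, -, rfl, rfl⟩ | ⟨-, -, rfl, rfl⟩
      · simp [h'.1]
      · simpa using e2
      · simp
      · simp
    have hc := K.yi_facts k l
    have hac : Commute a D.z := (K.A_M ha).1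
    have hel := (K.el_M i j k l).1
    have hact : D.act (a * elm q1 q2 y1 y2 i j k l) = sGL D.qf D.B (D.cls t) (k • r1 + l • r2) := by
      rw [D.act_mul _ _ hac hel, D.act_q (K.pt.inA_mem ha).1, one_mul, K.el_act]
    have e := D.act_cls _ (hac.mul_left hel) p hp
    rw [← hpw.eq, mul_inv_cancel_right, hact, sGL_apply D.space K.pt.cls_sing hc.2.2, h0,
      zero_smul, add_zero, mul_zero, add_zero] at e
    have e' := (smul_eq_zero.1 (add_eq_left.1 e.symm)).resolve_right K.pt.cls_ne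
    rcases q_cases k l hkl0 with ⟨rfl, rfl⟩ | ⟨rfl, rfl⟩ | ⟨rfl, rfl⟩
    · exact absurd ⟨rfl, rfl⟩ hkl
    · exact Or.inl (by simpa using e')
    · exact Or.inr (by simpa using e')

/-- Conjugation moving a conjugate of `z` in `Q` to `z` keeps its type. -/
theorem swap_type {β g : G} (hβ : K.InT β) (hβQ : β ∈ D.Q) (hg : Commute g x)
    (hgb : g * β * g⁻¹ = D.z) : g * D.z * g⁻¹ ∈ D.Q ∧ (D.InA t (g * D.z * g⁻¹) ↔ D.InA t β) := by
  refine ⟨?_, fun hA => ?_, fun hA => ?_⟩
  · have h1 := D.Qof_conj hβ.1 g (D.Qof_symm D.cl_z hβ.1 (by rw [D.Qof_self]; exact hβQ))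
    rwa [hgb, D.Qof_self] at h1
  · have ha := hA.resolve_left ((K.T_conj hg K.T_z).1.ne_one D)
    have hb := (K.move (g := g⁻¹) (a := g * D.z * g⁻¹) hg.inv_left ha
      (Or.inl (by group))).2.1 D.z (Or.inl rfl)
    have e : g⁻¹ * D.z * g⁻¹⁻¹ = β := by rw [← hgb]; group
    rw [e] at hb
    exact Or.inr hb
  · exact Or.inr ((K.move (g := g) (a := β) hg (hA.resolve_left (hβ.1.ne_one D))
      (Or.inl hgb)).2.1 D.z (Or.inl rfl))

/-- Elements at a point of `Q` centralizing `x` moved into `Q`. -/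
theorem transport {p β g : G} (hβ : K.InT β) (hβQ : β ∈ D.Q) (hβz : β ≠ D.z) (hp : D.Cl p)
    (hpβ : p ∈ D.Qof β) (hzp : D.z ∈ Subgroup.zpowers (p * x)) (hg : Commute g x)
    (hgb : g * β * g⁻¹ = D.z) : g * p * g⁻¹ ∈ D.Q ∧
      D.B (D.cls t) (D.cls (g * p * g⁻¹)) = 0 ∧
      g * p * g⁻¹ * (x * (g * p * g⁻¹) * x) = g * D.z * g⁻¹ ∧ D.InA t β := by
  have hpQ : g * p * g⁻¹ ∈ D.Q := by
    have := D.Qof_conj hβ.1 g hpβ
    rwa [hgb, D.Qof_self] at this
  obtain ⟨hzQ, hAiff⟩ := K.swap_type hβ hβQ hg hgb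
  have hzm : g * D.z * g⁻¹ ∈ Subgroup.zpowers (g * p * g⁻¹ * x) := by
    obtain ⟨i, hi⟩ := Subgroup.mem_zpowers_iff.1 hzp
    refine ⟨i, ?_⟩
    show (g * p * g⁻¹ * x) ^ i = g * D.z * g⁻¹
    rw [show g * p * g⁻¹ * x = g * (p * x) * g⁻¹ by
      rw [mul_assoc _ g⁻¹ x, hg.inv_left.eq]; group, conj_zpow, hi]
  have hT := K.T_conj hg K.T_z
  rcases K.q_power hpQ ((hp.conj D g).sq D) hzm (hT.1.sq D) (hT.1.ne_one D) hzQ with ⟨-, e⟩ | ⟨h0, e⟩
  · refine absurd (mul_left_cancel (mul_right_cancel (hgb.trans e.symm))).symm (Ne.symm hβz)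
  · exact ⟨hpQ, h0, e, hAiff.1 (e ▸ K.d_perp hpQ h0)⟩

end Cfg

end Cfsg.Lib.Extra.SuzLocal
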