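import Cfsg.Agent.Lib.Extra.Wide.Main
import Cfsg.Agent.Lib.Extra.Wide.Separate

/-!
# Six-dimensional data without totally singular halves

General facts on `2^(1+6).Ω⁻(6, 2)`: frames, transitivity on commuting pairs, and the coordinates
given by a frame and a hyperbolic pair perpendicular to it.
-/

set_option autoImplicit false
set_option linter.style.haveILetI false

namespace Cfsg.Lib.Extra.SuzLocal

open Cfsg Module Cfsg.Lib.Linear.Orth Cfsg.Lib.Extra.Wide
open scoped Matrix

variable {G : Type*} [Group G] {ι : Type} [Fintype ι] [DecidableEq ι] {D : Data G ι}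

/-- Six dimensions of minus type. -/
structure IsSix (D : Data G ι) : Prop where
  card : Fintype.card ι = 6
  noHalf : ¬ ∃ A, IsHalf D.qf A

theorem IsSix.conj (hD : IsSix D) (k : G) : IsSix (D.conj k) := ⟨hD.card, hD.noHalf⟩

theorem cl_of_conj {k a : G} (h : (D.conj k).Cl a) : D.Cl a := by
  obtain ⟨m, rfl⟩ := h
  exact ⟨m * k, by show m * k * D.z * (m * k)⁻¹ = m * (k * D.z * k⁻¹) * m⁻¹; group⟩

/-- A product of two reflections lies in `Ω`. -/
theorem rr_mem {a b : ι → ZMod 2} (ha : D.qf a = 1) (hb : D.qf b = 1) :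
    rGL D.qf a * rGL D.qf b ∈ Cfsg.Geo.omegaGL D.qf := by
  have h5 : 5 ≤ Fintype.card ι := by have := D.six; omega
  rcases omega_or D.space h5 D.ev (rGL_mem' D.space hb) ha with h | h
  · exfalso
    obtain ⟨m, hm⟩ := (mem_omega_iff D.space h5 D.ev (rGL_mem' D.space hb)).1 h
    obtain ⟨n, hn⟩ := D.ev
    have := fix_rGL_card D.space hb
    omega
  · exact h

variable [Finite G]

theorem frame_qv (hD : IsSix D) {x t : G} {v u : ι → ZMod 2} (F : D.Frame x t v u) : D.qf v = 1 :=
  F.qv_one hD.card hD.noHalf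

theorem frame_of_not_cl (hD : IsSix D) {y : G} (hyz : Commute y D.z) (hy : y * y = 1) (hy1 : y ≠ 1)
    (hn : ¬ D.Cl y) : ∃ t v u, D.Frame y t v u := by
  have hQ : y ∉ D.Q := fun h => hn (D.cl_of_mem h hy hy1)
  have hact : D.act y ≠ 1 := fun h => hQ ((D.act_ker y hyz).1 h)
  have hg2 : D.act y * D.act y = 1 := by rw [← D.act_mul _ _ hyz hyz, hy, D.act_one]
  obtain ⟨a, ha⟩ := (mem_omega_iff D.space (by rw [hD.card]; norm_num) D.ev (D.act_iso hyz)).1
    (D.act_mem y hyz)
  have h4 := fix_ge_four D.space (D.act_iso hyz) hg2 D.six D.ev (D.act_mem y hyz)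
  have hle : finrank (ZMod 2) (fixSpace (D.act y)) ≠ Fintype.card ι := fun e => hact (by
    have h0 : LinearMap.range (nMap (D.act y)) = ⊥ := Submodule.finrank_eq_zero.1 (by
      have := finrank_range_nMap (D.act y); omega)
    refine gl_ext fun w => ?_
    rw [Units.val_one, Matrix.one_mulVec, ← nMap_eq_zero]
    have hw : nMap (D.act y) w ∈ LinearMap.range (nMap (D.act y)) := ⟨w, rfl⟩
    rwa [h0, Submodule.mem_bot] at hw)
  have h6 := hD.card
  have := finrank_range_nMap (D.act y)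
  exact (D.classify_two hyz hy (by omega)).resolve_left hn

/-- A commuting pair of a conjugate of `z` and another involution is conjugate to a given one. -/
theorem to_pair (hD : IsSix D) {x t : G} {v u : ι → ZMod 2} (F : D.Frame x t v u) {a b : G}
    (ha : D.Cl a) (hb : b * b = 1) (hb1 : b ≠ 1) (hbn : ¬ D.Cl b) (hab : Commute a b) :
    ∃ g, g * a * g⁻¹ = D.z ∧ g * b * g⁻¹ = x := by
  obtain ⟨k, rfl⟩ := ha
  obtain ⟨t', v', u', F'⟩ := frame_of_not_cl hD (y := k⁻¹ * b * k) (commute_unconj k hab.symm)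
    (by rw [show k⁻¹ * b * k * (k⁻¹ * b * k) = k⁻¹ * (b * b) * k by group, hb]; group)
    (fun e => hb1 (by
      calc b = k * (k⁻¹ * b * k) * k⁻¹ := by group
        _ = 1 := by rw [e]; group))
    (fun h => hbn (by simpa [mul_assoc] using h.conj D k))
  obtain ⟨c, hc, hcx, -⟩ := F'.conj_of F ((frame_qv hD F').trans (frame_qv hD F).symm)
    (Or.inl (by rw [frame_qv hD F]; exact one_ne_zero))
  refine ⟨c * k⁻¹, ?_, ?_⟩
  · rw [show c * k⁻¹ * (k * D.z * k⁻¹) * (c * k⁻¹)⁻¹ = c * D.z * c⁻¹ by group, hc.eq,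
      mul_inv_cancel_right]
  · rw [← hcx]; group

theorem frame_zt {x t : G} {v u : ι → ZMod 2} (F : D.Frame x t v u) :
    ∃ u', D.Frame x (D.z * t) v u' := by
  have e := F.pt.cls_zt
  rcases F.pt.z_mul.classify F.comm_z (F.comm_z.mul_right F.comm_t) F.sq
    (v := v) (by rw [e]; exact F.vperp) (by rw [e]; exact F.vind) (by rw [e]; exact F.act_eq) with h | h
  · exact absurd h.2.2 F.not_cl
  · exact h

theorem frame_conj {x t : G} {v u : ι → ZMod 2} (F : D.Frame x t v u) {k : G}
    (hk : k * D.z * k⁻¹ = t) : ∃ v' u', (D.conj k).Frame x D.z v' u' := by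
  have hz : (D.conj k).z = t := hk
  have hQ : (D.conj k).Q = D.Qof t := (D.Qof_eq hk).symm
  have hQz : (D.conj k).Qof D.z = D.Q := (D.conj_Qof k D.cl_z).trans D.Qof_self
  have hp : (D.conj k).Point D.z :=
    ⟨hQ ▸ F.pt.mem_snd, D.ctx.sq_z, D.ctx.ne_one, fun e => F.pt.ne_z (hz.symm.trans e.symm)⟩
  obtain ⟨q, y, hx, hq, -, hy, -⟩ := F.dec
  have hqP : (D.conj k).InPQ D.z q := ⟨hQz.symm ▸ hq.1, hz.symm ▸ hq.2⟩
  obtain ⟨v', hv', hqv⟩ := hp.label hqP
  have hyz : Commute y (D.conj k).z := hz.symm ▸ F.pt.pq_commute_t hy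
  have hxv : (D.conj k).act x = sGL (D.conj k).qf (D.conj k).B ((D.conj k).cls D.z) v' := by
    rw [hx, (D.conj k).act_mul _ _ hqP.2 hyz, (D.conj k).act_q (c := y) (hQ.symm ▸ hy.1), mul_one, hqv]
  have hxt : Commute x (D.conj k).z := hz.symm ▸ F.comm_t
  rcases hp.classify hxt F.comm_z F.sq hv' (fun hm => by
      obtain ⟨α, hα⟩ := Submodule.mem_span_singleton.1 hm
      rw [← hα, siegel_zero (D.conj k).space hp.cls_sing] at hxv
      exact F.not_cl (D.cl_of_Qof F.pt.cl (hQ ▸ ((D.conj k).act_ker x hxt).1 hxv) F.sq F.ne_one))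
      hxv with h | ⟨u', h⟩
  · exact absurd (cl_of_conj h.2.2) F.not_cl
  · exact ⟨v', u', h⟩

/-- A frame with a hyperbolic pair perpendicular to it. -/
structure Coord (D : Data G ι) (x t : G) (v u r r' : ι → ZMod 2) : Prop where
  six : IsSix D
  frame : D.Frame x t v u
  pr : D.B (D.cls t) r = 0
  pr' : D.B (D.cls t) r' = 0
  ur : D.B u r = 0
  ur' : D.B u r' = 0
  vr : D.B v r = 0
  vr' : D.B v r' = 0
  rr : D.B r r' = 1

namespace Coord

variable {x t : G} {v u r r' : ι → ZMod 2} (K : Coord D x t v u r r')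
include K

theorem uv : D.B u v = 1 := K.frame.buv.trans (frame_qv K.six K.frame)

omit [Finite G] in
/-- Projection away from the pair. -/
theorem proj (w : ι → ZMod 2) :
    D.B (D.cls t) (w + D.B r' w • r + D.B r w • r') = D.B (D.cls t) w ∧
    D.B u (w + D.B r' w • r + D.B r w • r') = D.B u w ∧
    D.B v (w + D.B r' w • r + D.B r w • r') = D.B v w ∧
    D.B r (w + D.B r' w • r + D.B r w • r') = 0 ∧
    D.B r' (w + D.B r' w • r + D.B r w • r') = 0 := by
  simp [K.pr, K.pr', K.ur, K.ur', K.vr, K.vr', K.rr, D.space.symm r' r, B_self D.space, bit_self]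

/-- The dual of the point. -/
theorem exists_f : ∃ f, D.B (D.cls t) f = 1 ∧ D.B v f = 0 ∧ D.B u f = 0 ∧ D.B r f = 0 ∧
    D.B r' f = 0 := by
  obtain ⟨e, he, hve, hue⟩ := K.frame.exists_first
  obtain ⟨h1, h2, h3, h4, h5⟩ := K.proj e
  exact ⟨_, h1.trans he, h3.trans hve, h2.trans hue, h4, h5⟩

/-- A vector perpendicular to the coordinates lies on the point. -/
theorem mem_line {β : ι → ZMod 2} (hp : D.B (D.cls t) β = 0) (hu : D.B u β = 0) (hv : D.B v β = 0)
    (hr : D.B r β = 0) (hr' : D.B r' β = 0) : ∃ α : ZMod 2, β = α • D.cls t := by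
  obtain ⟨f, hpf, hvf, huf, hrf, hr'f⟩ := K.exists_f
  set p := D.cls t with hpdef
  set b : Fin 6 → (ι → ZMod 2) := ![p, f, u, v, r, r'] with hb
  let Φ : (ι → ZMod 2) →ₗ[ZMod 2] (Fin 6 → ZMod 2) := LinearMap.pi fun i => D.B (b i)
  have hΦs : Function.Surjective Φ := fun c => by
    refine ⟨c 0 • f + c 1 • p + c 2 • v + c 3 • u + c 4 • r' + c 5 • r, funext fun i => ?_⟩
    have hpu : D.B p u = 0 := K.frame.uperp
    have hpv : D.B p v = 0 := K.frame.vperp
    have hpr : D.B p r = 0 := K.pr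
    have hpr' : D.B p r' = 0 := K.pr'
    fin_cases i <;>
      simp [Φ, hb, hpf, hvf, huf, hrf, hr'f, hpu, hpv, hpr, hpr', K.ur, K.ur', K.vr, K.vr', K.rr,
        K.uv, D.space.symm f, D.space.symm u p, D.space.symm v p, D.space.symm r p, D.space.symm r' p,
        D.space.symm v u, D.space.symm r u, D.space.symm r v, D.space.symm r' u, D.space.symm r' v,
        D.space.symm r' r, B_self D.space]
  have hΦi : Function.Injective Φ := (LinearMap.injective_iff_surjective_of_finrank_eq_finrank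
    (by simp [K.six.card])).2 hΦs
  refine ⟨D.B f β, vadd_eq_zero (hΦi ?_)⟩
  refine (funext fun i => ?_).trans (map_zero Φ).symm
  have hfp : D.B f p = 1 := (D.space.symm _ _).trans hpf
  fin_cases i <;>
    simp [Φ, hb, hp, hu, hv, hr, hr', hfp, bit_self, B_self D.space,
      D.space.symm u p, D.space.symm v p, D.space.symm r p, D.space.symm r' p,
      show D.B p u = 0 from K.frame.uperp, show D.B p v = 0 from K.frame.vperp,
      show D.B p r = 0 from K.pr, show D.B p r' = 0 from K.pr']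

end Coord

end Cfsg.Lib.Extra.SuzLocal
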