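import Cfsg.Agent.Lib.Extra.SuzLocal.Six

/-!
# Second conjugates centralizing a four-group of the second class

For an involution `q ∈ Q` the involutions of `Qof q` moving `z` form a regular set for a complement
of `q` in `C_Q(q)`; a frame and its images under an element of order three fix one of them.
-/

set_option autoImplicit false
set_option linter.style.haveILetI false
set_option linter.unusedSectionVars false

namespace Cfsg.Lib.Extra.SuzLocal

open Cfsg Module Cfsg.Lib.Linear.Orth Cfsg.Lib.Extra.Wide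
open scoped Matrix

variable {G : Type*} [Group G] {ι : Type} [Fintype ι] [DecidableEq ι] {D : Data G ι} [Finite G]

theorem conj_point {t : G} (hp : D.Point t) {k : G} (hk : k * D.z * k⁻¹ = t) :
    (D.conj k).z = t ∧ (D.conj k).Q = D.Qof t ∧ (D.conj k).Qof D.z = D.Q ∧
      (D.conj k).Point D.z := by
  have hQ : (D.conj k).Q = D.Qof t := (D.Qof_eq hk).symm
  exact ⟨hk, hQ, (D.conj_Qof k D.cl_z).trans D.Qof_self,
    hQ ▸ hp.mem_snd, D.ctx.sq_z, D.ctx.ne_one, fun e => hp.ne_z (hk.symm.trans e.symm)⟩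

section Frame

variable {x t : G} {v u : ι → ZMod 2} (F : D.Frame x t v u)
include F

theorem fix_cls {β : ι → ZMod 2} (h : (D.act x).val *ᵥ β = β) :
    D.B (D.cls t) β = 0 ∧ D.B v β = 0 := by
  rw [F.act_eq, sGL_apply D.space F.pt.cls_sing F.vperp, add_assoc, add_eq_left] at h
  have h0 : D.B (D.cls t) β = 0 := (bit _).resolve_right fun e => F.vind (by
    rw [e, one_smul] at h
    rw [vadd_eq_zero h]
    exact Submodule.smul_mem _ _ (Submodule.mem_span_singleton_self _))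
  rw [h0, zero_smul, zero_add, mul_zero, add_zero] at h
  exact ⟨h0, (smul_eq_zero.1 h).resolve_right F.pt.cls_ne⟩

theorem cq_rel {a : G} (ha : D.InCQ t a) :
    Commute a x ↔ D.B u (D.cls a) = 0 ∧ D.B v (D.cls a) = 0 := by
  obtain ⟨q, y, rfl, hq, rfl, hy, hyv⟩ := F.dec
  have h := F.pt.swap_mul ha F.pt.pq_one hq hy (v := 0) (map_zero _) F.vperp
    (by rw [D.act_one, ← siegel_zero D.space F.pt.cls_sing 0, zero_smul]) hyv
  simp only [mul_one, map_zero, LinearMap.zero_apply, zero_add] at h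
  rw [D.space.symm _ (D.cls q), D.space.symm (D.cls a) v] at h
  constructor
  · intro hc
    rw [hc.eq] at h
    obtain ⟨h1, h2⟩ := F.pt.zt_eq_one (mul_eq_right.1 h.symm)
    rw [h2, add_zero] at h1
    exact ⟨h1, h2⟩
  · rintro ⟨h1, h2⟩
    rw [h1, h2, add_zero] at h
    simpa [Commute, SemiconjBy, Data.zt] using h

end Frame

/-- The input: a frame, an element of order three, and two non-commuting involutions of `Q`. -/
structure Tri (D : Data G ι) (x x' h t q q' : G) : Prop where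
  six : IsSix D
  frame : ∃ v u, D.Frame x t v u
  cq : D.InCQ t q
  cq' : D.InCQ t q'
  sq : q * q = 1
  sq' : q' * q' = 1
  anti : ¬ Commute q q'
  qx : Commute q x
  q'x : Commute q' x
  hz : Commute h D.z
  ht : Commute h t
  hq : Commute h q
  hq' : Commute h q'
  h3 : h ^ 3 = 1
  conj1 : h * x * h⁻¹ = x'
  conj2 : h * x' * h⁻¹ = x * x'
  xx' : Commute x x'

namespace Tri

variable {x x' h t q q' : G} (T : Tri D x x' h t q q')
include T

/-- The complement of `q` in its centralizer in `Q`. -/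
def InB (_T : Tri D x x' h t q q') (b : G) : Prop := b ∈ D.Q ∧ Commute b q ∧ Commute b q'

/-- The moving involutions at `q`. -/
def InS (_T : Tri D x x' h t q q') (s : G) : Prop :=
  s ∈ D.Qof q ∧ s * s = 1 ∧ ¬ Commute s D.z

theorem point : D.Point q :=
  ⟨T.cq.1, T.sq, fun e => T.anti (e ▸ Commute.one_left _),
    fun e => T.anti (e ▸ D.ctx.central q' T.cq'.1)⟩

theorem B_mul {a b : G} (ha : T.InB a) (hb : T.InB b) : T.InB (a * b) :=
  ⟨mul_mem ha.1 hb.1, ha.2.1.mul_left hb.2.1, ha.2.2.mul_left hb.2.2⟩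

theorem B_inv {a : G} (ha : T.InB a) : T.InB a⁻¹ :=
  ⟨inv_mem ha.1, ha.2.1.inv_left, ha.2.2.inv_left⟩

theorem B_conj {a c : G} (ha : T.InB a) (hcz : Commute c D.z) (hcq : Commute c q)
    (hcq' : Commute c q') : T.InB (c * a * c⁻¹) :=
  ⟨(Subgroup.mem_normalizer_iff.1 (D.ctx.norm c hcz) a).1 ha.1,
    (hcq.mul_left ha.2.1).mul_left hcq.inv_left, (hcq'.mul_left ha.2.2).mul_left hcq'.inv_left⟩

theorem S_conj {s c : G} (hs : T.InS s) (hcz : Commute c D.z) (hcq : Commute c q) :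
    T.InS (c * s * c⁻¹) := by
  refine ⟨?_, ?_, fun h => hs.2.2 ?_⟩
  · have := D.Qof_conj T.point.cl c hs.1
    rwa [hcq.eq, mul_inv_cancel_right] at this
  · rw [show c * s * c⁻¹ * (c * s * c⁻¹) = c * (s * s) * c⁻¹ by group, hs.2.1]; simp
  · refine (Commute.conj_iff c).1 ?_
    rwa [hcz.eq, mul_inv_cancel_right]

theorem free {s b : G} (hs : T.InS s) (hb : T.InB b) (hbs : b * s * b⁻¹ = s) : b = 1 := by
  obtain ⟨k, hk⟩ := T.point.cl
  obtain ⟨hz, hQ, hQz, hp⟩ := conj_point T.point hk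
  have hbP : (D.conj k).InPQ D.z b := ⟨hQz.symm ▸ hb.1, hz.symm ▸ hb.2.1⟩
  obtain ⟨β, hβ, hbβ⟩ := hp.label hbP
  have hsQ : s ∈ (D.conj k).Q := hQ.symm ▸ hs.1
  have hsB : (D.conj k).B ((D.conj k).cls D.z) ((D.conj k).cls s) = 1 :=
    (bit _).resolve_left fun e => hs.2.2 ((hp.inCQ_iff hsQ).2 e).2
  have e := (D.conj k).act_cls b hbP.2 s hsQ
  rw [hbs, hbβ, sGL_apply (D.conj k).space hp.cls_sing hβ, hsB, one_smul, add_assoc,
    left_eq_add] at e
  have hact : (D.conj k).act b = 1 := by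
    rw [hbβ, vadd_eq_zero e, siegel_zero (D.conj k).space hp.cls_sing]
  rcases T.point.inter hb.1 (hQ ▸ ((D.conj k).act_ker b hbP.2).1 hact) with e | e | e | e
  · exact e
  · exact absurd (mul_inv_eq_iff_eq_mul.1 hbs).symm (e ▸ hs.2.2)
  · exact absurd (e ▸ hb.2.2) T.anti
  · refine absurd ?_ T.anti
    have h1 := (D.ctx.central q' T.cq'.1).mul_left hb.2.2
    rwa [e, ← mul_assoc, D.ctx.sq_z, one_mul] at h1

theorem trans_S {s s' : G} (hs : T.InS s) (hs' : T.InS s') :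
    ∃ b, T.InB b ∧ b * s * b⁻¹ = s' := by
  obtain ⟨k, hk⟩ := T.point.cl
  obtain ⟨hz, hQ, hQz, hp⟩ := conj_point T.point hk
  have hsQ : s ∈ (D.conj k).Q := hQ.symm ▸ hs.1
  have hsQ' : s' ∈ (D.conj k).Q := hQ.symm ▸ hs'.1
  set p := (D.conj k).cls D.z with hpdef
  set f := (D.conj k).cls s with hfdef
  set f' := (D.conj k).cls s' with hf'def
  have hf : (D.conj k).B p f = 1 :=
    (bit _).resolve_left fun e => hs.2.2 ((hp.inCQ_iff hsQ).2 e).2
  have hf' : (D.conj k).B p f' = 1 :=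
    (bit _).resolve_left fun e => hs'.2.2 ((hp.inCQ_iff hsQ').2 e).2
  have hQf : (D.conj k).qf f = 0 := ((D.conj k).cls_sq s hsQ).1 hs.2.1
  have hQf' : (D.conj k).qf f' = 0 := ((D.conj k).cls_sq s' hsQ').1 hs'.2.1
  have hβ : (D.conj k).B p (f + f') = 0 := by rw [map_add, hf, hf', bit_self]
  obtain ⟨b, hb, hbv⟩ := hp.exists_label hβ
  have hclb : (D.conj k).cls (b * s * b⁻¹) = f' := by
    rw [(D.conj k).act_cls b hb.2 s hsQ, hbv, sGL_apply (D.conj k).space hp.cls_sing hβ, ← hfdef,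
      hf, (D.conj k).space.add, hQf, hQf', map_add, LinearMap.add_apply, B_self (D.conj k).space,
      (D.conj k).space.symm f' f]
    simp [bit_self, ← add_assoc, vadd_self]
  have hbQ : b ∈ D.Q := hQz ▸ hb.1
  have hbq : Commute b q := hz ▸ hb.2
  have hbs : b * s * b⁻¹ ∈ (D.conj k).Q :=
    hQ.symm ▸ by
      have := D.Qof_conj T.point.cl b hs.1
      rwa [hbq.eq, mul_inv_cancel_right] at this
  obtain ⟨b1, hb1Q, hb1q, hb1⟩ : ∃ b1, b1 ∈ D.Q ∧ Commute b1 q ∧ b1 * s * b1⁻¹ = s' := by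
    rcases (D.conj k).cls_eq hbs hsQ' hclb with e | e
    · exact ⟨b, hbQ, hbq, e.symm⟩
    · refine ⟨D.z * b, mul_mem D.ctx.mem hbQ, (D.ctx.central q T.cq.1).mul_left hbq, ?_⟩
      rw [hz] at e
      have hqs : Commute q s' := (D.ctx_Qof T.point.cl).central s' hs'.1
      have hbs' : b * s * b⁻¹ = q * s' := by rw [e, ← mul_assoc q, T.sq, one_mul]
      rcases (D.ctx_Qof T.point.cl).comm D.z T.point.mem_snd s' hs'.1 with e' | e'
      · exact absurd (commute_of_mul_mul e').symm hs'.2.2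
      · calc D.z * b * s * (D.z * b)⁻¹ = D.z * (b * s * b⁻¹) * D.z⁻¹ := by group
          _ = D.z * q * (s' * D.z⁻¹) := by rw [hbs']; group
          _ = q * (D.z * (s' * D.z⁻¹)) := by rw [(D.ctx.central q T.cq.1).eq]; group
          _ = q * q * s' := by rw [← mul_assoc D.z, mul_inv_eq_iff_eq_mul.1 e']; group
          _ = s' := by rw [T.sq, one_mul]
  by_cases hc : Commute b1 q'
  · exact ⟨b1, ⟨hb1Q, hb1q, hc⟩, hb1⟩
  · have h1 : b1 * q' * b1⁻¹ = D.z * q' :=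
      ((D.q_conj hb1Q T.cq'.1).resolve_left fun e => hc (mul_inv_eq_iff_eq_mul.1 e)).2
    have h2 : q * q' * q⁻¹ = D.z * q' :=
      ((D.q_conj T.cq.1 T.cq'.1).resolve_left fun e => T.anti (mul_inv_eq_iff_eq_mul.1 e)).2
    refine ⟨q * b1, ⟨mul_mem T.cq.1 hb1Q, (Commute.refl q).mul_left hb1q,
      mul_inv_eq_iff_eq_mul.1 ?_⟩, ?_⟩
    · calc q * b1 * q' * (q * b1)⁻¹ = q * (b1 * q' * b1⁻¹) * q⁻¹ := by group
        _ = q * D.z * q⁻¹ * (q * q' * q⁻¹) := by rw [h1]; group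
        _ = q' := by
          rw [h2, mul_inv_eq_iff_eq_mul.2 (D.ctx.central q T.cq.1).eq.symm, ← mul_assoc,
            D.ctx.sq_z, one_mul]
    · calc q * b1 * s * (q * b1)⁻¹ = q * (b1 * s * b1⁻¹) * q⁻¹ := by group
        _ = s' := by
          rw [hb1, ((D.ctx_Qof T.point.cl).central s' hs'.1).eq, mul_inv_cancel_right]

theorem exists_S : ∃ s, T.InS s := by
  obtain ⟨k, hk⟩ := T.point.cl
  obtain ⟨hz, hQ, hQz, hp⟩ := conj_point T.point hk
  obtain ⟨f, hf⟩ := exists_hyp (D.conj k).space (D.conj k).space.ndeg_top trivial hp.cls_ne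
    hp.cls_sing
  obtain ⟨s, hs, hsf⟩ := (D.conj k).cls_surj f
  refine ⟨s, hQ ▸ hs, ((D.conj k).cls_sq s hs).2 (by rw [hsf]; exact hf.singF), fun hc => ?_⟩
  have := (hp.inCQ_iff hs).1 ⟨hs, hc⟩
  rw [hsf, hf.pair] at this
  exact one_ne_zero this

theorem coord {v u : ι → ZMod 2} (F : D.Frame x t v u) :
    Coord D x t v u (D.cls q) (D.cls q') := by
  have h := (cq_rel F T.cq).1 T.qx
  have h' := (cq_rel F T.cq').1 T.q'x
  exact ⟨T.six, F, (F.pt.inCQ_iff T.cq.1).1 T.cq, (F.pt.inCQ_iff T.cq'.1).1 T.cq', h.1, h'.1, h.2,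
    h'.2, (bit _).resolve_left fun e => T.anti ((D.cls_comm q T.cq.1 q' T.cq'.1).2 e)⟩

theorem perp {a : G} (ha : T.InB a) :
    D.B (D.cls q) (D.cls a) = 0 ∧ D.B (D.cls q') (D.cls a) = 0 :=
  ⟨(D.cls_comm q T.cq.1 a ha.1).1 ha.2.1.symm, (D.cls_comm q' T.cq'.1 a ha.1).1 ha.2.2.symm⟩

theorem fixA {a : G} (ha : T.InB a) (hax : Commute a x) : D.InA t a := by
  obtain ⟨v, u, F⟩ := T.frame
  have hfix : (D.act x).val *ᵥ D.cls a = D.cls a := by
    rw [← D.act_cls x F.comm_z a ha.1, ← hax.eq, mul_inv_cancel_right]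
  obtain ⟨h1, h2⟩ := fix_cls F hfix
  have h3 := ((cq_rel F ((F.pt.inCQ_iff ha.1).2 h1)).1 hax).1
  obtain ⟨α, hα⟩ := (T.coord F).mem_line h1 h3 h2 (T.perp ha).1 (T.perp ha).2
  exact F.pt.inA_of_cls ha.1 hα

theorem x_z : Commute x D.z := by obtain ⟨v, u, F⟩ := T.frame; exact F.comm_z

theorem x_sq : x * x = 1 := by obtain ⟨v, u, F⟩ := T.frame; exact F.sq

theorem exists_lift_B {w : ι → ZMod 2} (h1 : D.B (D.cls q) w = 0) (h2 : D.B (D.cls q') w = 0) :
    ∃ c, T.InB c ∧ D.cls c = w := by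
  obtain ⟨c, hc, rfl⟩ := D.cls_surj w
  exact ⟨c, ⟨hc, ((D.cls_comm q T.cq.1 c hc).2 h1).symm, ((D.cls_comm q' T.cq'.1 c hc).2 h2).symm⟩,
    rfl⟩

theorem step {s b c : G} (hs : T.InS s) (hb : T.InB b) (hbs : x * s * x⁻¹ = b * s * b⁻¹)
    (hc : T.InB c) : T.InS (c * s * c⁻¹) ∧ T.InB (x * c * x⁻¹ * b * c⁻¹) ∧
      x * (c * s * c⁻¹) * x⁻¹ =
        x * c * x⁻¹ * b * c⁻¹ * (c * s * c⁻¹) * (x * c * x⁻¹ * b * c⁻¹)⁻¹ := by
  refine ⟨T.S_conj hs (D.ctx.central c hc.1).symm hc.2.1,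
    T.B_mul (T.B_mul (T.B_conj hc T.x_z T.qx.symm T.q'x.symm) hb) (T.B_inv hc), ?_⟩
  calc x * (c * s * c⁻¹) * x⁻¹ = x * c * x⁻¹ * (x * s * x⁻¹) * (x * c * x⁻¹)⁻¹ := by group
    _ = _ := by rw [hbs]; group

theorem cls_step {b c : G} (hb : T.InB b) (hc : T.InB c) :
    D.cls (x * c * x⁻¹ * b * c⁻¹) = nMap (D.act x) (D.cls c) + D.cls b := by
  have h := (T.B_conj hc T.x_z T.qx.symm T.q'x.symm).1
  rw [D.cls_mul _ (mul_mem h hb.1) _ (inv_mem hc.1), D.cls_mul _ h _ hb.1, D.cls_inv hc.1,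
    D.act_cls x T.x_z c hc.1, nMap_apply]
  abel

theorem exists_fixed : ∃ s, T.InS s ∧ x * s * x⁻¹ = s := by
  obtain ⟨v, u, F⟩ := T.frame
  have K := T.coord F
  have hv1 : D.qf v = 1 := frame_qv T.six F
  obtain ⟨s, hs⟩ := T.exists_S
  obtain ⟨b, hb, hbs⟩ := T.trans_S hs (T.S_conj hs T.x_z T.qx.symm)
  have hxx : x⁻¹ = x := inv_eq_of_mul_eq_one_right T.x_sq
  have hfree : x * b * x⁻¹ * b = 1 :=
    T.free hs (T.B_mul (T.B_conj hb T.x_z T.qx.symm T.q'x.symm) hb) (by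
      calc x * b * x⁻¹ * b * s * (x * b * x⁻¹ * b)⁻¹
          = x * b * x⁻¹ * (b * s * b⁻¹) * (x * b * x⁻¹)⁻¹ := by group
        _ = x * (b * s * b⁻¹) * x⁻¹ := by nth_rewrite 1 [hbs]; group
        _ = x * x * s * (x⁻¹ * x⁻¹) := by rw [hbs]; group
        _ = s := by rw [hxx, T.x_sq]; simp)
  have hfix : (D.act x).val *ᵥ D.cls b = D.cls b := by
    have e := congrArg D.cls hfree
    rw [D.cls_mul _ (T.B_conj hb T.x_z T.qx.symm T.q'x.symm).1 _ hb.1, D.cls_one,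
      D.act_cls x T.x_z b hb.1] at e
    exact vadd_eq_zero e
  obtain ⟨hpβ, hvβ⟩ := fix_cls F hfix
  obtain ⟨hrβ, hr'β⟩ := T.perp hb
  obtain ⟨α, hα⟩ := K.mem_line (β := D.cls b + D.B u (D.cls b) • v)
    (by simp [hpβ, show D.B (D.cls t) v = 0 from F.vperp]) (by simp [K.uv, bit_self])
    (by simp [hvβ, B_self D.space]) (by simp [hrβ, D.space.symm (D.cls q) v, K.vr])
    (by simp [hr'β, D.space.symm (D.cls q') v, K.vr'])
  have hn : ∀ w, nMap (D.act x) w =
      D.B (D.cls t) w • v + (D.B v w + D.B (D.cls t) w) • D.cls t := fun w => by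
    rw [F.nMap_act, hv1, one_mul]
  -- remove the part along `v`
  obtain ⟨f, hpf, hvf, huf, hrf, hr'f⟩ := K.exists_f
  obtain ⟨c1, hc1, hc1f⟩ := T.exists_lift_B (w := D.B u (D.cls b) • f)
    (by simp [hrf]) (by simp [hr'f])
  obtain ⟨hs1, hb1, hbs1⟩ := T.step hs hb hbs.symm hc1
  set b1 := x * c1 * x⁻¹ * b * c1⁻¹ with hb1d
  have hβ1 : ∃ α1 : ZMod 2, D.cls b1 = α1 • D.cls t := by
    refine ⟨D.B u (D.cls b) + α, ?_⟩
    rw [T.cls_step hb hc1, hc1f, hn]
    simp only [map_smul, hpf, hvf, smul_eq_mul, mul_one, mul_zero, zero_add]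
    rw [add_smul, ← hα]
    abel
  obtain ⟨α1, hα1⟩ := hβ1
  -- remove the part along the point
  obtain ⟨b0, hb0p, hb0u, hb0v⟩ := F.exists_dual 0 1
  obtain ⟨h1, h2, h3, h4, h5⟩ := K.proj b0
  obtain ⟨c2, hc2, hc2f⟩ := T.exists_lift_B
    (w := α1 • (b0 + D.B (D.cls q') b0 • D.cls q + D.B (D.cls q) b0 • D.cls q'))
    (by rw [map_smul, h4, smul_zero]) (by rw [map_smul, h5, smul_zero])
  obtain ⟨hs2, hb2, hbs2⟩ := T.step hs1 hb1 hbs1 hc2
  set b2 := x * c2 * x⁻¹ * b1 * c2⁻¹ with hb2d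
  have hβ2 : D.cls b2 = 0 := by
    rw [T.cls_step hb1 hc2, hc2f, hn, hα1]
    simp only [map_smul, h1, h3, hb0p, hb0v, smul_eq_mul, mul_zero, mul_one, zero_smul, zero_add,
      add_zero]
    exact vadd_self _
  rcases (D.cls_ker b2 hb2.1).1 hβ2 with e | e
  · exact ⟨_, hs2, by rw [hbs2, e]; group⟩
  obtain ⟨d, hd, hdv⟩ := T.exists_lift_B (w := v)
    (by rw [D.space.symm]; exact K.vr) (by rw [D.space.symm]; exact K.vr')
  have hdt : D.InCQ t d := (F.pt.inCQ_iff hd.1).2 (by rw [hdv]; exact F.vperp)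
  have hdx : x * d * x⁻¹ = D.z * d := by
    have hcl : D.cls (x * d * x⁻¹) = D.cls d := by
      rw [D.act_cls x T.x_z d hd.1, hdv, F.act_eq, sGL_perp D.space F.pt.cls_sing F.vperp F.vperp,
        B_self D.space, zero_smul, add_zero]
    refine (D.cls_eq hd.1 (T.B_conj hd T.x_z T.qx.symm T.q'x.symm).1 hcl.symm).resolve_left
      fun e' => ?_
    have := ((cq_rel F hdt).1 (mul_inv_eq_iff_eq_mul.1 e').symm).1
    rw [hdv, K.uv] at this
    exact one_ne_zero this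
  obtain ⟨hs3, -, hbs3⟩ := T.step hs2 hb2 hbs2 hd
  refine ⟨_, hs3, hbs3.trans ?_⟩
  have e3 : x * d * x⁻¹ * b2 * d⁻¹ = 1 := by
    rw [hdx, e, mul_assoc D.z, ← (D.ctx.central d hd.1).eq, ← mul_assoc, D.ctx.sq_z, one_mul,
      mul_inv_cancel]
  rw [e3]; group

theorem x'_facts : Commute x' D.z ∧ Commute x' q ∧ Commute x' q' ∧ x' * x' = 1 := by
  have hc : ∀ {a : G}, Commute h a → Commute x a → Commute x' a := fun ha hx => by
    rw [← T.conj1]; exact (ha.mul_left hx).mul_left ha.inv_left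
  refine ⟨hc T.hz T.x_z, hc T.hq T.qx.symm, hc T.hq' T.q'x.symm, ?_⟩
  rw [← T.conj1, show h * x * h⁻¹ * (h * x * h⁻¹) = h * (x * x) * h⁻¹ by group, T.x_sq]; simp

/-- A second conjugate at `q` moving `z` and centralizing the four-group. -/
theorem exists_mover_fixed : ∃ s, s ∈ D.Qof q ∧ s * s = 1 ∧ ¬ Commute s D.z ∧ Commute s x ∧
    Commute s x' := by
  obtain ⟨v, u, F⟩ := T.frame
  obtain ⟨hx'z, hx'q, hx'q', hx'2⟩ := T.x'_facts
  obtain ⟨s, hs, hsx⟩ := T.exists_fixed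
  obtain ⟨a, ha, has⟩ := T.trans_S hs (T.S_conj hs hx'z hx'q)
  have hax : Commute a x := by
    have e := T.free hs (T.B_mul (T.B_inv ha) (T.B_conj ha T.x_z T.qx.symm T.q'x.symm)) (by
      calc a⁻¹ * (x * a * x⁻¹) * s * (a⁻¹ * (x * a * x⁻¹))⁻¹
          = a⁻¹ * (x * (a * (x⁻¹ * s * x) * a⁻¹) * x⁻¹) * a := by group
        _ = a⁻¹ * (x * (x' * s * x'⁻¹) * x⁻¹) * a := by
          rw [show x⁻¹ * s * x = s by
            conv_lhs => rw [← hsx]
            group, has]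
        _ = a⁻¹ * (x' * (x * s * x⁻¹) * x'⁻¹) * a := by
          rw [show x * (x' * s * x'⁻¹) * x⁻¹ = x * x' * s * (x * x')⁻¹ by group, T.xx'.eq]
          group
        _ = s := by rw [hsx, ← has]; group)
    have e' : x * a * x⁻¹ = a := by
      have := congrArg (fun w => a * w) e
      simpa [← mul_assoc] using this
    exact (mul_inv_eq_iff_eq_mul.1 e').symm
  have haA := T.fixA ha hax
  have hha : h * a * h⁻¹ = a := by
    have hc : Commute h a := by
      rcases haA with e | e | e | e <;> rw [e]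
      exacts [Commute.one_right h, T.hz, T.ht, T.hz.mul_right T.ht]
    rw [hc.eq, mul_inv_cancel_right]
  obtain ⟨c, hc, hcs⟩ := T.trans_S hs (T.S_conj hs T.hz T.hq)
  -- the third involution moves `c` by the commutator with `a`
  have hx''z : Commute (x * x') D.z := T.x_z.mul_left hx'z
  have hx''q : Commute (x * x') q := T.qx.symm.mul_left hx'q
  have hx''q' : Commute (x * x') q' := T.q'x.symm.mul_left hx'q'
  have hs'' : x * x' * s * (x * x')⁻¹ = a * s * a⁻¹ := by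
    calc x * x' * s * (x * x')⁻¹ = x * (x' * s * x'⁻¹) * x⁻¹ := by group
      _ = (x * a * x⁻¹) * (x * s * x⁻¹) * (x * a * x⁻¹)⁻¹ := by rw [← has]; group
      _ = a * s * a⁻¹ := by rw [hsx, ← hax.eq, mul_inv_cancel_right]
  have hrel : x * x' * c * (x * x')⁻¹ * a = a * c := by
    have hB := T.B_mul (T.B_inv (T.B_mul ha hc))
      (T.B_mul (T.B_conj hc hx''z hx''q hx''q') ha)
    refine (inv_mul_eq_one.1 (T.free hs hB ?_)).symm
    calc (a * c)⁻¹ * (x * x' * c * (x * x')⁻¹ * a) * s *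
          ((a * c)⁻¹ * (x * x' * c * (x * x')⁻¹ * a))⁻¹
        = (a * c)⁻¹ * (x * x' * c * (x * x')⁻¹ * (a * s * a⁻¹) * (x * x' * c * (x * x')⁻¹)⁻¹) *
            (a * c) := by group
      _ = (a * c)⁻¹ * (x * x' * (h * s * h⁻¹) * (x * x')⁻¹) * (a * c) := by
          rw [← hs'', ← hcs]; group
      _ = (a * c)⁻¹ * (h * (x' * s * x'⁻¹) * h⁻¹) * (a * c) := by rw [← T.conj2]; group
      _ = (a * c)⁻¹ * (h * a * h⁻¹ * (h * s * h⁻¹) * (h * a * h⁻¹)⁻¹) * (a * c) := by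
          rw [← has]; group
      _ = s := by rw [hha, ← hcs]; group
  -- so its pull-back commutes with `x` up to `z`
  set g := h * h with hg
  set c' := g⁻¹ * c * g with hc'
  have hgz : Commute g⁻¹ D.z := (T.hz.mul_left T.hz).inv_left
  have hc'B : T.InB c' := by
    have := T.B_conj hc hgz (T.hq.mul_left T.hq).inv_left (T.hq'.mul_left T.hq').inv_left
    rwa [inv_inv] at this
  have hgx : g * x * g⁻¹ = x * x' := by
    rw [hg, ← T.conj2, ← T.conj1]; group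
  have hcaQ : a * c * a⁻¹ ∈ D.Q := mul_mem (mul_mem ha.1 hc.1) (inv_mem ha.1)
  have hxc' : x * c' * x⁻¹ = g⁻¹ * (a * c * a⁻¹) * g := by
    rw [show a * c * a⁻¹ = x * x' * c * (x * x')⁻¹ by rw [← hrel]; group, ← hgx, hc']; group
  have hclc : D.cls (a * c * a⁻¹) = D.cls c := by
    rw [D.cls_mul _ (mul_mem ha.1 hc.1) _ (inv_mem ha.1), D.cls_mul _ ha.1 _ hc.1, D.cls_inv ha.1,
      add_comm (D.cls a), add_assoc, vadd_self, add_zero]
  have hcl' : ∀ w ∈ D.Q, D.cls (g⁻¹ * w * g) = (D.act g⁻¹).val *ᵥ D.cls w := fun w hw => by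
    have := D.act_cls g⁻¹ hgz w hw
    rwa [inv_inv] at this
  have hfix : (D.act x).val *ᵥ D.cls c' = D.cls c' := by
    rw [← D.act_cls x T.x_z c' hc'B.1, hxc', hcl' _ hcaQ, hclc, ← hcl' _ hc.1]
  have hc't : Commute c' t := ((F.pt.inCQ_iff hc'B.1).2 (fix_cls F hfix).1).2
  have hgt : Commute g t := T.ht.mul_left T.ht
  have hct : Commute c t := by
    rw [show c = g * c' * g⁻¹ by rw [hc']; group]
    exact (hgt.mul_left hc't).mul_left hgt.inv_left
  have hac : a * c * a⁻¹ = c := by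
    rw [(F.pt.A_commute_cq haA ⟨hc.1, hct⟩).eq, mul_inv_cancel_right]
  have hc'A : D.InA t c' := T.fixA hc'B (by
    have e : x * c' * x⁻¹ = c' := by rw [hxc', hac]
    exact (mul_inv_eq_iff_eq_mul.1 e).symm)
  have hcA : c = c' := by
    have hcc : Commute g c' := by
      rcases hc'A with e | e | e | e <;> rw [e]
      exacts [Commute.one_right g, T.hz.mul_left T.hz, hgt, (T.hz.mul_left T.hz).mul_right hgt]
    rw [show c = g * c' * g⁻¹ by rw [hc']; group, hcc.eq, mul_inv_cancel_right]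
  -- `x` fixes the translated point, so the commutator is trivial
  have hcx : Commute c x := by
    rw [hcA]
    rcases hc'A with e | e | e | e <;> rw [e]
    exacts [Commute.one_left x, T.x_z.symm, F.comm_t.symm, T.x_z.symm.mul_left F.comm_t.symm]
  have hha2 : x * (h * s * h⁻¹) * x⁻¹ = h * s * h⁻¹ := by
    rw [← hcs, show x * (c * s * c⁻¹) * x⁻¹ = x * c * x⁻¹ * (x * s * x⁻¹) * (x * c * x⁻¹)⁻¹ by group,
      hsx, ← hcx.eq, mul_inv_cancel_right]
  have hxh : h⁻¹ * x * h = x * x' := by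
    have e : h * (x * x') * h⁻¹ = x := by
      calc h * (x * x') * h⁻¹ = h * x * h⁻¹ * (h * x' * h⁻¹) := by group
        _ = x' * (x * x') := by rw [T.conj1, T.conj2]
        _ = x := by rw [T.xx'.eq, ← mul_assoc, hx'2, one_mul]
    conv_lhs => rw [← e]
    group
  have has0 : a * s * a⁻¹ = s := by
    rw [← hs'', ← hxh]
    calc h⁻¹ * x * h * s * (h⁻¹ * x * h)⁻¹ = h⁻¹ * (x * (h * s * h⁻¹) * x⁻¹) * h := by group
      _ = s := by rw [hha2]; group
  refine ⟨s, hs.1, hs.2.1, hs.2.2, (mul_inv_eq_iff_eq_mul.1 hsx).symm, ?_⟩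
  rw [T.free hs ha has0] at has
  exact (mul_inv_eq_iff_eq_mul.1 (by rw [← has]; group)).symm

end Tri

end Cfsg.Lib.Extra.SuzLocal
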